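import Mathlib.GroupTheory.SpecificGroups.Alternating
import Mathlib.GroupTheory.SpecificGroups.Dihedral
import Mathlib.GroupTheory.Sylow
import Mathlib.LinearAlgebra.Matrix.ProjectiveSpecialLinearGroup
import Mathlib.LinearAlgebra.Matrix.SpecialLinearGroup

/-!
# Automorphisms of order three of small two-subgroups of two simple groups
-/

set_option autoImplicit false
set_option maxRecDepth 100000
set_option maxHeartbeats 4000000
set_option synthInstance.maxHeartbeats 1000000
set_option synthInstance.maxSize 4096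
set_option linter.style.haveILetI false

namespace Cfsg.Lib.U6Three

theorem a5_cent_four : ∀ x : alternatingGroup (Fin 5), x * x = 1 → x ≠ 1 →
    (Finset.univ.filter fun y : alternatingGroup (Fin 5) => y * x = x * y).card = 4 := by decide +kernel

/-- The element of order eight. -/
def q8R : Matrix.SpecialLinearGroup (Fin 2) (ZMod 7) := ⟨!![2, 1; 1, 1], by decide⟩

/-- An element inverting it. -/
def q8S : Matrix.SpecialLinearGroup (Fin 2) (ZMod 7) := ⟨!![1, 1; 5, 6], by decide⟩

/-- A lift of the dihedral group. -/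
def q8f : DihedralGroup 4 → Matrix.SpecialLinearGroup (Fin 2) (ZMod 7)
  | .r i => q8R ^ i.val
  | .sr i => q8S * q8R ^ i.val

theorem q8f_facts : (∀ a b : DihedralGroup 4, (q8f (a * b) = q8f a * q8f b ∨
      (q8f (a * b)).1 = -(q8f a * q8f b).1)) ∧
    ∀ a : DihedralGroup 4, a ≠ 1 → (q8f a).1 0 1 ≠ 0 ∨ (q8f a).1 1 0 ≠ 0 ∨ (q8f a).1 0 0 ≠ (q8f a).1 1 1 := by
  refine ⟨?_, ?_⟩ <;> decide +kernel

theorem scalar_entries {n : Matrix.SpecialLinearGroup (Fin 2) (ZMod 7)}
    (h : n ∈ Subgroup.center (Matrix.SpecialLinearGroup (Fin 2) (ZMod 7))) :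
    n.1 0 1 = 0 ∧ n.1 1 0 = 0 ∧ n.1 0 0 = n.1 1 1 := by
  obtain ⟨r, -, hr⟩ := Matrix.SpecialLinearGroup.mem_center_iff.1 h
  rw [← hr]
  simp

theorem psl7_card : Nat.card (Matrix.ProjectiveSpecialLinearGroup (Fin 2) (ZMod 7)) = 168 := by
  have hc : Nat.card (Matrix.SpecialLinearGroup (Fin 2) (ZMod 7)) = 336 := by
    rw [Nat.card_eq_fintype_card]; decide +kernel
  have hz : Nat.card (Subgroup.center (Matrix.SpecialLinearGroup (Fin 2) (ZMod 7))) = 2 := by
    have hm : (⟨!![6, 0; 0, 6], by decide⟩ : Matrix.SpecialLinearGroup (Fin 2) (ZMod 7)) ∈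
        Subgroup.center (Matrix.SpecialLinearGroup (Fin 2) (ZMod 7)) :=
      Matrix.SpecialLinearGroup.mem_center_iff.2 ⟨6, by decide, by decide⟩
    refine Nat.card_eq_two_iff.2 ⟨1, ⟨_, hm⟩, fun e => ?_, Set.eq_univ_of_forall fun p => ?_⟩
    · have := congrArg (fun w : Subgroup.center (Matrix.SpecialLinearGroup (Fin 2) (ZMod 7)) => w.1.1 0 0) e
      exact (show (1 : ZMod 7) ≠ 6 by decide) (by simpa using this)
    · obtain ⟨h1, h2, h3⟩ := scalar_entries p.2
      have hd := p.1.2
      rw [Matrix.det_fin_two, h1, h2, ← h3, mul_zero, sub_zero] at hd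
      rcases (show ∀ c : ZMod 7, c * c = 1 → c = 1 ∨ c = 6 by decide) _ hd with e | e
      · left
        refine Subtype.ext (Subtype.ext (Matrix.ext fun i j => ?_))
        fin_cases i <;> fin_cases j <;> simp [h1, h2, e, ← h3]
      · right
        refine Subtype.ext (Subtype.ext (Matrix.ext fun i j => ?_))
        fin_cases i <;> fin_cases j <;> simp [h1, h2, e, ← h3]
  have := Subgroup.card_eq_card_quotient_mul_card_subgroup
    (Subgroup.center (Matrix.SpecialLinearGroup (Fin 2) (ZMod 7)))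
  rw [hc, hz] at this
  show Nat.card (_ ⧸ _) = 168
  omega

theorem exists_d4_psl7 :
    ∃ f : DihedralGroup 4 →* Matrix.ProjectiveSpecialLinearGroup (Fin 2) (ZMod 7), Function.Injective f := by
  refine ⟨MonoidHom.mk' (fun a => QuotientGroup.mk (q8f a)) fun a b => ?_, ?_⟩
  · rw [← QuotientGroup.mk_mul, eq_comm, QuotientGroup.eq]
    rcases q8f_facts.1 a b with e | e
    · rw [e, inv_mul_cancel]; exact one_mem _
    · refine Matrix.SpecialLinearGroup.mem_center_iff.2 ⟨-1, by decide, ?_⟩
      have h2 : ((q8f a * q8f b)⁻¹ * q8f (a * b)).1 = ((q8f a * q8f b)⁻¹).1 * (q8f (a * b)).1 := rfl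
      rw [h2, e, Matrix.mul_neg, ← Matrix.SpecialLinearGroup.coe_mul, inv_mul_cancel,
        Matrix.SpecialLinearGroup.coe_one]
      ext i j
      fin_cases i <;> fin_cases j <;> simp
  · rw [injective_iff_map_eq_one]
    intro a ha
    by_contra hne
    obtain ⟨h1, h2, h3⟩ := scalar_entries ((QuotientGroup.eq_one_iff _).1 ha)
    rcases q8f_facts.2 a hne with h | h | h
    exacts [h h1, h h2, h h3]

/-- An element of order seven. -/
def psl7T : Matrix.SpecialLinearGroup (Fin 2) (ZMod 7) := ⟨!![1, 1; 0, 1], by decide⟩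

theorem psl7T_cent : psl7T ^ 7 = 1 ∧ ∀ g : Matrix.SpecialLinearGroup (Fin 2) (ZMod 7),
    ((g * psl7T).1 = (psl7T * g).1 ∨ (g * psl7T).1 = -(psl7T * g).1) → g ^ 7 = 1 ∨ (g ^ 7).1 = -1 := by
  refine ⟨?_, ?_⟩ <;> decide +kernel

theorem psl7_no_commute {s t : Matrix.ProjectiveSpecialLinearGroup (Fin 2) (ZMod 7)} (hs : orderOf s = 7)
    (ht : t * t = 1) (hc : Commute s t) : t = 1 := by
  classical
  haveI : Fact (Nat.Prime 7) := ⟨by decide⟩
  haveI : Fact (Nat.Prime 2) := ⟨Nat.prime_two⟩
  set u : Matrix.ProjectiveSpecialLinearGroup (Fin 2) (ZMod 7) := QuotientGroup.mk psl7T with hu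
  have hu7 : orderOf u = 7 := by
    refine orderOf_eq_prime (by rw [hu, ← QuotientGroup.mk_pow, psl7T_cent.1]; rfl) fun e => ?_
    exact absurd (scalar_entries ((QuotientGroup.eq_one_iff _).1 e)).1 (by decide)
  have syl : ∀ x : Matrix.ProjectiveSpecialLinearGroup (Fin 2) (ZMod 7), orderOf x = 7 →
      ∃ P : Sylow 7 (Matrix.ProjectiveSpecialLinearGroup (Fin 2) (ZMod 7)), (P : Subgroup _) = Subgroup.zpowers x := by
    intro x hx
    obtain ⟨P, hP⟩ := (IsPGroup.of_card (p := 7) (n := 1) (G := Subgroup.zpowers x)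
      (by rw [Nat.card_zpowers, hx, pow_one])).exists_le_sylow
    refine ⟨P, (Subgroup.eq_of_le_of_card_ge hP (le_of_eq ?_)).symm⟩
    rw [Nat.card_zpowers, hx, P.card_eq_multiplicity, psl7_card]
    rw [show (Nat.factorization 168) 7 = 1 by
      rw [show (168 : ℕ) = 7 * 24 by norm_num, Nat.factorization_mul (by norm_num) (by norm_num),
        Finsupp.add_apply, Nat.Prime.factorization_self (by decide), Nat.factorization_eq_zero_of_not_dvd (by norm_num)],
      pow_one]
  obtain ⟨P, hP⟩ := syl s hs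
  obtain ⟨Q, hQ⟩ := syl u hu7
  obtain ⟨g, hg⟩ := MulAction.exists_smul_eq (Matrix.ProjectiveSpecialLinearGroup (Fin 2) (ZMod 7)) Q P
  have hmem : g * u * g⁻¹ ∈ (P : Subgroup _) := by
    rw [← hg]
    exact ⟨u, hQ.ge (Subgroup.mem_zpowers _), by simp [MulAut.conj_apply]⟩
  rw [hP] at hmem
  obtain ⟨i, hi⟩ := Subgroup.mem_zpowers_iff.1 hmem
  have hcu : Commute u (g⁻¹ * t * g) := by
    have := ((hi ▸ hc.zpow_left i : Commute (g * u * g⁻¹) t)).map (MulAut.conj g⁻¹).toMonoidHom
    simpa [mul_assoc] using this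
  obtain ⟨m, hm⟩ := QuotientGroup.mk_surjective (g⁻¹ * t * g)
  have h7 : (g⁻¹ * t * g) ^ 7 = 1 := by
    rw [← hm] at hcu ⊢
    have h1 := hcu.eq
    rw [hu, ← QuotientGroup.mk_mul, ← QuotientGroup.mk_mul, QuotientGroup.eq] at h1
    obtain ⟨r, hr2, hr⟩ := Matrix.SpecialLinearGroup.mem_center_iff.1 h1
    have hmat : (m * psl7T).1 = (psl7T * m).1 * ((psl7T * m)⁻¹ * (m * psl7T)).1 := by
      rw [← Matrix.SpecialLinearGroup.coe_mul, mul_inv_cancel_left]
    have hr' : r = 1 ∨ r = 6 := by
      simp only [Fintype.card_fin] at hr2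
      exact (show ∀ c : ZMod 7, c ^ 2 = 1 → c = 1 ∨ c = 6 by decide) _ hr2
    have hcases : (m * psl7T).1 = (psl7T * m).1 ∨ (m * psl7T).1 = -(psl7T * m).1 := by
      rw [← hr] at hmat
      rcases hr' with rfl | rfl
      · exact Or.inl (by rw [hmat]; simp)
      · refine Or.inr ?_
        rw [hmat]
        ext i j
        fin_cases i <;> fin_cases j <;> simp [Matrix.mul_apply, show (6 : ZMod 7) = -1 by decide]
    rcases psl7T_cent.2 m hcases with e | e
    · rw [← QuotientGroup.mk_pow, e]; rfl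
    · rw [← QuotientGroup.mk_pow, QuotientGroup.eq_one_iff, Matrix.SpecialLinearGroup.mem_center_iff]
      refine ⟨-1, by decide, ?_⟩
      rw [e]
      ext i j
      fin_cases i <;> fin_cases j <;> simp
  have h2 : (g⁻¹ * t * g) * (g⁻¹ * t * g) = 1 := by
    rw [show g⁻¹ * t * g * (g⁻¹ * t * g) = g⁻¹ * (t * t) * g by group, ht]; group
  have h1 : g⁻¹ * t * g = 1 := by
    rw [← pow_two] at h2
    calc g⁻¹ * t * g = ((g⁻¹ * t * g) ^ 2) ^ 3 * (g⁻¹ * t * g) := by rw [h2, one_pow, one_mul]
      _ = (g⁻¹ * t * g) ^ 7 := by rw [← pow_mul, ← pow_succ]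
      _ = 1 := h7
  rw [show t = g * (g⁻¹ * t * g) * g⁻¹ by group, h1]
  group

/-- A subgroup of order prime to three of the second group centralising an involution in it. -/
theorem psl7_small (W : Subgroup (Matrix.ProjectiveSpecialLinearGroup (Fin 2) (ZMod 7)))
    (hW : (Nat.card W).Coprime 3) {t : Matrix.ProjectiveSpecialLinearGroup (Fin 2) (ZMod 7)} (ht1 : t ≠ 1)
    (ht : t * t = 1) (hc : ∀ w ∈ W, Commute w t) : Nat.card W ≤ 4 ∨ Nonempty (W ≃* DihedralGroup 4) := by
  classical
  haveI : Fact (Nat.Prime 7) := ⟨by decide⟩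
  haveI : Fact (Nat.Prime 2) := ⟨Nat.prime_two⟩
  have h7 : ¬ 7 ∣ Nat.card W := fun hd => by
    obtain ⟨w, hw⟩ := exists_prime_orderOf_dvd_card' 7 hd
    exact ht1 (psl7_no_commute (s := (w : _)) (by rw [Subgroup.orderOf_coe, hw]) ht (hc _ w.2))
  have hd : Nat.card W ∣ 8 := by
    have h := psl7_card ▸ Subgroup.card_subgroup_dvd_card W
    rw [show (168 : ℕ) = 3 * (7 * 8) by norm_num] at h
    exact ((Nat.prime_seven.coprime_iff_not_dvd.2 h7).symm).dvd_of_dvd_mul_left (hW.dvd_of_dvd_mul_left h)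
  rcases (Nat.dvd_prime_pow Nat.prime_two (m := 3)).1 (show Nat.card W ∣ 2 ^ 3 from hd) with ⟨i, hi, e⟩
  rcases Nat.lt_or_eq_of_le hi with hlt | rfl
  · left; rw [e]; interval_cases i <;> norm_num
  right
  have h8 : (Nat.factorization 168) 2 = 3 := by
    rw [show (168 : ℕ) = 2 ^ 3 * 21 by norm_num, Nat.factorization_mul (by norm_num) (by norm_num), Finsupp.add_apply,
      Nat.Prime.factorization_pow Nat.prime_two, Finsupp.single_eq_same, Nat.factorization_eq_zero_of_not_dvd (by norm_num)]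
  obtain ⟨f, hf⟩ := exists_d4_psl7
  have hf8 : Nat.card f.range = 8 := by
    rw [← Nat.card_congr (MonoidHom.ofInjective hf).toEquiv, DihedralGroup.nat_card]
  let S1 := Sylow.ofCard W (by rw [psl7_card, h8, e])
  let S2 := Sylow.ofCard f.range (by rw [psl7_card, h8, hf8]; norm_num)
  exact ⟨(S1.equiv S2).trans (MonoidHom.ofInjective hf).symm⟩

theorem d4_fix {φ : DihedralGroup 4 →* DihedralGroup 4} (hinj : Function.Injective φ) (h3 : ∀ a, φ (φ (φ a)) = a) :
    φ (DihedralGroup.r 1) = DihedralGroup.r 1 := by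
  have h1 : φ (DihedralGroup.r 1) * φ (DihedralGroup.r 1) ≠ 1 := by
    rw [← map_mul]
    exact fun e => absurd (hinj (e.trans (map_one φ).symm)) (by decide)
  rcases (show ∀ a : DihedralGroup 4, a * a ≠ 1 → a = DihedralGroup.r 1 ∨ a = DihedralGroup.r 3 by decide) _ h1 with
    e | e
  · exact e
  · exfalso
    have e3 : φ (DihedralGroup.r 3) = DihedralGroup.r 1 := by
      rw [show (DihedralGroup.r 3 : DihedralGroup 4) = DihedralGroup.r 1 * DihedralGroup.r 1 * DihedralGroup.r 1 by decide,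
        map_mul, map_mul, e]
      decide
    have := h3 (DihedralGroup.r 1)
    rw [e, e3, e] at this
    exact absurd this (by decide)

/-- A group of order two, four, or of order eight and dihedral, with an automorphism of order dividing three fixing
only two elements, has order two. -/
theorem two_of_auto {W : Type*} [Group W] [Finite W] (φ : W →* W) (hinj : Function.Injective φ)
    (h3 : ∀ w, φ (φ (φ w)) = w) {t : W} (ht : φ t = t) (ht1 : t ≠ 1) (hfix : ∀ w, φ w = w → w = 1 ∨ w = t)
    (hW : Nat.card W ≤ 4 ∨ Nonempty (W ≃* DihedralGroup 4)) : Nat.card W = 2 := by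
  classical
  haveI : Fintype W := Fintype.ofFinite W
  rcases hW with hle | ⟨⟨e⟩⟩
  · refine Nat.card_eq_two_iff.2 ⟨1, t, Ne.symm ht1, Set.eq_univ_of_forall fun w => ?_⟩
    refine hfix w (by_contra fun hne => ?_)
    have hw1 : w ≠ 1 := fun e => hne (by rw [e, map_one])
    have hwt : w ≠ t := fun e => hne (by rw [e, ht])
    have hf1 : φ w ≠ 1 := fun e => hw1 (hinj (e.trans (map_one φ).symm))
    have hft : φ w ≠ t := fun e => hwt (hinj (e.trans ht.symm))
    have hg : φ (φ w) ≠ w := fun e => hne (by have := h3 w; rwa [e] at this)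
    have hgf : φ (φ w) ≠ φ w := fun e => hne (hinj e)
    have hg1 : φ (φ w) ≠ 1 := fun e => hf1 (hinj (e.trans (map_one φ).symm))
    have hgt : φ (φ w) ≠ t := fun e => hft (hinj (e.trans ht.symm))
    have : ({1, t, w, φ w, φ (φ w)} : Finset W).card = 5 := by
      rw [Finset.card_insert_of_notMem (by simp [Ne.symm ht1, Ne.symm hw1, Ne.symm hf1, Ne.symm hg1]),
        Finset.card_insert_of_notMem (by simp [Ne.symm hwt, Ne.symm hft, Ne.symm hgt]),
        Finset.card_insert_of_notMem (by simp [Ne.symm hne, Ne.symm hg]), Finset.card_insert_of_notMem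
          (by simp [Ne.symm hgf]), Finset.card_singleton]
    have := Finset.card_le_univ ({1, t, w, φ w, φ (φ w)} : Finset W)
    rw [Nat.card_eq_fintype_card] at hle
    omega
  · exfalso
    have hfixr := d4_fix (φ := e.toMonoidHom.comp (φ.comp e.symm.toMonoidHom))
      (e.injective.comp (hinj.comp e.symm.injective)) fun a => by simp [h3]
    have : φ (e.symm (DihedralGroup.r 1)) = e.symm (DihedralGroup.r 1) := e.injective (by simpa using hfixr)
    rcases hfix _ this with h | h
    · have := congrArg e h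
      rw [MulEquiv.apply_symm_apply, map_one] at this
      exact absurd this (by decide)
    · have ht2 : t * t ≠ 1 := by
        rw [← h, ← map_mul]
        intro h'
        have := congrArg e h'
        simp only [map_mul, MulEquiv.apply_symm_apply, map_one] at this
        exact absurd this (by decide)
      rcases hfix (t * t) (by rw [map_mul, ht]) with h' | h'
      · exact ht2 h'
      · exact ht1 (mul_eq_left.1 h')

end Cfsg.Lib.U6Three
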