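import Cfsg.Agent.Lib.U6ThreeNine.Elems
import Cfsg.Agent.Lib.U6ThreeNine.Facts
import Cfsg.Agent.Lib.U6Three.Unique
import Cfsg.Agent.Lib.Fusion.Abelian
import Cfsg.Agent.S3331

/-!
# The centraliser of a hyperplane of the fixed group containing none of the four points
-/

set_option autoImplicit false
set_option linter.unusedSectionVars false
set_option linter.style.haveILetI false
set_option synthInstance.maxSize 4000
set_option maxRecDepth 8000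
set_option maxHeartbeats 800000

namespace Cfsg.Lib.U6Three

open Subgroup
open scoped commutatorElement

set_option synthInstance.maxHeartbeats 200000 in
theorem pair_norm : ∀ u v : V4, u ≠ 0 → nrm u = 0 →
    (∀ i j : ZMod 3, nrm (app (u, v, (0, 0, 1, 0), u + (2, 0, 0, 1)) (ptv i j)) = 0) →
    (u = (1, 0, 0, 0) ∨ u = (0, 0, 0, 2)) ∧ (v = (0, 1, 0, 0) ∨ v = (0, 2, 0, 0)) := by decide +kernel

theorem word_pair : app (cmp (vM 0 1) (uM 1 1)) (ptv 2 1) = (1, 0, 0, 0) ∧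
    app (cmp (vM 0 1) (uM 1 1)) (ptv 2 2) = (0, 0, 0, 1) ∧
    app (cmp (vM 0 1) (uM 1 1)) (ptv 1 2) = (2 : ZMod 3) • ptv 1 2 ∧
    app m14 (0, 0, 0, 2) = (2 : ZMod 3) • ((1, 0, 0, 0) : V4) ∧
    (∀ i j : ZMod 3, i ≠ 0 → j ≠ 0 → ptv i j = (2, 0, 0, 1) + i • ((0, 1, 0, 0) : V4) + j • ((0, 0, 1, 0) : V4)) := by
  decide +kernel

theorem mz_cube : ∀ c : Multiplicative (ZMod 3), c ^ 3 = 1 := by decide

theorem mz_inv_fix : ∀ c : Multiplicative (ZMod 3), c⁻¹ = c → c = 1 := by decide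

theorem neg_double : ∀ d : ZMod 3, -d = d * 2 ∧ -d = 2 * d ∧ 2 * d + d = 0 := by decide

theorem v14_split : ((2, 0, 0, 1) : V4) = (2 : ZMod 3) • (1, 0, 0, 0) + (0, 0, 0, 1) := by decide +kernel

theorem fix_of_sq_fix {G : Type*} [Group G] {g a : G} (h3 : ∃ n, g ^ 3 ^ n = 1) (h : Commute (g * g) a) :
    Commute g a := by
  obtain ⟨n, hn⟩ := h3
  obtain ⟨k, hk⟩ := (Odd.pow (by decide : Odd 3) : Odd (3 ^ n))
  have e : g = (g * g) ^ (k + 1) := by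
    rw [← pow_two, ← pow_mul, show 2 * (k + 1) = 3 ^ n + 1 by omega, pow_succ, hn, one_mul]
  rw [e]
  exact h.pow_left _

namespace Setting

variable {G : Type*} [Group G] [Finite G] {D : Data G} {T : Setting D}

theorem z_inv_of_cv {g : G} (e : g * T.cv (1, 0, 0, 0) * g⁻¹ = T.cv ((2 : ZMod 3) • ((1, 0, 0, 0) : V4))) :
    g * D.z * g⁻¹ = D.z⁻¹ := by
  rw [T.cv_smul, T.cv_z, show g * zp D.z T.ε * g⁻¹ = zp (g * D.z * g⁻¹) T.ε from (conj_pow).symm] at e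
  have h' := congrArg (fun u => zp u T.ε⁻¹) e
  have h3 : (g * D.z * g⁻¹) ^ 3 = 1 := by rw [conj_pow, D.z_cube]; group
  rw [zp_zp h3, mul_inv_cancel₀ T.ε_ne, zp_one, zp_zp D.z_cube, zp_zp D.z_cube,
    show T.ε * 2 * T.ε⁻¹ = -1 by rw [mul_right_comm, mul_inv_cancel₀ T.ε_ne, one_mul]; rfl,
    ← zp_inv D.z_cube, zp_one] at h'
  exact h'

namespace Scalar

/-- The centraliser of the hyperplane. -/
abbrev CB (_E : T.Scalar) (ys : G) : Subgroup G :=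
  centralizer ({T.cv (2, 0, 0, 1)} : Set G) ⊓ centralizer ({T.B.a2} : Set G) ⊓ centralizer ({ys} : Set G)

variable (E : T.Scalar) (ys : G)

include E

theorem mem_CB {g : G} : g ∈ E.CB ys ↔ Commute g (T.cv (2, 0, 0, 1)) ∧ Commute g T.B.a2 ∧ Commute g ys := by
  simp only [CB, Subgroup.mem_inf, mem_centralizer_singleton_iff, and_assoc]
  exact Iff.rfl

variable {ys} (h : ¬ T.IsThree) (hys : ys ∈ T.P) (hyJ : ys ∉ T.J)
include h hys hyJ

theorem fix_of_comm {g : G} (hg : g ∈ normalizer (T.J : Set G)) (hgy : Commute g ys) : g ∈ T.Fix := by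
  rcases fix_or_inv h hg with hf | hi
  · exact hf
  exfalso
  have h2 := hi _ hys
  rw [hgy.eq, mul_inv_cancel_right, ← pow_two] at h2
  have h3 := pow_mem h2 2
  rw [← pow_mul, show 2 * 2 = 3 + 1 from rfl, pow_succ, cube_P h hys, one_mul] at h3
  exact hyJ h3

theorem P_le_CB : T.P ≤ E.CB ys := fun g hg => (E.mem_CB ys).2
  ⟨T.h.comm_P T.B T.hx hg (T.cv_mem _), T.cv_a2 ▸ T.h.comm_P T.B T.hx hg (T.cv_mem _), comm_of_P hg hys⟩

/-- An element of the centraliser of the hyperplane normalising `P` fixes the two points. -/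
theorem norm_CB {g : G} (hg : g ∈ E.CB ys) (hn : ∀ p ∈ T.P, g * p * g⁻¹ ∈ T.P) :
    g ∈ normalizer (T.J : Set G) ∧ Commute g D.z ∧ Commute g T.x ∧
      (g * T.B.a1 * g⁻¹ = T.B.a1 ∨ g * T.B.a1 * g⁻¹ = T.B.a1⁻¹) := by
  obtain ⟨h14, ha, hgy⟩ := (E.mem_CB ys).1 hg
  have hgn : g ∈ normalizer (T.J : Set G) :=
    T.weakly_closed fun w hw => T.P_le_Stab (hn w (T.J_le_P hw))
  have hgF := E.fix_of_comm h hys hyJ hgn hgy
  obtain ⟨u, hu⟩ := T.exists_cv (T.norm_J hgn (T.cv_mem (1, 0, 0, 0)))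
  obtain ⟨v, hv⟩ := T.exists_cv (T.norm_J hgn (T.cv_mem (0, 1, 0, 0)))
  have hw : g * T.cv (0, 0, 0, 1) * g⁻¹ = T.cv (u + (2, 0, 0, 1)) := by
    rw [show ((0, 0, 0, 1) : V4) = (1, 0, 0, 0) + (2, 0, 0, 1) by decide +kernel, T.cv_add, T.cv_add, hu,
      show g * (T.cv (1, 0, 0, 0) * T.cv (2, 0, 0, 1)) * g⁻¹ =
        (g * T.cv (1, 0, 0, 0) * g⁻¹) * (g * T.cv (2, 0, 0, 1) * g⁻¹) by group, h14.eq, mul_inv_cancel_right]
  have hact : T.Act g (u, v, (0, 0, 1, 0), u + (2, 0, 0, 1)) :=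
    T.act_of_basis hgn hu.symm hv.symm (by rw [T.cv_a2, ha.eq, mul_inv_cancel_right]) hw
  have hu0 : u ≠ 0 := fun e => by
    rw [e, T.cv_zero, eq_comm, conj_eq_one_iff, T.cv_z] at hu
    exact T.ε_ne (zp_eq_one D.hz hu)
  obtain ⟨hu', hv'⟩ := pair_norm u v hu0 (nrm_facts.1 _ (T.isPtv_of_conj T.cv_z_pt hu.symm))
    fun i j => nrm_facts.1 _ (T.isPtv_of_conj (T.pt_ptv i j) (hact.eq _))
  rcases hu' with rfl | rfl
  · refine ⟨hgn, ?_, ?_, ?_⟩
    · exact commute_zp_z T.ε_ne (by rw [← T.cv_z]; exact mul_inv_eq_iff_eq_mul.1 hu.symm)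
    · have e : g * T.x * g⁻¹ = T.x := by
        rw [← T.cv_x, hw]; congr 1
      exact mul_inv_eq_iff_eq_mul.1 e
    · rw [← T.cv_a1, ← hv]
      rcases hv' with rfl | rfl
      · exact Or.inl rfl
      · exact Or.inr (by rw [T.cv_inv]; rfl)
  exfalso
  obtain ⟨g4, -, hg4y, hg4⟩ := E.exists_14
  have hg4F : g4 ∈ T.Fix := by
    rcases fix_or_inv h hg4.norm with hf | hi
    · exact hf
    exfalso
    have h2 := hi _ E.mem
    rw [hg4y.eq, mul_inv_cancel_right, ← pow_two] at h2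
    have h3 := pow_mem h2 2
    rw [← pow_mul, show 2 * 2 = 3 + 1 from rfl, pow_succ, cube_P h E.mem, one_mul] at h3
    exact E.y_not_J h3
  refine E.inv_not_Fix h (g := g4 * g) (mul_mem hg4.norm hgn) ?_ ?_ (mul_mem hg4F hgF)
  · refine (show Commute g4 T.B.a2 from mul_inv_eq_iff_eq_mul.1 ?_).mul_left ha
    rw [← T.cv_a2, hg4.eq, word_m14.2.1]
  · refine z_inv_of_cv (T := T) ?_
    rw [show g4 * g * T.cv (1, 0, 0, 0) * (g4 * g)⁻¹ = g4 * (g * T.cv (1, 0, 0, 0) * g⁻¹) * g4⁻¹ by group, ← hu,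
      hg4.eq, word_pair.2.2.2.1]

/-- `P` is a Sylow subgroup of the centraliser of the hyperplane. -/
theorem exists_sylow_CB : ∃ S : Sylow 3 (E.CB ys), (S : Subgroup (E.CB ys)) = T.P.subgroupOf (E.CB ys) := by
  haveI : Fact (Nat.Prime 3) := ⟨Nat.prime_three⟩
  set W := T.P.subgroupOf (E.CB ys)
  have hp : IsPGroup 3 W := fun w => ⟨1, Subtype.ext (Subtype.ext (by
    simpa using cube_P h (mem_subgroupOf.1 w.2)))⟩
  obtain ⟨S, hS⟩ := hp.exists_le_sylow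
  refine ⟨S, le_antisymm ?_ hS⟩
  by_contra hne
  haveI : Group.IsNilpotent (S : Subgroup (E.CB ys)) := IsPGroup.isNilpotent S.2
  have hlt : W.subgroupOf (S : Subgroup (E.CB ys)) < ⊤ :=
    lt_top_iff_ne_top.2 fun h => hne (subgroupOf_eq_top.1 h)
  obtain ⟨g, hgn, hgW⟩ := SetLike.exists_of_lt (Group.normalizerCondition_of_isNilpotent _ hlt)
  set g0 : G := ((g : E.CB ys) : G)
  have hnorm : ∀ p ∈ T.P, g0 * p * g0⁻¹ ∈ T.P := fun p hp => by
    have := (mem_normalizer_iff.1 hgn ⟨⟨p, E.P_le_CB h hys hyJ hp⟩, hS (mem_subgroupOf.2 hp)⟩).1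
      (mem_subgroupOf.2 (mem_subgroupOf.2 hp))
    simpa [W, mem_subgroupOf, g0] using this
  obtain ⟨hgJ, hz, hx, ha1⟩ := E.norm_CB h hys hyJ (g : E.CB ys).2 hnorm
  have ha2 := ((E.mem_CB ys).1 (g : E.CB ys).2).2.1
  have h3 : ∃ n, g0 ^ 3 ^ n = 1 := by
    obtain ⟨n, hn⟩ := S.2 g
    exact ⟨n, by simpa [g0] using congrArg (fun w : (S : Subgroup (E.CB ys)) => ((w : E.CB ys) : G)) hn⟩
  have hc : Commute g0 T.B.a1 := fix_of_sq_fix h3 (mul_inv_eq_iff_eq_mul.1 (by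
    rw [show g0 * g0 * T.B.a1 * (g0 * g0)⁻¹ = g0 * (g0 * T.B.a1 * g0⁻¹) * g0⁻¹ by group]
    rcases ha1 with e | e <;> rw [e]
    · exact e
    · rw [← conj_inv, e, inv_inv]))
  exact hgW (mem_subgroupOf.2 (mem_subgroupOf.2 ((T.h.mem_cent_J T.B T.hx).2
    ⟨⟨hz, by rw [commutatorElement_eq_one_iff_commute.2 hc]; exact D.Zc.one_mem,
      by rw [commutatorElement_eq_one_iff_commute.2 ha2]; exact D.Zc.one_mem⟩, hx⟩)))

/-- Fusion of elements of `P` inside the centraliser of the hyperplane. -/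
theorem fusion_CB {a g : G} (ha : a ∈ T.P) (hg : g ∈ E.CB ys) (hga : g * a * g⁻¹ ∈ T.P) :
    ∃ n ∈ E.CB ys, (∀ p ∈ T.P, n * p * n⁻¹ ∈ T.P) ∧ n * a * n⁻¹ = g * a * g⁻¹ := by
  haveI : Fact (Nat.Prime 3) := ⟨Nat.prime_three⟩
  obtain ⟨S, hS⟩ := E.exists_sylow_CB h hys hyJ
  haveI : IsMulCommutative (S : Subgroup (E.CB ys)) := by
    rw [hS]
    exact ⟨⟨fun u w => Subtype.ext (Subtype.ext (comm_of_P (mem_subgroupOf.1 u.2) (mem_subgroupOf.1 w.2)).eq)⟩⟩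
  obtain ⟨n, hn, e⟩ := Cfsg.Lib.Fusion.exists_normalizer_conj_of_abelian S
    (x := ⟨a, E.P_le_CB h hys hyJ ha⟩) (g := ⟨g, hg⟩) (hS.ge (mem_subgroupOf.2 ha))
    (hS.ge (mem_subgroupOf.2 hga))
  refine ⟨n, n.2, fun p hp => ?_, congrArg Subtype.val e⟩
  have := (mem_normalizer_iff.1 hn ⟨p, E.P_le_CB h hys hyJ hp⟩).1 (hS.ge (mem_subgroupOf.2 hp))
  exact mem_subgroupOf.1 (hS.le this)

/-- A character of `P` killing the hyperplane and the first line and not the centre. -/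
theorem exists_char : ∃ f : T.P →* Multiplicative (ZMod 3),
    ∀ (p : T.P) (v : V4) (m : ZMod 3), (p : G) = T.cv v * zp ys m → f p = Multiplicative.ofAdd (v.1 + v.2.2.2) := by
  have hcy : ∀ v, Commute (T.cv v) ys := fun v => comm_of_P (T.cv_P v) hys
  let φ : Multiplicative (V4 × ZMod 3) →* T.P := MonoidHom.mk'
    (fun w => ⟨T.cv w.toAdd.1 * zp ys w.toAdd.2, mul_mem (T.cv_P _) (zp_mem hys _)⟩) fun a b => Subtype.ext (by
      show T.cv (a.toAdd.1 + b.toAdd.1) * zp ys (a.toAdd.2 + b.toAdd.2) = _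
      rw [T.cv_add, zp_add (cube_P h hys)]
      show _ = T.cv a.toAdd.1 * zp ys a.toAdd.2 * (T.cv b.toAdd.1 * zp ys b.toAdd.2)
      rw [mul_assoc (T.cv a.toAdd.1), ← mul_assoc (T.cv b.toAdd.1), (zp_comm (hcy b.toAdd.1).symm a.toAdd.2).symm.eq]
      group)
  have hinj : Function.Injective φ := by
    rw [injective_iff_map_eq_one]
    intro w hw
    obtain ⟨⟨v, m⟩, rfl⟩ := Multiplicative.ofAdd.surjective w
    have e : T.cv v * zp ys m = 1 := congrArg Subtype.val hw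
    have hm : m = 0 := by
      by_contra hm
      have hJ : zp ys m ∈ T.J := by rw [eq_inv_of_mul_eq_one_right e]; exact inv_mem (T.cv_mem v)
      have h2 := zp_mem hJ m⁻¹
      rw [zp_zp (cube_P h hys), mul_inv_cancel₀ hm, zp_one] at h2
      exact hyJ h2
    rw [hm, zp_zero, mul_one, ← T.cv_zero] at e
    rw [T.cv_inj e, hm]; rfl
  have hbij : Function.Bijective φ := hinj.bijective_of_nat_card_le (le_of_eq (by
    rw [Nat.card_congr Multiplicative.toAdd, E.card_P h, Nat.card_prod, Nat.card_zmod]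
    simp [ZMod.card, Nat.card_eq_fintype_card]))
  let χ : Multiplicative (V4 × ZMod 3) →* Multiplicative (ZMod 3) :=
    MonoidHom.mk' (fun w => Multiplicative.ofAdd (w.toAdd.1.1 + w.toAdd.1.2.2.2)) fun a b => by
      show Multiplicative.ofAdd ((a.toAdd + b.toAdd).1.1 + (a.toAdd + b.toAdd).1.2.2.2) = _
      rw [← ofAdd_add]; congr 1
      simp only [Prod.fst_add, Prod.snd_add]; ring
  refine ⟨χ.comp (MulEquiv.ofBijective φ hbij).symm.toMonoidHom, fun p v m e => ?_⟩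
  have : (MulEquiv.ofBijective φ hbij).symm p = Multiplicative.ofAdd (v, m) :=
    (MulEquiv.symm_apply_eq _).2 (Subtype.ext e)
  show χ ((MulEquiv.ofBijective φ hbij).symm p) = _
  rw [this]; rfl

/-- The character of the centraliser of the hyperplane. -/
theorem exists_char_CB : ∃ F : E.CB ys →* Multiplicative (ZMod 3),
    F ⟨D.z, E.P_le_CB h hys hyJ (T.J_le_P (T.h.z_mem_J T.B T.hx))⟩ ≠ 1 ∧
    ∀ p (hp : p ∈ T.P), ∀ v m, p = T.cv v * zp ys m → v.1 + v.2.2.2 = 0 → Commute T.S.t ys →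
      F ⟨p, E.P_le_CB h hys hyJ hp⟩ = 1 := by
  haveI : Fact (Nat.Prime 3) := ⟨Nat.prime_three⟩
  obtain ⟨f, hf⟩ := E.exists_char h hys hyJ
  obtain ⟨S, hS⟩ := E.exists_sylow_CB h hys hyJ
  have hle := E.P_le_CB h hys hyJ
  set W := T.P.subgroupOf (E.CB ys)
  let f' : W →* Multiplicative (ZMod 3) := f.comp (subgroupOfEquivOfLe hle).toMonoidHom
  set F := MonoidHom.transfer f'
  have hidx : ¬ 3 ∣ W.index := hS ▸ S.not_dvd_index
  have hpow : ∀ p (hp : p ∈ T.P), (∀ n ∈ E.CB ys, (∀ q ∈ T.P, n * q * n⁻¹ ∈ T.P) → Commute n p) →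
      F ⟨p, hle hp⟩ = f ⟨p, hp⟩ ^ W.index := by
    intro p hp hfix
    have key : ∀ (k : ℕ) (g₀ : E.CB ys), g₀⁻¹ * ⟨p, hle hp⟩ ^ k * g₀ ∈ W →
        g₀⁻¹ * ⟨p, hle hp⟩ ^ k * g₀ = ⟨p, hle hp⟩ ^ k := by
      intro k g₀ hmem
      obtain ⟨n, hn, hnP, e⟩ := E.fusion_CB h hys hyJ (pow_mem hp k) (g := ((g₀⁻¹ : E.CB ys) : G)) (g₀⁻¹).2
        (by simpa [W, mem_subgroupOf] using hmem)
      refine Subtype.ext ?_
      rw [((hfix n hn hnP).pow_right k).eq, mul_inv_cancel_right] at e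
      simpa using e.symm
    rw [show F ⟨p, hle hp⟩ = f' ⟨⟨p, hle hp⟩ ^ W.index, _⟩ from MonoidHom.transfer_eq_pow _ _ key, ← map_pow]
    exact congrArg f (Subtype.ext (by simp [subgroupOfEquivOfLe]))
  refine ⟨F, ?_, ?_⟩
  · rw [hpow _ (T.J_le_P (T.h.z_mem_J T.B T.hx)) fun n hn hnP => (E.norm_CB h hys hyJ hn hnP).2.1]
    intro e
    have hz : D.z = T.cv (T.ε⁻¹, 0, 0, 0) * zp ys 0 := by
      rw [T.cv_el, zp_zero, mul_one, mul_inv_cancel₀ T.ε_ne, Basis.el, zp_one, zp_zero, zp_zero, mul_one, mul_one]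
    rw [hf _ _ _ hz, add_zero] at e
    have hcop : W.index.Coprime 3 := ((Nat.Prime.coprime_iff_not_dvd Nat.prime_three).2 hidx).symm
    have := eq_one_of_coprime hcop e (show Multiplicative.ofAdd (T.ε⁻¹) ^ 3 = 1 from
      mz_cube _)
    exact inv_ne_zero T.ε_ne (Multiplicative.ofAdd.injective (this.trans ofAdd_zero.symm))
  · intro p hp v m e hv hty
    have htC : T.S.t ∈ E.CB ys := (E.mem_CB ys).2
      ⟨(T.cv_t rfl).symm, ((D.mem_fixC.1 T.B.ha2).2).symm, hty⟩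
    have hfix0 : ∀ q ∈ ({T.cv (2, 0, 0, 1), T.B.a2, ys} : Set G), ∀ hq : q ∈ T.P, F ⟨q, hle hq⟩ = f ⟨q, hq⟩ ^ W.index := by
      intro q hq hqP
      refine hpow q hqP fun n hn _ => ?_
      obtain ⟨n1, n2, n3⟩ := (E.mem_CB ys).1 hn
      rcases hq with rfl | rfl | rfl
      exacts [n1, n2, n3]
    have hone : ∀ c : Multiplicative (ZMod 3), c = 1 → c ^ W.index = 1 := fun c hc => by rw [hc, one_pow]
    have f14 : F ⟨_, hle (T.cv_P (2, 0, 0, 1))⟩ = 1 := by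
      rw [hfix0 _ (by simp) (T.cv_P _)]
      exact hone _ (by rw [hf _ (2, 0, 0, 1) 0 (by rw [zp_zero, mul_one])]; rfl)
    have fa2 : F ⟨_, hle (T.cv_a2 ▸ T.cv_P _ : T.B.a2 ∈ T.P)⟩ = 1 := by
      rw [hfix0 T.B.a2 (by simp) (T.cv_a2 ▸ T.cv_P _)]
      exact hone _ (by rw [hf _ (0, 0, 1, 0) 0 (by show T.B.a2 = _; rw [T.cv_a2, zp_zero, mul_one])]; rfl)
    have fy : F ⟨_, hle hys⟩ = 1 := by
      rw [hfix0 _ (by simp) hys]
      exact hone _ (by rw [hf _ 0 1 (by rw [T.cv_zero, one_mul, zp_one])]; rfl)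
    have ha1P : T.B.a1 ∈ T.P := T.cv_a1 ▸ T.cv_P _
    have fa1 : F ⟨_, hle ha1P⟩ = 1 := by
      have e1 : F (⟨T.S.t, htC⟩ * ⟨_, hle ha1P⟩ * ⟨T.S.t, htC⟩⁻¹) = F ⟨_, hle ha1P⟩ := by
        rw [map_mul, map_mul, map_inv, mul_comm (F ⟨T.S.t, htC⟩), mul_inv_cancel_right]
      rw [show (⟨T.S.t, htC⟩ : E.CB ys) * ⟨_, hle ha1P⟩ * ⟨T.S.t, htC⟩⁻¹ = (⟨_, hle ha1P⟩)⁻¹ from Subtype.ext T.ta,
        map_inv] at e1
      exact mz_inv_fix _ e1
    have hzp : ∀ (q : G) (hq : q ∈ E.CB ys) (k : ZMod 3), F ⟨q, hq⟩ = 1 → F ⟨zp q k, zp_mem hq k⟩ = 1 :=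
      fun q hq k hk => by
        rw [show (⟨zp q k, zp_mem hq k⟩ : E.CB ys) = ⟨q, hq⟩ ^ k.val from rfl, map_pow, hk, one_pow]
    have ev : v = v.2.2.2 • ((2, 0, 0, 1) : V4) + v.2.1 • ((0, 1, 0, 0) : V4) + v.2.2.1 • ((0, 0, 1, 0) : V4) := by
      have := eq_neg_of_add_eq_zero_left hv
      rcases v with ⟨a, b, c, d⟩
      simp only at this
      subst this
      simp [Prod.ext_iff]
      exact (neg_double d).1
    rw [show (⟨p, hle hp⟩ : E.CB ys) = ⟨_, zp_mem (hle (T.cv_P (2, 0, 0, 1))) v.2.2.2⟩ *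
        ⟨_, zp_mem (hle ha1P) v.2.1⟩ * ⟨_, zp_mem (hle (T.cv_a2 ▸ T.cv_P _ : T.B.a2 ∈ T.P)) v.2.2.1⟩ *
        ⟨_, zp_mem (hle hys) m⟩ from Subtype.ext (by
      show p = zp (T.cv (2, 0, 0, 1)) v.2.2.2 * zp T.B.a1 v.2.1 * zp T.B.a2 v.2.2.1 * zp ys m
      rw [e]
      conv_lhs => rw [ev, T.cv_add, T.cv_add, T.cv_smul, T.cv_smul, T.cv_smul, T.cv_a1, T.cv_a2]),
      map_mul, map_mul, map_mul, hzp _ _ _ f14, hzp _ _ _ fa1, hzp _ _ _ fa2, hzp _ _ _ fy]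
    simp

/-- The hyperplane in coordinates. -/
theorem B0_form {b : G} (hb : b ∈ zpowers (T.cv (2, 0, 0, 1)) ⊔ zpowers T.B.a2 ⊔ zpowers ys) :
    ∃ a c m : ZMod 3, b = T.cv (2 * a, 0, c, a) * zp ys m := by
  let W : Subgroup G :=
    { carrier := {w | ∃ a c m : ZMod 3, w = T.cv (2 * a, 0, c, a) * zp ys m}
      one_mem' := ⟨0, 0, 0, by simp [zp_zero, show ((0, 0, 0, 0) : V4) = 0 from rfl, T.cv_zero]⟩
      mul_mem' := by
        rintro _ _ ⟨a, c, m, rfl⟩ ⟨a', c', m', rfl⟩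
        refine ⟨a + a', c + c', m + m', ?_⟩
        rw [show ((2 * (a + a'), 0, c + c', a + a') : V4) = (2 * a, 0, c, a) + (2 * a', 0, c', a') by
          simp [Prod.ext_iff, mul_add], T.cv_add, zp_add (cube_P h hys), mul_assoc (T.cv (2 * a, 0, c, a)),
          ← mul_assoc (zp ys m), (zp_comm (comm_of_P hys (T.cv_P _)) m).eq]
        group
      inv_mem' := by
        rintro _ ⟨a, c, m, rfl⟩
        refine ⟨-a, -c, -m, ?_⟩
        rw [mul_inv_rev, T.cv_inv, ← zp_inv (cube_P h hys), (zp_comm (comm_of_P hys (T.cv_P _)) m).inv_left.eq]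
        congr 2
        simp [Prod.ext_iff] }
  exact (sup_le (sup_le (zpowers_le.2 (show T.cv (2, 0, 0, 1) ∈ W from
    ⟨1, 0, 0, by simp [zp_zero]⟩)) (zpowers_le.2 (show T.B.a2 ∈ W from ⟨0, 1, 0, by simp [zp_zero, T.cv_a2]⟩)))
    (zpowers_le.2 (show ys ∈ W from ⟨0, 0, 1, by
      simp [show ((0, 0, 0, 0) : V4) = 0 from rfl, T.cv_zero, zp_one]⟩))) hb

/-- `P` in coordinates. -/
theorem P_form {p : G} (hp : p ∈ T.P) : ∃ v m, p = T.cv v * zp ys m := by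
  let f : T.J × ZMod 3 → T.P := fun p => ⟨p.1 * zp ys p.2, mul_mem (T.J_le_P p.1.2) (zp_mem hys _)⟩
  have hinj : Function.Injective f := fun p q e => by
    have e' : (p.1 : G) * zp ys p.2 = q.1 * zp ys q.2 := congrArg Subtype.val e
    have hj : zp ys (p.2 + -q.2) ∈ T.J := by
      rw [zp_add (cube_P h hys), ← zp_inv (cube_P h hys),
        show zp ys p.2 * (zp ys q.2)⁻¹ = (p.1 : G)⁻¹ * q.1 by
          rw [eq_inv_mul_iff_mul_eq, ← mul_assoc, e', mul_inv_cancel_right]]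
      exact mul_mem (inv_mem p.1.2) q.1.2
    have hq : p.2 = q.2 := by
      by_contra hne
      have h3 := zp_mem hj (p.2 + -q.2)⁻¹
      rw [zp_zp (cube_P h hys), mul_inv_cancel₀ (fun e0 => hne (add_neg_eq_zero.1 e0)), zp_one] at h3
      exact hyJ h3
    exact Prod.ext (Subtype.ext (mul_right_cancel (hq ▸ e'))) hq
  obtain ⟨⟨⟨j, hj⟩, m⟩, e⟩ := (hinj.bijective_of_nat_card_le (by
    rw [Nat.card_prod, T.h.card_J T.B T.hx, Nat.card_zmod, E.card_P h])).2 ⟨p, hp⟩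
  obtain ⟨v, rfl⟩ := T.exists_cv hj
  exact ⟨v, m, (congrArg Subtype.val e).symm⟩

/-- Only elements of `P` centralise the first line modulo the hyperplane. -/
theorem cent_a1_CB {g b : G} (hg : g ∈ E.CB ys) (hb : b ∈ zpowers (T.cv (2, 0, 0, 1)) ⊔ zpowers T.B.a2 ⊔ zpowers ys)
    (e : g * T.B.a1 * g⁻¹ = T.B.a1 * b) : g ∈ T.P := by
  have hbP : b ∈ T.P := (sup_le (sup_le (zpowers_le.2 (T.cv_P _)) (zpowers_le.2 (T.cv_a2 ▸ T.cv_P _)))
    (zpowers_le.2 hys)) hb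
  have ha1 : T.B.a1 ∈ T.P := T.cv_a1 ▸ T.cv_P _
  obtain ⟨n, hn, hnP, en⟩ := E.fusion_CB h hys hyJ ha1 hg (e ▸ mul_mem ha1 hbP)
  obtain ⟨f, hf⟩ := E.exists_char h hys hyJ
  obtain ⟨-, -, -, hpm⟩ := E.norm_CB h hys hyJ hn hnP
  rw [en, e] at hpm
  have hb1 : b = 1 := by
    rcases hpm with e1 | e1
    · exact mul_eq_left.1 e1
    exfalso
    -- the hyperplane does not contain the first line
    have hba : b = T.B.a1 := by
      have e2 : b = T.B.a1⁻¹ * T.B.a1⁻¹ := by rw [eq_inv_mul_iff_mul_eq]; exact e1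
      rw [e2, ← mul_inv_rev, inv_eq_iff_mul_eq_one, ← pow_two, ← pow_succ]
      exact T.B.a1_cube
    obtain ⟨a, c, m, hw⟩ := E.B0_form h hys hyJ hb
    rw [hba, ← T.cv_a1] at hw
    have hm : m = 0 := by
      by_contra hm
      have hJ : zp ys m ∈ T.J := by
        rw [← inv_mul_cancel_left (T.cv (2 * a, 0, c, a)) (zp ys m), ← hw]
        exact mul_mem (inv_mem (T.cv_mem _)) (T.cv_mem _)
      have h2 := zp_mem hJ m⁻¹
      rw [zp_zp (cube_P h hys), mul_inv_cancel₀ hm, zp_one] at h2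
      exact hyJ h2
    rw [hm, zp_zero, mul_one] at hw
    exact absurd (congrArg (fun v : V4 => v.2.1) (T.cv_inj hw)) (by simp)
  rw [hb1, mul_one] at e
  have hga : Commute g T.B.a1 := mul_inv_eq_iff_eq_mul.1 e
  obtain ⟨g14, g2, gy⟩ := (E.mem_CB ys).1 hg
  have hpt : ∀ i j : ZMod 3, i ≠ 0 → j ≠ 0 → Commute g (T.cv (ptv i j)) := fun i j hi hj => by
    rw [word_pair.2.2.2.2 i j hi hj, T.cv_add, T.cv_add, T.cv_smul, T.cv_smul, T.cv_a1, T.cv_a2]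
    exact (g14.mul_right (zp_comm hga.symm i).symm).mul_right (zp_comm g2.symm j).symm
  obtain ⟨q, -, hq⟩ := T.exists_v 0 1
  obtain ⟨q', -, hq'⟩ := T.exists_u 1 1
  have hqq := T.act_cmp hq hq'
  set k := q * q'
  have tr : ∀ {i j : ZMod 3}, i ≠ 0 → j ≠ 0 → Commute (k * g * k⁻¹) (T.cv (app (cmp (vM 0 1) (uM 1 1)) (ptv i j))) :=
    fun {i j} hi hj => by
      rw [← hqq.eq]
      simpa [mul_assoc] using (hpt i j hi hj).map (MulAut.conj k).toMonoidHom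
  have hkz : Commute (k * g * k⁻¹) D.z := commute_zp_z T.ε_ne (by
    have := tr (i := 2) (j := 1) (by decide) (by decide)
    rwa [word_pair.1, T.cv_z] at this)
  have hkx : Commute (k * g * k⁻¹) T.x := by
    have := tr (i := 2) (j := 2) (by decide) (by decide)
    rwa [word_pair.2.1, T.cv_x] at this
  have hkp : Commute (k * g * k⁻¹) (T.cv (ptv 1 2)) := by
    have := tr (i := 1) (j := 2) (by decide) (by decide)
    rw [word_pair.2.2.1] at this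
    have e2 : T.cv (ptv 1 2) = T.cv ((2 : ZMod 3) • ptv 1 2) * T.cv ((2 : ZMod 3) • ptv 1 2) := by
      rw [← T.cv_add]; congr 1
    rw [e2]; exact this.mul_right this
  have hkP := E.cent_triangle h hkz hkx one_ne_zero (by decide : (2 : ZMod 3) ≠ 0) hkp
    (T.norm_P hqq.norm hys) (fun hm => hyJ (by
      have := T.norm_J (inv_mem hqq.norm) hm
      rwa [show k⁻¹ * (k * ys * k⁻¹) * k⁻¹⁻¹ = ys by group] at this))
    (by simpa [mul_assoc] using gy.map (MulAut.conj k).toMonoidHom)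
  have := T.norm_P (inv_mem hqq.norm) hkP
  rwa [show k⁻¹ * (k * g * k⁻¹) * k⁻¹⁻¹ = g by group] at this

end Scalar

end Setting

end Cfsg.Lib.U6Three
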