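import Cfsg.Agent.Lib.U6ThreeNine.Elems
import Cfsg.Agent.Lib.U6Three.Cent

/-!
# The centraliser of the second line and an element of the centraliser of the plane outside the plane, modulo them
-/

set_option autoImplicit false
set_option linter.unusedSectionVars false
set_option linter.style.haveILetI false
set_option synthInstance.maxSize 4000
set_option maxHeartbeats 800000

namespace Cfsg.Lib.U6Three

open Subgroup
open scoped commutatorElement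

theorem exists_coprime_part' {G : Type*} [Group G] [Finite G] {A K : Subgroup G} (hA : A ≤ K)
    (hc : ∀ g ∈ K, ∀ a ∈ A, Commute g a) {m : ℕ} (hK : Nat.card K = Nat.card A * m) (hm : (Nat.card A).Coprime m) :
    ∃ U : Subgroup G, U ≤ K ∧ Nat.card U = m ∧ ∀ g ∈ K, g ^ m = 1 → g ∈ U := by
  set A' := A.subgroupOf K
  have hA' : Nat.card A' = Nat.card A := Nat.card_congr (subgroupOfEquivOfLe hA).toEquiv
  haveI : A'.Normal := ⟨fun w hw g => by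
    rw [mem_subgroupOf, coe_mul, coe_mul, coe_inv, (hc g g.2 w (mem_subgroupOf.1 hw)).eq, mul_inv_cancel_right]
    exact mem_subgroupOf.1 hw⟩
  have hi : A'.index = m := by
    have h := A'.card_mul_index
    rw [hA', hK] at h
    exact Nat.eq_of_mul_eq_mul_left Nat.card_pos h
  obtain ⟨H, hH⟩ := Subgroup.exists_right_complement'_of_coprime (N := A') (by rw [hA', hi]; exact hm)
  have hHc : Nat.card H = m := by
    have h := hH.card_mul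
    rw [hA', hK] at h
    exact Nat.eq_of_mul_eq_mul_left Nat.card_pos h
  refine ⟨H.map K.subtype, map_subtype_le _, by rw [card_map_of_injective K.subtype_injective, hHc],
    fun g hg hgm => ?_⟩
  obtain ⟨⟨⟨b, hb⟩, ⟨u, hu⟩⟩, e⟩ := hH.2 ⟨g, hg⟩
  change b * u = ⟨g, hg⟩ at e
  have hum : u ^ m = 1 := by
    have := congrArg Subtype.val (pow_card_eq_one' (x := (⟨u, hu⟩ : H)))
    rwa [hHc] at this
  have hbu : Commute b u := Subtype.ext ((hc u u.2 b (mem_subgroupOf.1 hb)).symm).eq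
  have h1 : b ^ m = 1 := by
    have : (⟨g, hg⟩ : K) ^ m = 1 := Subtype.ext hgm
    rwa [← e, hbu.mul_pow, hum, mul_one] at this
  have h2 : b ^ Nat.card A = 1 := hA' ▸ congrArg Subtype.val (pow_card_eq_one' (x := (⟨b, hb⟩ : A')))
  refine ⟨u, hu, ?_⟩
  rw [eq_one_of_coprime hm h2 h1, one_mul] at e
  exact congrArg Subtype.val e

theorem sl_three_card : ∀ u : SL3, u ^ 3 = 1 → u = 1 ∨ orderOf u = 3 := fun u hu => by
  by_cases h : u = 1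
  · exact Or.inl h
  · haveI : Fact (Nat.Prime 3) := ⟨Nat.prime_three⟩
    exact Or.inr (orderOf_eq_prime hu h)

namespace Setting

variable {G : Type*} [Group G] [Finite G] {D : Data G} {T : Setting D}

/-- The point used for the pair. -/
abbrev p5 : V4 := (1, 0, 1, 1)

theorem p5_eq : p5 = ptv 0 1 ∧ app kM (0, 0, 0, 1) = p5 ∧ app kM (1, 0, 2, 1) = (1, 0, 2, 1) := by decide +kernel

namespace Scalar

variable (E : T.Scalar)

/-- The pair of elements. -/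
abbrev Ap : Subgroup G := zpowers T.B.a2 ⊔ zpowers (E.d p5)

/-- Its centraliser. -/
abbrev Cp : Subgroup G := centralizer ({T.B.a2} : Set G) ⊓ centralizer ({E.d p5} : Set G)

/-- The pair inside the centraliser. -/
abbrev An : Subgroup E.Cp := E.Ap.subgroupOf E.Cp

theorem mem_Cp {g : G} : g ∈ E.Cp ↔ Commute g T.B.a2 ∧ Commute g (E.d p5) :=
  and_congr mem_centralizer_singleton_iff mem_centralizer_singleton_iff

theorem comm_Ap {g a : G} (hg : g ∈ E.Cp) (ha : a ∈ E.Ap) : Commute g a := by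
  have h : E.Ap ≤ centralizer ({g} : Set G) := sup_le
    (zpowers_le.2 (mem_centralizer_singleton_iff.2 ((E.mem_Cp.1 hg).1.symm)))
    (zpowers_le.2 (mem_centralizer_singleton_iff.2 ((E.mem_Cp.1 hg).2.symm)))
  exact (mem_centralizer_singleton_iff.1 (h ha) : Commute a g).symm

instance An_normal : (E.An).Normal := ⟨fun w hw g => by
  rw [mem_subgroupOf, coe_mul, coe_mul, coe_inv, (E.comm_Ap g.2 (mem_subgroupOf.1 hw)).eq, mul_inv_cancel_right]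
  exact mem_subgroupOf.1 hw⟩

/-- The quotient. -/
abbrev Xp : Type _ := E.Cp ⧸ E.An

theorem mkp_eq_iff {g h : E.Cp} : (g : E.Xp) = h ↔ (g : G)⁻¹ * h ∈ E.Ap :=
  QuotientGroup.eq.trans mem_subgroupOf

theorem Ap_le_P : E.Ap ≤ T.P := sup_le (zpowers_le.2 (T.cv_a2 ▸ T.cv_P _)) (zpowers_le.2 (E.d_P _))

theorem P_le_Cp : T.P ≤ E.Cp := fun g hg => E.mem_Cp.2
  ⟨T.cv_a2 ▸ T.h.comm_P T.B T.hx hg (T.cv_mem _), comm_of_P hg (E.d_P _)⟩

theorem Ap_le_Cp : E.Ap ≤ E.Cp := E.Ap_le_P.trans E.P_le_Cp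

theorem d5_k1 : T.B.k1 ⟨_, T.P_le_Stab (E.d_P p5)⟩ = 0 :=
  T.k1_of_cent _ (by rw [p5_eq.1]; exact E.d_ptv_cent_Q1 0 1 rfl)

theorem d5_k2 : T.B.k2 ⟨_, T.P_le_Stab (E.d_P p5)⟩ ≠ 0 := fun e => E.d_not_J p5
  (T.mem_J_of_kappa (E.d_P _) (by rw [T.B.kappa_def, E.d5_k1, e]; rfl))

theorem Ap_decomp (h : ¬ T.IsThree) {b : G} (hb : b ∈ E.Ap) :
    ∃ i j : ZMod 3, b = zp T.B.a2 i * zp (E.d p5) j := by
  have hn : zpowers (E.d p5) ≤ normalizer (zpowers T.B.a2 : Set G) := zpowers_le.2 (mem_normalizer_set fun u hu => by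
    obtain ⟨n, rfl⟩ := mem_zpowers_iff.1 hu
    rw [((comm_of_P (E.d_P p5) (T.cv_a2 ▸ T.cv_P _)).zpow_right n).eq, mul_inv_cancel_right]
    exact hu)
  rw [Ap, ← SetLike.mem_coe, coe_mul_of_right_le_normalizer_left _ _ hn] at hb
  obtain ⟨u, hu, v, hv, rfl⟩ := hb
  obtain ⟨i, rfl⟩ := mem_powers_iff_mem_zpowers.2 hu
  obtain ⟨j, rfl⟩ := mem_powers_iff_mem_zpowers.2 hv
  exact ⟨i, j, by rw [zp_nat T.B.a2_cube, zp_nat (E.d_cube h _)]⟩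

theorem Ap_J (h : ¬ T.IsThree) {b : G} (hb : b ∈ E.Ap) (hJ : b ∈ T.J) : ∃ i : ZMod 3, b = zp T.B.a2 i := by
  obtain ⟨i, j, rfl⟩ := E.Ap_decomp h hb
  refine ⟨i, ?_⟩
  by_cases hj : j = 0
  · rw [hj, zp_zero, mul_one]
  exfalso
  have hm := mul_mem (inv_mem (zp_mem (T.cv_a2 ▸ T.cv_mem _ : T.B.a2 ∈ T.J) i)) hJ
  rw [inv_mul_cancel_left] at hm
  have h2 := zp_mem hm j⁻¹
  rw [zp_zp (E.d_cube h _), mul_inv_cancel₀ hj, zp_one] at h2
  exact E.d_not_J p5 h2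

theorem Ap_Q (h : ¬ T.IsThree) {b : G} (hb : b ∈ E.Ap) (hQ : b ∈ D.Q) : ∃ i : ZMod 3, b = zp T.B.a2 i :=
  E.Ap_J h hb (T.h.mem_J_of_P_Q T.B T.hx (E.Ap_le_P hb) hQ)

theorem Ap_Q1 (h : ¬ T.IsThree) {b : G} (hb : b ∈ E.Ap) (hQ : b ∈ T.S.Q1) : b = 1 := by
  obtain ⟨i, rfl⟩ := E.Ap_Q h hb hQ.1
  have hm : zp T.B.a2 i ∈ D.Zc := T.S.inf_eq.le (Subgroup.mem_inf.2 ⟨hQ, zp_mem T.B.ha2 i⟩)
  rw [T.B.swap.shift_unique (k := i) hm, zp_zero]

theorem card_Ap (h : ¬ T.IsThree) : Nat.card E.Ap = 9 := by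
  let f : ZMod 3 × ZMod 3 → E.Ap := fun p => ⟨zp T.B.a2 p.1 * zp (E.d p5) p.2,
    mul_mem (mem_sup_left (zp_mem (mem_zpowers _) _)) (mem_sup_right (zp_mem (mem_zpowers _) _))⟩
  have hf : Function.Bijective f := by
    refine ⟨fun p q e => ?_, fun b => ?_⟩
    · have e' : zp T.B.a2 p.1 * zp (E.d p5) p.2 = zp T.B.a2 q.1 * zp (E.d p5) q.2 := congrArg Subtype.val e
      have hd : zp (E.d p5) (p.2 + -q.2) ∈ T.J := by
        rw [zp_add (E.d_cube h _), ← zp_inv (E.d_cube h _),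
          show zp (E.d p5) p.2 * (zp (E.d p5) q.2)⁻¹ = (zp T.B.a2 p.1)⁻¹ * zp T.B.a2 q.1 by
            rw [eq_inv_mul_iff_mul_eq, ← mul_assoc, e', mul_inv_cancel_right]]
        exact mul_mem (inv_mem (zp_mem (T.cv_a2 ▸ T.cv_mem _) _)) (zp_mem (T.cv_a2 ▸ T.cv_mem _) _)
      have h2 : p.2 = q.2 := by
        by_contra hne
        have h3 := zp_mem hd (p.2 + -q.2)⁻¹
        rw [zp_zp (E.d_cube h _), mul_inv_cancel₀ (fun e0 => hne (add_neg_eq_zero.1 e0)), zp_one] at h3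
        exact E.d_not_J p5 h3
      rw [h2] at e'
      have h1 : zp T.B.a2 (p.1 + -q.1) ∈ D.Zc := by
        rw [zp_add T.B.a2_cube, ← zp_inv T.B.a2_cube, mul_right_cancel e', mul_inv_cancel]
        exact D.Zc.one_mem
      exact Prod.ext (add_neg_eq_zero.1 (T.B.swap.shift_unique h1)) h2
    · obtain ⟨i, j, e⟩ := E.Ap_decomp h b.2
      exact ⟨(i, j), Subtype.ext e.symm⟩
  rw [← Nat.card_eq_of_bijective f hf]
  simp [ZMod.card, Nat.card_eq_fintype_card]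

theorem Q1_le_Cp : T.S.Q1 ≤ E.Cp := fun q hq => E.mem_Cp.2
  ⟨T.S.comm12 hq T.B.ha2, (by rw [p5_eq.1]; exact (E.d_ptv_cent_Q1 0 1 rfl q hq).symm)⟩

theorem L_le_Cp : T.S.L ≤ E.Cp := fun l hl => E.mem_Cp.2
  ⟨((T.S.mem_L.1 hl).2 _ T.B.ha2).symm, (by rw [p5_eq.1]; exact (E.d_ptv_L 1 hl).symm)⟩

theorem t_mem_Cp : T.S.t ∈ E.Cp := E.L_le_Cp T.S.t_mem_L

theorem z_mem_Cp : D.z ∈ E.Cp := E.P_le_Cp (T.J_le_P (T.h.z_mem_J T.B T.hx))

theorem x_mem_Cp : T.x ∈ E.Cp := E.P_le_Cp (T.J_le_P (T.h.x_mem_J T.B T.hx))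

include E in
theorem HN_of_z {g : G} (hz : Commute g D.z) (ha : Commute g T.B.a2) : g ∈ T.S.HN :=
  T.S.swap.HN_swap (T.S.swap.mem_HN_of hz T.B.ha2 T.B.swap.a1_not_Zc (by
    rw [ha.eq, mul_inv_cancel_right]; exact T.B.ha2))

theorem Cp_HN {g : G} (hg : g ∈ E.Cp) (hz : Commute g D.z) : g ∈ T.S.HN := E.HN_of_z hz (E.mem_Cp.1 hg).1

/-- The image of the centre. -/
def zpq : E.Xp := ((⟨D.z, E.z_mem_Cp⟩ : E.Cp) : E.Xp)

/-- An element of the centraliser of the pair moving the centre only by the pair fixes it. -/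
theorem fix_of_mod (h : ¬ T.IsThree) {g w : G} (hg : g ∈ E.Cp) (hw : w ∈ D.Zc) (hw1 : w ≠ 1)
    (e : (g * D.z * g⁻¹)⁻¹ * w ∈ E.Ap) : g * D.z * g⁻¹ = w := by
  set y := g * D.z * g⁻¹
  have hyP : y ∈ T.P := by
    have h' := mul_mem (T.J_le_P (zpowers_le.2 (T.h.z_mem_J T.B T.hx) hw)) (inv_mem (E.Ap_le_P e))
    rwa [mul_inv_rev, inv_inv, mul_inv_cancel_left] at h'
  have hyJ : y ∈ T.J := T.h.pt_mem_J T.B T.hx (T.P_le_Stab hyP) ((Pt.self _).conj g)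
  obtain ⟨i, hi⟩ := E.Ap_J h e (mul_mem (inv_mem hyJ) (zpowers_le.2 (T.h.z_mem_J T.B T.hx) hw))
  have hyQ : y ∈ D.Q := by
    have h' := mul_mem (D.Zc_le hw) (inv_mem (zp_mem T.B.ha2.1 i : zp T.B.a2 i ∈ D.Q))
    rwa [← hi, mul_inv_rev, inv_inv, mul_inv_cancel_left] at h'
  have hyZ : y ∈ D.Zc := D.pt_mem_Q ((Pt.self _).conj g) hyQ
  have hi0 : i = 0 := T.B.swap.shift_unique (k := i) (hi ▸ mul_mem (inv_mem hyZ) hw)
  rw [hi0, zp_zero, inv_mul_eq_one] at hi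
  exact hi

theorem commute_zpq (h : ¬ T.IsThree) {g : E.Cp} : Commute (g : E.Xp) E.zpq ↔ Commute (g : G) D.z := by
  constructor
  · intro hc
    have h1 : ((g * ⟨D.z, E.z_mem_Cp⟩ * g⁻¹ : E.Cp) : E.Xp) = ((⟨D.z, E.z_mem_Cp⟩ : E.Cp) : E.Xp) := by
      rw [QuotientGroup.mk_mul, QuotientGroup.mk_mul, QuotientGroup.mk_inv]
      exact mul_inv_eq_iff_eq_mul.2 hc
    exact mul_inv_eq_iff_eq_mul.1 (E.fix_of_mod h g.2 (mem_zpowers _) D.z_ne (E.mkp_eq_iff.1 h1))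
  · intro hc
    show _ = _
    rw [zpq, ← QuotientGroup.mk_mul, ← QuotientGroup.mk_mul]
    exact congrArg _ (Subtype.ext hc)

theorem matp_x : T.B.matHom ⟨T.x, E.Cp_HN E.x_mem_Cp T.hx.1⟩ ≠ 1 := fun e =>
  (T.h.diag T.B T.hx).1 (T.B.k1_eq _ (by simpa [zp_zero] using (T.B.matHom_eq_one.1 e).2))

theorem x_pow3 : T.B.matHom ⟨T.x, E.Cp_HN E.x_mem_Cp T.hx.1⟩ ^ 3 = 1 := by
  rw [← map_pow, show (⟨T.x, E.Cp_HN E.x_mem_Cp T.hx.1⟩ : T.S.HN) ^ 3 = 1 from Subtype.ext T.D'.z_cube, map_one]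

theorem matp_surj (m : SL3) : ∃ g, ∃ hg : g ∈ E.Cp, ∃ hz : Commute g D.z,
    T.B.matHom ⟨g, E.Cp_HN hg hz⟩ = m := by
  set u := T.B.matHom ⟨T.x, E.Cp_HN E.x_mem_Cp T.hx.1⟩ with hu
  obtain ⟨n, hn, hm⟩ := sl_quat.2.2.2.2.2 u E.x_pow3 E.matp_x m
  obtain ⟨l, hl, el⟩ := T.B.exists_L hn
  have hlC := E.L_le_Cp hl
  have hlz := T.S.L_z hl
  have el' : T.B.matHom ⟨l, E.Cp_HN hlC hlz⟩ = n := el
  rcases hm with e | e | e
  · exact ⟨l, hlC, hlz, e ▸ el'⟩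
  · refine ⟨l * T.x, mul_mem hlC E.x_mem_Cp, hlz.mul_left T.hx.1, ?_⟩
    rw [e, ← el', hu, ← map_mul]
    rfl
  · refine ⟨l * (T.x * T.x), mul_mem hlC (mul_mem E.x_mem_Cp E.x_mem_Cp),
      hlz.mul_left (T.hx.1.mul_left T.hx.1), ?_⟩
    rw [e, ← el', hu, ← map_mul, ← map_mul]
    rfl

theorem Stab_of_mat {g : G} (hg : g ∈ E.Cp) (hz : Commute g D.z)
    (hm : T.B.matHom ⟨g, E.Cp_HN hg hz⟩ = 1) : g ∈ T.B.Stab :=
  ⟨hz, (T.B.matHom_eq_one.1 hm).1, by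
    rw [commutatorElement_eq_one_iff_commute.2 (E.mem_Cp.1 hg).1]; exact D.Zc.one_mem⟩

theorem matp_ker (h : ¬ T.IsThree) {g : G} (hg : g ∈ E.Cp) (hz : Commute g D.z)
    (hm : T.B.matHom ⟨g, E.Cp_HN hg hz⟩ = 1) : ∃ b ∈ E.Ap, ∃ q ∈ T.S.Q1, g = b * q := by
  have hS := E.Stab_of_mat hg hz hm
  have k1 : T.B.k1 ⟨g, hS⟩ = 0 := T.B.k1_eq _ (by simpa [zp_zero] using (T.B.matHom_eq_one.1 hm).2)
  set n := T.B.k2 ⟨g, hS⟩ * (T.B.k2 ⟨_, T.P_le_Stab (E.d_P p5)⟩)⁻¹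
  set r := (zp (E.d p5) n)⁻¹ * g
  have hn : zp (E.d p5) n ∈ E.Ap := mem_sup_right (zp_mem (mem_zpowers _) _)
  have hdS : zp (E.d p5) n ∈ T.B.Stab := zp_mem (T.P_le_Stab (E.d_P _)) n
  have hrS : r ∈ T.B.Stab := mul_mem (inv_mem hdS) hS
  have hgr : (⟨g, hS⟩ : T.B.Stab) = ⟨_, hdS⟩ * ⟨r, hrS⟩ := Subtype.ext (mul_inv_cancel_left _ g).symm
  have hrQ : r ∈ D.Q := T.B.kappa_eq_one.1 (show T.B.kappa ⟨r, hrS⟩ = 1 by
    have e1 := congrArg T.B.k1 hgr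
    have e2 := congrArg T.B.k2 hgr
    rw [k1, T.B.k1_mul, T.B.k1_zp ⟨_, T.P_le_Stab (E.d_P _)⟩, E.d5_k1, mul_zero, zero_add] at e1
    rw [T.B.k2_mul, T.B.k2_zp ⟨_, T.P_le_Stab (E.d_P _)⟩, inv_mul_cancel_right₀ E.d5_k2, left_eq_add] at e2
    rw [T.B.kappa_def, ← e1, e2]; rfl)
  have hrC : r ∈ E.Cp := mul_mem (inv_mem (E.Ap_le_Cp hn)) hg
  obtain ⟨c, hc, m, hm', e⟩ := T.S.decomp r hrQ
  obtain ⟨w, hw, i, j, rfl⟩ := T.B.swap.normal_form (show m ∈ T.S.swap.Q1 from hm')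
  have hma : Commute (w * zp T.B.a2 i * zp T.B.b2 j) T.B.a2 := by
    have := (T.S.comm12 hc T.B.ha2).inv_left.mul_left (show Commute (c * (w * zp T.B.a2 i * zp T.B.b2 j)) T.B.a2 from
      e ▸ (E.mem_Cp.1 hrC).1)
    rwa [inv_mul_cancel_left] at this
  have h1 := T.B.swap.form_nf hw i j
  rw [show ⁅w * zp T.B.swap.a1 i * zp T.B.swap.b1 j, T.B.swap.a1⁆ = 1 from
    commutatorElement_eq_one_iff_commute.2 hma] at h1
  obtain rfl := zp_eq_one D.hz h1.symm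
  refine ⟨zp (E.d p5) n * zp T.B.a2 i, mul_mem hn (mem_sup_left (zp_mem (mem_zpowers _) _)), c * w,
    mul_mem hc (D.Zc_le_fixC T.S.s_z hw), ?_⟩
  have e0 : r = c * (w * zp T.B.a2 i * zp T.B.b2 0) := e
  rw [zp_zero, mul_one] at e0
  have hcw : Commute (c * w) (zp T.B.a2 i) :=
    (T.S.comm12 hc (zp_mem T.B.ha2 i)).mul_left (D.comm_Q_Zc (zp_mem T.B.ha2.1 i) hw).symm
  rw [mul_assoc (zp (E.d p5) n), ← hcw.eq, show c * w * zp T.B.a2 i = c * (w * zp T.B.a2 i) by group, ← e0,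
    mul_inv_cancel_left]

theorem cube_of_P (h : ¬ T.IsThree) {g : E.Cp} (hg : (g : G) ∈ T.P) : g ^ 3 = 1 := Subtype.ext (cube_P h hg)

/-- The data on the quotient. -/
theorem exists_data (h : ¬ T.IsThree) : ∃ X : Cfsg.Lib.PSpThree.Data E.Xp, X.a = E.zpq ∧
    (∀ g : E.Cp, (g : G) ∈ T.P → (g : E.Xp) ∈ X.J) ∧
    (∀ g : E.Cp, (g : G) ∈ T.S.Q1 → (g : E.Xp) ∈ X.R) := by
  classical
  haveI : Fact (Nat.Prime 3) := ⟨Nat.prime_three⟩
  set q : E.Cp →* E.Xp := QuotientGroup.mk' E.An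
  have hker : ∀ g : E.Cp, q g = 1 ↔ (g : G) ∈ E.Ap := fun g => (QuotientGroup.eq_one_iff g).trans mem_subgroupOf
  let R : Subgroup E.Xp := (T.S.Q1.subgroupOf E.Cp).map q
  let J : Subgroup E.Xp := (T.P.subgroupOf E.Cp).map q
  let Cz : Subgroup E.Cp := (centralizer ({D.z} : Set G)).subgroupOf E.Cp
  have hCz : ∀ g : Cz, Commute ((g : E.Cp) : G) D.z := fun g =>
    mem_centralizer_singleton_iff.1 (mem_subgroupOf.1 g.2)
  let ψ : Cz →* centralizer ({E.zpq} : Set E.Xp) := (q.comp Cz.subtype).codRestrict _ fun g =>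
    mem_centralizer_singleton_iff.2 ((E.commute_zpq h).2 (hCz g))
  have hψ : Function.Surjective ψ := by
    rintro ⟨y, hy⟩
    obtain ⟨g, rfl⟩ := QuotientGroup.mk'_surjective E.An y
    exact ⟨⟨g, mem_subgroupOf.2 (mem_centralizer_singleton_iff.2
      ((E.commute_zpq h).1 (mem_centralizer_singleton_iff.1 hy)))⟩, rfl⟩
  let f : Cz →* SL3 := T.B.matHom.comp
    ((E.Cp.subtype.comp Cz.subtype).codRestrict T.S.HN fun g => E.Cp_HN g.1.2 (hCz g))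
  have hfA : ∀ (g : Cz), ((g : E.Cp) : G) ∈ E.Ap → f g = 1 := fun g hg => by
    refine T.B.matHom_eq_one.2 ⟨?_, ?_⟩
    · show ⁅((g : E.Cp) : G), T.B.a1⁆ ∈ D.Zc
      rw [commutatorElement_eq_one_iff_commute.2 (T.cv_a1 ▸ T.h.comm_P T.B T.hx (E.Ap_le_P hg) (T.cv_mem _))]
      exact D.Zc.one_mem
    · show ⁅((g : E.Cp) : G), T.B.b1⁆ ∈ D.Zc
      obtain ⟨i, j, e⟩ := E.Ap_decomp h hg
      rw [e, commutatorElement_eq_one_iff_commute.2 (((T.S.comm12 T.B.hb1 (zp_mem T.B.ha2 i)).symm).mul_left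
        (zp_comm ((p5_eq.1 ▸ E.d_ptv_cent_Q1 0 1 rfl : ∀ u ∈ T.S.Q1, Commute (E.d p5) u) _ T.B.hb1) j))]
      exact D.Zc.one_mem
  have hf : ψ.ker ≤ f.ker := fun g hg => hfA g ((hker g).1 (congrArg Subtype.val (MonoidHom.mem_ker.1 hg)))
  let π := ψ.liftOfSurjective hψ ⟨f, hf⟩
  have hπ : ∀ g, π (ψ g) = f g := MonoidHom.liftOfRightInverse_comp_apply _ _ _ ⟨f, hf⟩
  have hR : ∀ g : E.Cp, q g ∈ R ↔ ∃ b ∈ E.Ap, ∃ u ∈ T.S.Q1, (g : G) = b * u := by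
    intro g
    constructor
    · rintro ⟨u, hu, e⟩
      exact ⟨(g : G) * (u : G)⁻¹, (hker (g * u⁻¹)).1 (by rw [map_mul, map_inv, e, mul_inv_cancel]), u,
        mem_subgroupOf.1 hu, by group⟩
    · rintro ⟨b, hb, u, hu, e⟩
      refine ⟨⟨u, E.Q1_le_Cp hu⟩, mem_subgroupOf.2 hu, ?_⟩
      rw [← mul_inv_eq_one, ← map_inv, ← map_mul, hker]
      show u * (g : G)⁻¹ ∈ _
      rw [show u * (g : G)⁻¹ = b⁻¹ by rw [e]; group]; exact inv_mem hb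
  have hkerc : Nat.card q.ker = 9 := by
    rw [QuotientGroup.ker_mk', Nat.card_congr (subgroupOfEquivOfLe E.Ap_le_Cp).toEquiv, E.card_Ap h]
  have hRcard : Nat.card R = 27 := by
    have h' := card_map_mul q (T.S.Q1.subgroupOf E.Cp)
    rw [show T.S.Q1.subgroupOf E.Cp ⊓ q.ker = ⊥ from (eq_bot_iff_forall _).2 fun g hg => Subtype.ext
      (E.Ap_Q1 h ((hker g).1 hg.2) (mem_subgroupOf.1 hg.1)), Subgroup.card_bot, mul_one,
      Nat.card_congr (subgroupOfEquivOfLe E.Q1_le_Cp).toEquiv] at h'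
    exact h'.trans (show Nat.card T.S.Q1 = 27 from T.S.swap.card₂)
  have hJcard : Nat.card J = 27 := by
    have h' := card_map_mul q (T.P.subgroupOf E.Cp)
    rw [inf_eq_right.2 fun g hg => mem_subgroupOf.2 (E.Ap_le_P ((hker g).1 hg)), hkerc,
      Nat.card_congr (subgroupOfEquivOfLe E.P_le_Cp).toEquiv, E.card_P h] at h'
    change Nat.card J * 9 = 243 at h'
    omega
  have hz3 : E.zpq ^ 3 = 1 := by
    rw [zpq, ← QuotientGroup.mk_pow, show (⟨D.z, E.z_mem_Cp⟩ : E.Cp) ^ 3 = 1 from Subtype.ext D.z_cube]; rfl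
  refine ⟨{
    a := E.zpq
    ha := orderOf_eq_prime hz3 fun e => D.z_ne (E.Ap_Q1 h ((hker ⟨D.z, E.z_mem_Cp⟩).1 e)
      (D.Zc_le_fixC T.S.s_z (mem_zpowers _)))
    R := R
    R_le := by
      rintro _ ⟨g, hg, rfl⟩
      exact mem_centralizer_singleton_iff.2 ((E.commute_zpq h).2 (D.comm_z _ (mem_subgroupOf.1 hg).1))
    R_card := hRcard
    R_exp := by
      rintro _ ⟨g, hg, rfl⟩
      rw [← map_pow, show g ^ 3 = 1 from Subtype.ext (T.S.exp_one (mem_subgroupOf.1 hg)), map_one]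
    a_mem := ⟨⟨D.z, E.z_mem_Cp⟩, mem_subgroupOf.2 (D.Zc_le_fixC T.S.s_z (mem_zpowers _)), rfl⟩
    R_center := ?_
    R_comm := ?_
    R_nab := ?_
    π := π
    surj := ?_
    ker := ?_
    J := J
    J_le := by
      rintro _ ⟨g, hg, rfl⟩
      exact mem_centralizer_singleton_iff.2 ((E.commute_zpq h).2 (T.P_le_Stab (mem_subgroupOf.1 hg)).1)
    J_comm := by
      rintro _ ⟨g, hg, rfl⟩ _ ⟨g', hg', rfl⟩
      rw [← map_mul, ← map_mul, show g * g' = g' * g from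
        Subtype.ext (comm_of_P (mem_subgroupOf.1 hg) (mem_subgroupOf.1 hg')).eq]
    J_exp := by
      rintro _ ⟨g, hg, rfl⟩
      rw [← map_pow, E.cube_of_P h (mem_subgroupOf.1 hg), map_one]
    J_card := hJcard
    sig := ?_ }, rfl, fun g hg => ⟨g, mem_subgroupOf.2 hg, rfl⟩, fun g hg => ⟨g, mem_subgroupOf.2 hg, rfl⟩⟩
  · rintro _ ⟨g, hg, rfl⟩ hh
    have hg' := mem_subgroupOf.1 hg
    have hz : (g : G) ∈ D.Zc := T.S.center_one hg' fun u hu => by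
      have h1 := hh _ ⟨⟨u, E.Q1_le_Cp hu⟩, mem_subgroupOf.2 hu, rfl⟩
      rw [← map_mul, ← map_mul] at h1
      have h3' := E.Ap_Q1 h (E.mkp_eq_iff.1 h1.symm) (mul_mem (inv_mem (mul_mem hu hg')) (mul_mem hg' hu))
      simp only [coe_mul, inv_mul_eq_one] at h3'
      exact h3'.symm
    obtain ⟨k, hk⟩ := mem_zpowers_iff.1 hz
    refine ⟨k, ?_⟩
    show E.zpq ^ k = q g
    rw [zpq, ← QuotientGroup.mk_zpow]
    exact congrArg _ (Subtype.ext hk)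
  · rintro _ ⟨g, hg, rfl⟩ _ ⟨g', hg', rfl⟩
    obtain ⟨k, hk⟩ := mem_zpowers_iff.1 (D.comm_form (mem_subgroupOf.1 hg).1 (mem_subgroupOf.1 hg').1)
    refine ⟨k, ?_⟩
    show E.zpq ^ k = _
    rw [zpq, ← QuotientGroup.mk_zpow, ← map_inv, ← map_inv, ← map_mul, ← map_mul, ← map_mul]
    exact congrArg _ (Subtype.ext hk)
  · refine ⟨_, ⟨⟨T.B.b1, E.Q1_le_Cp T.B.hb1⟩, mem_subgroupOf.2 T.B.hb1, rfl⟩, _,
      ⟨⟨T.B.a1, E.Q1_le_Cp T.B.ha1⟩, mem_subgroupOf.2 T.B.ha1, rfl⟩, fun e => T.B.notComm ?_⟩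
    rw [← map_mul, ← map_mul] at e
    have h2 := E.Ap_Q1 h (E.mkp_eq_iff.1 e.symm) (mul_mem (inv_mem (mul_mem T.B.ha1 T.B.hb1)) (mul_mem T.B.hb1 T.B.ha1))
    simp only [coe_mul, inv_mul_eq_one] at h2
    exact h2.symm
  · intro m
    obtain ⟨g, hg, hz, e⟩ := E.matp_surj m
    exact ⟨ψ ⟨⟨g, hg⟩, mem_subgroupOf.2 (mem_centralizer_singleton_iff.2 hz)⟩, by rw [hπ]; exact e⟩
  · intro c
    obtain ⟨g, rfl⟩ := hψ c
    rw [hπ]
    show f g = 1 ↔ q g ∈ R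
    rw [hR]
    refine ⟨fun hh => E.matp_ker h g.1.2 (hCz g) hh, ?_⟩
    rintro ⟨b, hb, u, hu, e⟩
    have hbz : Commute b D.z := (T.P_le_Stab (E.Ap_le_P hb)).1
    set gb : Cz := ⟨⟨b, E.Ap_le_Cp hb⟩, mem_subgroupOf.2 (mem_centralizer_singleton_iff.2 hbz)⟩
    set gu : Cz := ⟨⟨u, E.Q1_le_Cp hu⟩, mem_subgroupOf.2 (mem_centralizer_singleton_iff.2 (D.comm_z u hu.1))⟩
    rw [show g = gb * gu from Subtype.ext (Subtype.ext e), map_mul, hfA gb hb, one_mul]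
    exact (T.B.mat_of_Q (g := ⟨_, E.Cp_HN gu.1.2 (hCz gu)⟩) hu.1).1
  · intro K hK hn
    obtain ⟨K', hK'⟩ : ∃ K', K' = (K.comap q).map E.Cp.subtype := ⟨_, rfl⟩
    have haK : E.Ap ≤ K' := fun b hb => hK' ▸ ⟨⟨b, E.Ap_le_Cp hb⟩, mem_comap.2 (by
      rw [(hker ⟨b, E.Ap_le_Cp hb⟩).2 hb]; exact one_mem K), rfl⟩
    have hcard : Nat.card K' = Nat.card E.Ap * Nat.card K := by
      rw [hK', card_map_of_injective E.Cp.subtype_injective]
      have h' := card_map_mul q (K.comap q)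
      rw [map_comap_eq_self_of_surjective (QuotientGroup.mk'_surjective _),
        inf_eq_right.2 fun g hg => mem_comap.2 (by rw [MonoidHom.mem_ker.1 hg]; exact one_mem K), hkerc] at h'
      rw [← h', E.card_Ap h, mul_comm]
    obtain ⟨U, hUK, hUc, hUm⟩ := exists_coprime_part' haK
      (fun g hg a ha => by rw [hK'] at hg; exact E.comm_Ap (map_subtype_le _ hg) ha) hcard
      (by rw [E.card_Ap h, show (9 : ℕ) = 3 ^ 2 by rfl]; exact hK.symm.pow_left 2)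
    have hU : U = ⊥ := by
      refine T.signalizer (hUc ▸ hK) fun j hj => ?_
      refine mem_normalizer_set fun u hu => ?_
      have hj' := E.P_le_Cp (T.J_le_P hj)
      refine hUm _ ?_ ?_
      · have hu' := hUK hu
        rw [hK'] at hu' ⊢
        obtain ⟨u', hu'', rfl⟩ := hu'
        refine ⟨⟨j, hj'⟩ * u' * ⟨j, hj'⟩⁻¹, mem_comap.2 ?_, rfl⟩
        have := hn (q ⟨j, hj'⟩) ⟨⟨j, hj'⟩, mem_subgroupOf.2 (T.J_le_P hj), rfl⟩
        rw [map_mul, map_mul, map_inv]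
        exact this.le ⟨q u', mem_comap.1 hu'', rfl⟩
      · rw [conj_pow, show u ^ Nat.card K = 1 from hUc ▸ congrArg Subtype.val (pow_card_eq_one' (x := (⟨u, hu⟩ : U)))]
        group
    exact Subgroup.card_eq_one.1 (hUc ▸ hU ▸ Subgroup.card_bot)

/-- Some element of the centraliser of the pair carries the centre to the second point. -/
theorem exists_zpq_conj : ∃ g : E.Xp, g * E.zpq * g⁻¹ = ((⟨T.x, E.x_mem_Cp⟩ : E.Cp) : E.Xp) ∨
    g * E.zpq * g⁻¹ = ((⟨T.x, E.x_mem_Cp⟩ : E.Cp) : E.Xp)⁻¹ := by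
  obtain ⟨g, hgH, hgy, hg⟩ := E.exists_14
  have hgC : g ∈ E.Cp := E.mem_Cp.2 ⟨mul_inv_eq_iff_eq_mul.1 (by rw [← T.cv_a2, hg.eq, word_m14.2.1]),
    mul_inv_eq_iff_eq_mul.1 (E.conj_d hgy (by rw [hg.eq, word_m14.2.2.1]))⟩
  have hz := hg.eq (1, 0, 0, 0)
  rw [word_m14.2.2.2.1, T.cv_x, T.cv_z] at hz
  refine ⟨((⟨g, hgC⟩ : E.Cp) : E.Xp), ?_⟩
  rw [zpq, ← QuotientGroup.mk_inv, ← QuotientGroup.mk_inv, ← QuotientGroup.mk_mul, ← QuotientGroup.mk_mul]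
  rcases (show ∀ e : ZMod 3, e ≠ 0 → e = 1 ∨ e = -1 by decide) T.ε T.ε_ne with e | e <;> rw [e] at hz
  · rw [zp_one] at hz
    exact Or.inl (congrArg _ (Subtype.ext hz))
  · rw [← zp_inv D.z_cube, zp_one] at hz
    refine Or.inr (congrArg _ (Subtype.ext ?_))
    show g * D.z * g⁻¹ = T.x⁻¹
    rw [← hz]; group

theorem x_not_zpq (h : ¬ T.IsThree) : ((⟨T.x, E.x_mem_Cp⟩ : E.Cp) : E.Xp) ∉ zpowers E.zpq := by
  intro hh
  obtain ⟨k, hk⟩ := mem_zpowers_iff.1 hh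
  rw [zpq, ← QuotientGroup.mk_zpow] at hk
  have h2 := E.mkp_eq_iff.1 hk
  obtain ⟨i, hi⟩ := E.Ap_J h h2 (mul_mem (inv_mem (zpow_mem (T.h.z_mem_J T.B T.hx) k)) (T.h.x_mem_J T.B T.hx))
  refine T.h.notin ?_
  have := mul_mem (D.Q.zpow_mem D.z_mem k) (zp_mem T.B.ha2.1 i)
  rwa [← hi, coe_zpow, mul_inv_cancel_left] at this

theorem zpq_no_three (h : ¬ T.IsThree) : ∀ M : Subgroup E.Xp, M.Normal → M.index ≠ 3 := by
  intro M hMn hM
  obtain ⟨X, hXa, -, -⟩ := E.exists_data h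
  refine no_index_three X ?_ hM
  have hQ1 : ∀ q, ∀ hq : q ∈ T.S.Q1, ((⟨q, E.Q1_le_Cp hq⟩ : E.Cp) : E.Xp) ∈ M := by
    have hz : ((⟨D.z, E.z_mem_Cp⟩ : E.Cp) : E.Xp) ∈ M := by
      have := comm_mem_of_three hM ((⟨T.B.b1, E.Q1_le_Cp T.B.hb1⟩ : E.Cp) : E.Xp)
        ((⟨T.B.a1, E.Q1_le_Cp T.B.ha1⟩ : E.Cp) : E.Xp)
      rw [← QuotientGroup.mk_inv, ← QuotientGroup.mk_inv, ← QuotientGroup.mk_mul, ← QuotientGroup.mk_mul,
        ← QuotientGroup.mk_mul] at this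
      convert this using 2
      exact Subtype.ext T.B.h1.symm
    intro q hq
    have h1 := comm_mem_of_three hM ((⟨T.S.t, E.t_mem_Cp⟩ : E.Cp) : E.Xp) ((⟨q, E.Q1_le_Cp hq⟩ : E.Cp) : E.Xp)
    obtain ⟨k, hk⟩ := mem_zpowers_iff.1 (T.S.t_neg q hq)
    have h2 : (((⟨D.z, E.z_mem_Cp⟩ : E.Cp) ^ k : E.Cp) : E.Xp) ∈ M := by
      rw [QuotientGroup.mk_zpow]; exact zpow_mem hz k
    simp only [← QuotientGroup.mk_inv, ← QuotientGroup.mk_mul] at h1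
    have h3' := mul_mem (inv_mem h2) h1
    rw [← QuotientGroup.mk_inv, ← QuotientGroup.mk_mul] at h3'
    have e : ((⟨D.z, E.z_mem_Cp⟩ : E.Cp) ^ k)⁻¹ * (⟨T.S.t, E.t_mem_Cp⟩ * ⟨q, E.Q1_le_Cp hq⟩ * ⟨T.S.t, E.t_mem_Cp⟩⁻¹ *
        ⟨q, E.Q1_le_Cp hq⟩⁻¹) = ⟨q, E.Q1_le_Cp hq⟩ := Subtype.ext (by
      show (D.z ^ k)⁻¹ * (T.S.t * q * T.S.t⁻¹ * q⁻¹) = q
      rw [hk]
      calc (T.S.t * q * T.S.t⁻¹ * q)⁻¹ * (T.S.t * q * T.S.t⁻¹ * q⁻¹) = (q ^ 3)⁻¹ * q := by group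
        _ = q := by rw [T.S.exp_one hq]; group)
    rwa [e] at h3'
  have hL : ∀ g : E.Cp, (g : G) ^ 4 = 1 → (g : E.Xp) ∈ M := fun g hg =>
    mem_of_four hM (by rw [← QuotientGroup.mk_pow, show g ^ 4 = 1 from Subtype.ext hg]; rfl)
  have hz : E.zpq ∈ M := hQ1 _ (D.Zc_le_fixC T.S.s_z (mem_zpowers _))
  have hx : ((⟨T.x, E.x_mem_Cp⟩ : E.Cp) : E.Xp) ∈ M := by
    obtain ⟨g, hg | hg⟩ := E.exists_zpq_conj
    · exact hg ▸ hMn.conj_mem _ hz g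
    · exact inv_mem_iff.1 (hg ▸ hMn.conj_mem _ hz g)
  intro y hy
  obtain ⟨g, rfl⟩ := QuotientGroup.mk_surjective y
  rw [hXa] at hy
  have hgz := (E.commute_zpq h).1 (mem_centralizer_singleton_iff.1 hy)
  obtain ⟨n, hn, hm⟩ := sl_quat.2.2.2.2.2 (T.B.matHom ⟨T.x, E.Cp_HN E.x_mem_Cp T.hx.1⟩) E.x_pow3 E.matp_x
    (T.B.matHom ⟨g, E.Cp_HN g.2 hgz⟩)
  obtain ⟨l, hl, el⟩ := T.B.exists_L hn
  have hlC := E.L_le_Cp hl
  have hlz := T.S.L_z hl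
  have el' : T.B.matHom ⟨l, E.Cp_HN hlC hlz⟩ = n := el
  have key : ∀ w : E.Cp, (w : E.Xp) ∈ M → ∀ hwz : Commute (w : G) D.z,
      T.B.matHom ⟨g, E.Cp_HN g.2 hgz⟩ = T.B.matHom ⟨w, E.Cp_HN w.2 hwz⟩ → (g : E.Xp) ∈ M := by
    intro w hw hwz e
    obtain ⟨b, hb, u, hu, eb⟩ := E.matp_ker h (g := (g : G) * (w : G)⁻¹) (mul_mem g.2 (inv_mem w.2))
      (hgz.mul_left hwz.inv_left) (by
        rw [show (⟨(g : G) * (w : G)⁻¹, _⟩ : T.S.HN) = ⟨g, E.Cp_HN g.2 hgz⟩ * ⟨w, E.Cp_HN w.2 hwz⟩⁻¹ from rfl,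
          map_mul, map_inv, e, mul_inv_cancel])
    have e2 : g = (⟨b, E.Ap_le_Cp hb⟩ : E.Cp) * ⟨u, E.Q1_le_Cp hu⟩ * w := Subtype.ext (by
      show (g : G) = b * u * w
      rw [← eb, inv_mul_cancel_right])
    rw [e2, QuotientGroup.mk_mul, QuotientGroup.mk_mul,
      (QuotientGroup.eq_one_iff (⟨b, E.Ap_le_Cp hb⟩ : E.Cp)).2 (mem_subgroupOf.2 hb), one_mul]
    exact mul_mem (hQ1 u hu) hw
  rcases hm with e | e | e
  · exact key ⟨l, hlC⟩ (hL _ (T.S.L_four hl)) hlz (e.trans el'.symm)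
  · refine key (⟨l, hlC⟩ * ⟨T.x, E.x_mem_Cp⟩) ?_ (hlz.mul_left T.hx.1) ?_
    · rw [QuotientGroup.mk_mul]; exact mul_mem (hL ⟨l, hlC⟩ (T.S.L_four hl)) hx
    · rw [e, ← el', ← map_mul]; rfl
  · refine key (⟨l, hlC⟩ * (⟨T.x, E.x_mem_Cp⟩ * ⟨T.x, E.x_mem_Cp⟩)) ?_
      (hlz.mul_left (T.hx.1.mul_left T.hx.1)) ?_
    · rw [QuotientGroup.mk_mul, QuotientGroup.mk_mul]
      exact mul_mem (hL ⟨l, hlC⟩ (T.S.L_four hl)) (mul_mem hx hx)
    · rw [e, ← el', ← map_mul, ← map_mul]; rfl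

/-- No element centralising the pair inverts the centre. -/
theorem zpq_not_inverted (h : ¬ T.IsThree) : ∀ g : E.Xp, g * E.zpq * g⁻¹ ≠ E.zpq⁻¹ := by
  intro c e
  haveI : Fact (Nat.Prime 3) := ⟨Nat.prime_three⟩
  obtain ⟨g, rfl⟩ := QuotientGroup.mk_surjective c
  rw [zpq, ← QuotientGroup.mk_inv, ← QuotientGroup.mk_inv, ← QuotientGroup.mk_mul, ← QuotientGroup.mk_mul] at e
  have hgz : (g : G) * D.z * (g : G)⁻¹ = D.z⁻¹ := E.fix_of_mod h g.2 (inv_mem (mem_zpowers _))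
    (inv_ne_one.2 D.z_ne) (E.mkp_eq_iff.1 e)
  set K := E.Cp ⊓ centralizer ({D.z} : Set G)
  set W := (T.B.Stab ⊓ E.Cp).subgroupOf K with hW
  have hKz : ∀ u ∈ K, Commute u D.z := fun u hu => mem_centralizer_singleton_iff.1 hu.2
  -- a Sylow subgroup of the centraliser of the centre and the pair
  obtain ⟨S, hS⟩ : ∃ S : Sylow 3 K, (S : Subgroup K) = W := by
    have hp : IsPGroup 3 W := by
      intro u
      obtain ⟨n, hn⟩ := T.B.Stab_pgroup ⟨_, (mem_subgroupOf.1 u.2).1⟩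
      exact ⟨n, Subtype.ext (Subtype.ext (by simpa using congrArg Subtype.val hn))⟩
    obtain ⟨S, hS⟩ := hp.exists_le_sylow
    refine ⟨S, le_antisymm (fun u hu => mem_subgroupOf.2 (Subgroup.mem_inf.2 ⟨?_, u.2.1⟩)) hS⟩
    let ρ : K →* SL3 := T.B.matHom.comp (K.subtype.codRestrict T.S.HN fun v => E.Cp_HN v.2.1 (hKz v v.2))
    set xk : K := ⟨T.x, E.x_mem_Cp, mem_centralizer_singleton_iff.2 T.hx.1⟩
    have hxS : xk ∈ (S : Subgroup K) := hS (mem_subgroupOf.2 ⟨T.hx, E.x_mem_Cp⟩)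
    have hx3 : orderOf (ρ xk) = 3 := (sl_three_card _ E.x_pow3).resolve_left E.matp_x
    have himg : (S : Subgroup K).map ρ = zpowers (ρ xk) := by
      refine (eq_of_le_of_card_ge (zpowers_le.2 (mem_map.2 ⟨xk, hxS, rfl⟩)) ?_).symm
      obtain ⟨n, hn⟩ := (S.2.map ρ).exists_card_eq
      rw [Nat.card_zpowers, hx3, hn]
      have hd : 3 ^ n ∣ 24 := hn ▸ sl_card.1 ▸ card_subgroup_dvd_card _
      by_contra hlt
      have hn2 : 2 ≤ n := by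
        by_contra h2
        interval_cases n <;> simp at hlt
      exact absurd ((pow_dvd_pow 3 hn2).trans hd) (by decide)
    obtain ⟨i, hi⟩ := mem_powers_iff_mem_zpowers.2 (himg.le ⟨u, hu, rfl⟩ : ρ u ∈ zpowers (ρ xk))
    have hm : ρ (u * (xk ^ i)⁻¹) = 1 := by
      rw [map_mul, map_inv, map_pow]; exact mul_inv_eq_one.2 hi.symm
    have hm' := E.Stab_of_mat (g := ((u * (xk ^ i)⁻¹ : K) : G)) (u * (xk ^ i)⁻¹).2.1 (hKz _ (u * (xk ^ i)⁻¹).2) hm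
    have := mul_mem hm' (pow_mem T.hx i : T.x ^ i ∈ T.B.Stab)
    simpa [xk] using this
  have hgK : ∀ u ∈ K, (g : G) * u * (g : G)⁻¹ ∈ K := fun u hu => ⟨E.Cp.mul_mem (E.Cp.mul_mem g.2 hu.1) (E.Cp.inv_mem g.2),
    mem_centralizer_singleton_iff.2 (by
      have := (hKz u hu).map (MulAut.conj (g : G)).toMonoidHom
      simp only [MulEquiv.toMonoidHom_eq_coe, MonoidHom.coe_coe, MulAut.conj_apply, hgz] at this
      exact (inv_inv D.z ▸ this.inv_right).eq)⟩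
  have hgN : (g : G) ∈ normalizer (K : Set G) := mem_normalizer_set fun u hu => hgK u hu
  -- move the plane back
  let φ : K →* K := ((MulAut.conj (g : G)).toMonoidHom.comp K.subtype).codRestrict K fun u => hgK u u.2
  have hφ : Function.Injective φ := fun a b eab => Subtype.ext
    (mul_left_cancel (mul_right_cancel (congrArg Subtype.val eab)))
  have hp' : IsPGroup 3 ((S : Subgroup K).map φ) := S.2.map φ
  obtain ⟨S', hS'⟩ := hp'.exists_le_sylow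
  obtain ⟨c, hc⟩ := MulAction.exists_smul_eq K S' S
  set g' := ((c : K) : G) * g
  have hJ : ∀ w ∈ T.J, g' * w * g'⁻¹ ∈ T.B.Stab := by
    intro w hw
    have hwK : w ∈ K := ⟨E.P_le_Cp (T.J_le_P hw), mem_centralizer_singleton_iff.2 (T.J_le_Stab hw).1⟩
    have h1 : φ ⟨w, hwK⟩ ∈ (S' : Subgroup K) :=
      hS' ⟨_, hS.ge (mem_subgroupOf.2 ⟨T.J_le_Stab hw, hwK.1⟩), rfl⟩
    have h2 : c * φ ⟨w, hwK⟩ * c⁻¹ ∈ (S : Subgroup K) := by
      rw [← hc]; exact ⟨_, h1, by simp [MulAut.conj_apply]⟩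
    have h3 := (mem_subgroupOf.1 (hS.le h2)).1
    have e : ((c * φ ⟨w, hwK⟩ * c⁻¹ : K) : G) = g' * w * g'⁻¹ := by
      show (c : G) * ((g : G) * w * (g : G)⁻¹) * (c : G)⁻¹ = _
      simp only [g']; group
    rwa [e] at h3
  have hn := T.weakly_closed hJ
  have hg'C : g' ∈ E.Cp := mul_mem c.2.1 g.2
  refine E.inv_not_Fix h hn (E.mem_Cp.1 hg'C).1 ?_ ?_
  · rw [show g' * D.z * g'⁻¹ = (c : G) * ((g : G) * D.z * (g : G)⁻¹) * (c : G)⁻¹ by simp only [g']; group, hgz,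
      (hKz c c.2).inv_right.eq, mul_inv_cancel_right]
  · rcases fix_or_inv h hn with hf | hi
    · exact hf
    · exfalso
      have h2 := hi _ (E.d_P p5)
      rw [(E.mem_Cp.1 hg'C).2.eq, mul_inv_cancel_right, ← pow_two] at h2
      have h3 := pow_mem h2 2
      rw [← pow_mul, show 2 * 2 = 3 + 1 from rfl, pow_succ, E.d_cube h, one_mul] at h3
      exact E.d_not_J p5 h3

end Scalar

end Setting

end Cfsg.Lib.U6Three
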