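import Cfsg.Agent.Lib.U6ThreeNine.Bad
import Cfsg.Agent.Lib.U6ThreeNine.PairData
import Cfsg.Agent.Lib.U6Three.Fixed
import Cfsg.Agent.Lib.Core.Cores

/-!
# Nothing but the involution centralises such a hyperplane in a signalizer
-/

set_option autoImplicit false
set_option linter.unusedSectionVars false
set_option linter.style.haveILetI false
set_option synthInstance.maxSize 4000
set_option maxHeartbeats 1600000

namespace Cfsg.Lib.U6Three

open Subgroup
open scoped commutatorElement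

namespace Setting

variable {G : Type*} [Group G] [Finite G] {D : Data G} {T : Setting D}

namespace Scalar

variable (E : T.Scalar) {ys : G} (h : ¬ T.IsThree) (hys : ys ∈ T.P) (hyJ : ys ∉ T.J)
include E h hys hyJ

/-- Only the involution centralises the hyperplane in an invariant subgroup of order prime to three. -/
theorem bad_case (hyt : Commute ys T.S.t) {U : Subgroup G} (hU : (Nat.card U).Coprime 3)
    (hUt : ∀ u ∈ U, Commute u T.S.t) (hUn : ∀ p ∈ T.P, Commute p T.S.t → p ∈ normalizer (U : Set G))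
    {u : G} (hu : u ∈ U) (huB : u ∈ E.CB ys) : u ∈ zpowers T.S.t := by
  classical
  haveI : Fact (Nat.Prime 3) := ⟨Nat.prime_three⟩
  haveI : Fact (Nat.Prime 2) := ⟨Nat.prime_two⟩
  have hle := E.P_le_CB h hys hyJ
  have ha2P : T.B.a2 ∈ T.P := T.cv_a2 ▸ T.cv_P _
  have ha1P : T.B.a1 ∈ T.P := T.cv_a1 ▸ T.cv_P _
  have hzP : D.z ∈ T.P := T.J_le_P (T.h.z_mem_J T.B T.hx)
  have htB : T.S.t ∈ E.CB ys := (E.mem_CB ys).2 ⟨(T.cv_t rfl).symm, ((D.mem_fixC.1 T.B.ha2).2).symm, hyt.symm⟩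
  have ht1 : T.S.t ≠ 1 := fun e => by
    have hc := T.ta
    rw [e, one_mul, inv_one, mul_one] at hc
    exact T.B.a1_not_Zc (D.mem_of_sq_mem T.B.ha1.1 (by nth_rewrite 2 [hc]; rw [mul_inv_cancel]; exact D.Zc.one_mem))
  -- the subgroup to be bounded
  set W : Subgroup G := (U ⊓ E.CB ys) ⊔ zpowers T.S.t with hWdef
  have hWt : W ≤ centralizer ({T.S.t} : Set G) :=
    sup_le (fun w hw => mem_centralizer_singleton_iff.2 (hUt w hw.1))
      (zpowers_le.2 (mem_centralizer_singleton_iff.2 rfl))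
  have hWB : W ≤ E.CB ys := sup_le inf_le_right (zpowers_le.2 htB)
  have hWc : (Nat.card W).Coprime 3 := by
    refine sup_coprime (zpowers_le.2 (mem_normalizer_set fun w hw => ?_))
      (hU.coprime_dvd_left (card_dvd_of_le inf_le_left)) ?_
    · rw [((hUt w hw.1).symm).eq, mul_inv_cancel_right]; exact hw
    · rw [Nat.card_zpowers, orderOf_eq_prime (by rw [pow_two]; exact T.S.t_sq) ht1]; decide
  have hWn : ∀ p ∈ T.P, Commute p T.S.t → ∀ w ∈ W, p * w * p⁻¹ ∈ W := by
    intro p hp hpt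
    have : W ≤ W.comap (MulAut.conj p).toMonoidHom := by
      refine sup_le (fun w hw => mem_sup_left ⟨(mem_normalizer_iff.1 (hUn p hp hpt) w).1 hw.1,
        (E.CB ys).mul_mem ((E.CB ys).mul_mem (hle hp) hw.2) ((E.CB ys).inv_mem (hle hp))⟩) (zpowers_le.2 ?_)
      show p * T.S.t * p⁻¹ ∈ W
      rw [hpt.eq, mul_inv_cancel_right]; exact mem_sup_right (mem_zpowers _)
    exact fun w hw => this hw
  have hWfix : ∀ w ∈ W, Commute w D.z → w = 1 ∨ w = T.S.t := by
    intro w hw hwz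
    have hwL : w ∈ T.S.L := T.fix_in_L hWc (fun u hu => mem_centralizer_singleton_iff.1 (hWt hu))
      (mem_normalizer_set (hWn _ ha2P (D.mem_fixC.1 T.B.ha2).2)) hw hwz
    have hwx : Commute w T.x := by
      have h1 := ((E.mem_CB ys).1 (hWB hw)).1
      rw [v14_split, T.cv_add,
        T.cv_smul, T.cv_z, zp_zp D.z_cube, T.cv_x] at h1
      have h2 := (zp_comm hwz.symm (T.ε * 2)).symm.inv_right.mul_right h1
      rwa [inv_mul_cancel_left] at h2
    obtain ⟨n, hn⟩ := mem_powers_iff_mem_zpowers.2 (T.fix_x_L hwL hwx)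
    rw [← hn]
    rcases Nat.even_or_odd' n with ⟨m, rfl | rfl⟩
    · left; show T.S.t ^ (2 * m) = 1; rw [pow_mul, pow_two, T.S.t_sq, one_pow]
    · right; show T.S.t ^ (2 * m + 1) = T.S.t; rw [pow_succ, pow_mul, pow_two, T.S.t_sq, one_pow, one_mul]
  suffices hW2 : Nat.card W = 2 by
    have e : zpowers T.S.t = W := eq_of_le_of_card_ge le_sup_right (le_of_eq (by
      rw [hW2, Nat.card_zpowers, orderOf_eq_prime (by rw [pow_two]; exact T.S.t_sq) ht1]))
    exact e.symm.le (mem_sup_left ⟨hu, huB⟩)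
  -- the kernel of the character
  obtain ⟨F, hFz, hF1⟩ := E.exists_char_CB h hys hyJ
  set B0 : Subgroup G := zpowers (T.cv (2, 0, 0, 1)) ⊔ zpowers T.B.a2 ⊔ zpowers ys with hB0def
  have hB0P : B0 ≤ T.P :=
    sup_le (sup_le (zpowers_le.2 (T.cv_P _)) (zpowers_le.2 ha2P)) (zpowers_le.2 hys)
  set M : Subgroup G := F.ker.map (E.CB ys).subtype with hMdef
  have hMB : M ≤ E.CB ys := map_subtype_le _
  have hMmem : ∀ {g : G}, g ∈ M ↔ ∃ hg : g ∈ E.CB ys, F ⟨g, hg⟩ = 1 := fun {g} => by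
    constructor
    · rintro ⟨w, hw, rfl⟩; exact ⟨w.2, hw⟩
    · rintro ⟨hg, e⟩; exact ⟨⟨g, hg⟩, e, rfl⟩
  have hMn : ∀ {g w : G}, g ∈ E.CB ys → w ∈ M → g * w * g⁻¹ ∈ M := fun {g w} hg hw => by
    obtain ⟨hwB, e⟩ := hMmem.1 hw
    refine hMmem.2 ⟨mul_mem (mul_mem hg hwB) (inv_mem hg), ?_⟩
    rw [show (⟨g * w * g⁻¹, _⟩ : E.CB ys) = ⟨g, hg⟩ * ⟨w, hwB⟩ * ⟨g, hg⟩⁻¹ from rfl, map_mul, map_mul, map_inv, e,
      mul_one, mul_inv_cancel]
  have hkey : ∀ v m, v.1 + v.2.2.2 = 0 → T.cv v * zp ys m ∈ M := fun v m e =>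
    hMmem.2 ⟨_, hF1 _ (mul_mem (T.cv_P v) (zp_mem hys m)) v m rfl e hyt.symm⟩
  have hB0M : B0 ≤ M := fun b hb => by
    obtain ⟨a, c, m, rfl⟩ := E.B0_form h hys hyJ hb
    exact hkey _ m (neg_double a).2.2
  have ha1M : T.B.a1 ∈ M := by
    have := hkey (0, 1, 0, 0) 0 (by simp)
    rwa [T.cv_a1, zp_zero, mul_one] at this
  have hWM : W ≤ M := fun w hw => hMmem.2 ⟨hWB hw, by
    refine eq_one_of_coprime hWc ?_ (mz_cube _)
    rw [← map_pow, show (⟨w, hWB hw⟩ : E.CB ys) ^ Nat.card W = 1 from Subtype.ext (pow_card hw), map_one]⟩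
  -- the quotient
  set Z0 : Subgroup M := B0.subgroupOf M
  have hcB : ∀ g ∈ M, ∀ b ∈ B0, Commute g b := fun g hg b hb => by
    have hle' : B0 ≤ centralizer ({g} : Set G) := by
      obtain ⟨n1, n2, n3⟩ := (E.mem_CB ys).1 (hMB hg)
      exact sup_le (sup_le (zpowers_le.2 (mem_centralizer_singleton_iff.2 n1.symm))
        (zpowers_le.2 (mem_centralizer_singleton_iff.2 n2.symm))) (zpowers_le.2 (mem_centralizer_singleton_iff.2 n3.symm))
    exact (mem_centralizer_singleton_iff.1 (hle' hb) : Commute b g).symm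
  haveI : Z0.Normal := ⟨fun w hw g => by
    rw [mem_subgroupOf, coe_mul, coe_mul, coe_inv, (hcB g g.2 w (mem_subgroupOf.1 hw)).eq, mul_inv_cancel_right]
    exact mem_subgroupOf.1 hw⟩
  let q : M →* M ⧸ Z0 := QuotientGroup.mk' Z0
  have hker : ∀ g : M, q g = 1 ↔ (g : G) ∈ B0 := fun g => (QuotientGroup.eq_one_iff g).trans mem_subgroupOf
  set a : M ⧸ Z0 := q ⟨T.B.a1, ha1M⟩ with hadef
  have ha1 : a ≠ 1 := fun e => by
    obtain ⟨c1, c2, m, hw⟩ := E.B0_form h hys hyJ ((hker _).1 e)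
    rw [show ((⟨T.B.a1, ha1M⟩ : M) : G) = T.B.a1 from rfl, ← T.cv_a1] at hw
    by_cases hm : m = 0
    · rw [hm, zp_zero, mul_one] at hw
      exact absurd (congrArg (fun v : V4 => v.2.1) (T.cv_inj hw)) one_ne_zero
    · have hJ : zp ys m ∈ T.J := by
        rw [← inv_mul_cancel_left (T.cv (2 * c1, 0, c2, c1)) (zp ys m), ← hw]
        exact mul_mem (inv_mem (T.cv_mem _)) (T.cv_mem _)
      have h2 := zp_mem hJ m⁻¹
      rw [zp_zp (cube_P h hys), mul_inv_cancel₀ hm, zp_one] at h2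
      exact hyJ h2
  have ha3 : a ^ 3 = 1 := by
    rw [hadef, ← map_pow, show (⟨T.B.a1, ha1M⟩ : M) ^ 3 = 1 from Subtype.ext T.B.a1_cube, map_one]
  set X := zpowers a
  have hXc : Nat.card X = 3 := by rw [Nat.card_zpowers, orderOf_eq_prime ha3 ha1]
  have hCX : centralizer (X : Set (M ⧸ Z0)) = X := by
    refine le_antisymm (fun c hc => ?_) fun c hc => mem_centralizer_iff.2 fun d hd => ?_
    · obtain ⟨g, rfl⟩ := QuotientGroup.mk'_surjective Z0 c
      have hga := mem_centralizer_iff.1 hc a (mem_zpowers a)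
      have hb : T.B.a1⁻¹ * ((g : G) * T.B.a1 * (g : G)⁻¹) ∈ B0 := by
        refine (hker (⟨T.B.a1, ha1M⟩⁻¹ * (g * ⟨T.B.a1, ha1M⟩ * g⁻¹))).1 ?_
        rw [map_mul, map_mul, map_mul, map_inv, map_inv]
        show a⁻¹ * (q g * a * (q g)⁻¹) = 1
        rw [show q g * a = a * q g from hga.symm]; group
      have hgP := E.cent_a1_CB h hys hyJ (hMB g.2) hb (mul_inv_cancel_left _ _).symm
      obtain ⟨v, m, e⟩ := E.P_form h hys hyJ hgP
      obtain ⟨w, hw⟩ : ∃ w : V4, w = v + (-(v.1 + v.2.2.2)) • ((1, 0, 0, 0) : V4) := ⟨_, rfl⟩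
      have hw0 : w.1 + w.2.2.2 = 0 := by rw [hw]; simp
      have hs : v.1 + v.2.2.2 = 0 := by
        obtain ⟨hgB, eF⟩ := hMmem.1 g.2
        by_contra hs
        have hz' : T.cv ((v.1 + v.2.2.2) • (1, 0, 0, 0)) ∈ M := by
          have h1 := mul_mem g.2 (inv_mem (hkey w m hw0))
          rwa [e, mul_inv_rev, ← mul_assoc, mul_inv_cancel_right, T.cv_inv, ← T.cv_add,
            show v + -w = (v.1 + v.2.2.2) • ((1, 0, 0, 0) : V4) by rw [hw, neg_smul]; abel] at h1
        rw [T.cv_smul, T.cv_z, zp_zp D.z_cube] at hz'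
        have h2 := zp_mem hz' (T.ε * (v.1 + v.2.2.2))⁻¹
        rw [zp_zp D.z_cube, mul_inv_cancel₀ (mul_ne_zero T.ε_ne hs), zp_one] at h2
        obtain ⟨hzB, ez⟩ := hMmem.1 h2
        exact hFz ez
      have hv : T.cv v = T.cv (2 * v.2.2.2, 0, v.2.2.1, v.2.2.2) * zp T.B.a1 v.2.1 := by
        rw [← T.cv_a1, ← T.cv_smul, ← T.cv_add]
        congr 1
        have := eq_neg_of_add_eq_zero_left hs
        rcases v with ⟨p1, p2, p3, p4⟩
        simp only at this
        subst this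
        simp [Prod.ext_iff]
        exact (neg_double p4).2.1
      have hb0 : T.cv (2 * v.2.2.2, 0, v.2.2.1, v.2.2.2) * zp ys m ∈ B0 := by
        have e0 : T.cv (2 * v.2.2.2, 0, v.2.2.1, v.2.2.2) = zp (T.cv (2, 0, 0, 1)) v.2.2.2 * zp T.B.a2 v.2.2.1 := by
          rw [← T.cv_a2, ← T.cv_smul, ← T.cv_smul, ← T.cv_add]
          congr 1
          simp [Prod.ext_iff, mul_comm]
        rw [e0]
        exact mul_mem (mul_mem (mem_sup_left (mem_sup_left (zp_mem (mem_zpowers _) _)))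
          (mem_sup_left (mem_sup_right (zp_mem (mem_zpowers _) _)))) (mem_sup_right (zp_mem (mem_zpowers _) _))
      have hg : g = ⟨_, hB0M hb0⟩ * ⟨zp T.B.a1 v.2.1, zp_mem ha1M _⟩ := Subtype.ext (by
        show (g : G) = T.cv (2 * v.2.2.2, 0, v.2.2.1, v.2.2.2) * zp ys m * zp T.B.a1 v.2.1
        rw [e, hv, mul_assoc, mul_assoc,
          (zp_comm (zp_comm (comm_of_P hys ha1P) m).symm v.2.1 : Commute (zp T.B.a1 v.2.1) (zp ys m)).eq])
      rw [hg, map_mul, (hker ⟨_, hB0M hb0⟩).2 hb0, one_mul,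
        show (⟨zp T.B.a1 v.2.1, zp_mem ha1M _⟩ : M) = ⟨T.B.a1, ha1M⟩ ^ (v.2.1).val from rfl, map_pow]
      exact pow_mem (mem_zpowers a) _
    · obtain ⟨i, rfl⟩ := mem_zpowers_iff.1 hc
      obtain ⟨j, rfl⟩ := mem_zpowers_iff.1 hd
      exact (Commute.zpow_zpow (Commute.refl a) j i).eq
  -- no normal subgroup of order prime to three
  have hodd : ∀ N : Subgroup (M ⧸ Z0), N.Normal → (Nat.card N).Coprime 3 → N = ⊥ := by
    intro N hN hNc
    set O := pPrimeCore 3 (M ⧸ Z0)
    haveI : O.Characteristic := Cfsg.Lib.Core.pPrimeCore_characteristic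
    suffices hO : O = ⊥ from le_bot_iff.1 (hO ▸ Cfsg.Lib.Core.le_pPrimeCore' hN hNc)
    set K := (O.comap q).map M.subtype
    have hB0K : B0 ≤ K := fun b hb => ⟨⟨b, hB0M hb⟩, mem_comap.2 (by
      rw [(hker ⟨b, hB0M hb⟩).2 hb]; exact one_mem O), rfl⟩
    have hB0c : Nat.card B0 ∣ 243 := E.card_P h ▸ card_dvd_of_le hB0P
    have hKc : Nat.card K = Nat.card B0 * Nat.card O := by
      rw [show K = (O.comap q).map M.subtype from rfl, card_map_of_injective M.subtype_injective]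
      have h' := card_map_mul q (O.comap q)
      rw [map_comap_eq_self_of_surjective (QuotientGroup.mk'_surjective _),
        inf_eq_right.2 fun g hg => mem_comap.2 (by rw [MonoidHom.mem_ker.1 hg]; exact one_mem O),
        QuotientGroup.ker_mk', Nat.card_congr (subgroupOfEquivOfLe hB0M).toEquiv] at h'
      rw [← h', mul_comm]
    obtain ⟨V, hVK, hVc, hVm⟩ := exists_coprime_part' hB0K
      (fun g hg b hb => hcB g (map_subtype_le _ hg) b hb) hKc
      (Nat.Coprime.coprime_dvd_left hB0c (by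
        rw [show (243 : ℕ) = 3 ^ 5 by norm_num]
        exact (Cfsg.Lib.Core.pPrimeCore_coprime 3 (M ⧸ Z0)).symm.pow_left 5))
    have hV : V = ⊥ := by
      refine T.signalizer (hVc ▸ Cfsg.Lib.Core.pPrimeCore_coprime 3 (M ⧸ Z0)) fun j hj => ?_
      refine mem_normalizer_set fun w hw => hVm _ ?_ ?_
      · have hjB := hle (T.J_le_P hj)
        have hjN : j ∈ normalizer (M : Set G) := mem_normalizer_set fun w hw => hMn hjB hw
        let cj : M →* M := ((MulAut.conj j).toMonoidHom.comp M.subtype).codRestrict M fun w => hMn hjB w.2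
        have hZ : Z0 ≤ Z0.comap cj := fun w hw => mem_comap.2 (mem_subgroupOf.2 (by
          show j * (w : G) * j⁻¹ ∈ B0
          rw [(comm_of_P (T.J_le_P hj) (hB0P (mem_subgroupOf.1 hw))).eq, mul_inv_cancel_right]
          exact mem_subgroupOf.1 hw))
        let cq : M ⧸ Z0 →* M ⧸ Z0 := QuotientGroup.map Z0 Z0 cj hZ
        have hsurj : Function.Surjective cq := fun c => by
          obtain ⟨g, rfl⟩ := QuotientGroup.mk_surjective c
          refine ⟨QuotientGroup.mk ⟨j⁻¹ * g * j, ?_⟩, congrArg QuotientGroup.mk (Subtype.ext ?_)⟩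
          · have := hMn (inv_mem hjB) g.2
            rwa [inv_inv] at this
          · show j * (j⁻¹ * (g : G) * j) * j⁻¹ = g
            group
        have hO' : O.map (MulEquiv.ofBijective cq
            (Finite.injective_iff_surjective.2 hsurj |> fun hi => ⟨hi, hsurj⟩)).toMonoidHom = O :=
          Subgroup.characteristic_iff_map_eq.1 inferInstance _
        obtain ⟨w', hw', rfl⟩ := hVK hw
        refine ⟨cj w', mem_comap.2 ?_, rfl⟩
        exact hO'.le ⟨q w', mem_comap.1 hw', rfl⟩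
      · rw [conj_pow, show w ^ Nat.card O = 1 from hVc ▸ pow_card hw]
        group
    exact Subgroup.card_eq_one.1 (hVc ▸ hV ▸ Subgroup.card_bot)
  -- the image
  let ι : W →* M ⧸ Z0 := q.comp (Subgroup.inclusion hWM)
  have hι : Function.Injective ι := by
    rw [injective_iff_map_eq_one]
    intro w hw
    have hwB : (w : G) ∈ B0 := (hker _).1 hw
    exact Subtype.ext (eq_one_of_coprime hWc (pow_card w.2) (cube_P h (hB0P hwB)))
  set tb : W := ⟨T.S.t, mem_sup_right (mem_zpowers _)⟩ with htb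
  have htt : ∀ w : W, Commute (ι w) (ι tb) := fun w =>
    (show Commute w tb from Subtype.ext (mem_centralizer_singleton_iff.1 (hWt w.2))).map ι
  have htb1 : tb ≠ 1 := fun e => ht1 (congrArg Subtype.val e)
  have htb2 : ι tb * ι tb = 1 := by rw [← map_mul, show tb * tb = 1 from Subtype.ext T.S.t_sq, map_one]
  have hrange : Nat.card ι.range = Nat.card W := (Nat.card_congr (MonoidHom.ofInjective hι).toEquiv).symm
  have hsmall : Nat.card W ≤ 4 ∨ Nonempty (W ≃* DihedralGroup 4) := by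
    rcases Cfsg.Agent.S3331.result X hXc hCX with ⟨N, hN, -, hNc, hq⟩ | ⟨N, hN, -, hN2, ⟨e⟩⟩ | ⟨⟨e⟩⟩
    · obtain rfl := hodd N hN hNc
      have hcq : Nat.card ((M ⧸ Z0) ⧸ (⊥ : Subgroup (M ⧸ Z0))) = Nat.card (M ⧸ Z0) :=
        Nat.card_congr QuotientGroup.quotientBot.toEquiv
      have h6 : Nat.card (M ⧸ Z0) ∣ 3 * 2 := by
        rcases hq with hq' | ⟨⟨e⟩⟩
        · rw [← hcq, hq']; norm_num
        · rw [← hcq, Nat.card_congr e.toEquiv, Nat.card_perm, Nat.card_fin]; rfl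
      have hd : Nat.card W ∣ 2 :=
        hWc.dvd_of_dvd_mul_left ((hrange ▸ card_subgroup_dvd_card ι.range).trans h6)
      exact Or.inl ((Nat.le_of_dvd (by norm_num) hd).trans (by norm_num))
    · obtain rfl := hodd N hN (by
        obtain ⟨j, hj⟩ := (show IsPGroup 2 N from fun n => ⟨1, Subtype.ext (hN2 n n.2)⟩).exists_card_eq
        rw [hj]
        exact (show Nat.Coprime 2 3 by norm_num).pow_left j)
      let e' : (M ⧸ Z0) ≃* alternatingGroup (Fin 5) := QuotientGroup.quotientBot.symm.trans e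
      left
      have hx1 : e' (ι tb) ≠ 1 := fun he => htb1 (hι ((e'.map_eq_one_iff.1 he).trans (map_one ι).symm))
      have hxx : e' (ι tb) * e' (ι tb) = 1 := by rw [← map_mul, htb2, map_one]
      rw [← a5_cent_four _ hxx hx1, ← Nat.card_eq_finsetCard]
      exact Nat.card_le_card_of_injective
        (fun w : W => (⟨e' (ι w), Finset.mem_filter.2 ⟨Finset.mem_univ _, ((htt w).map e').eq⟩⟩ :
          {y // y ∈ Finset.univ.filter fun y => y * e' (ι tb) = e' (ι tb) * y}))
        fun w w' he => hι (e'.injective (congrArg Subtype.val he))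
    · let f : W →* Matrix.ProjectiveSpecialLinearGroup (Fin 2) (ZMod 7) := e.toMonoidHom.comp ι
      have hf : Function.Injective f := e.injective.comp hι
      have hfr : Nat.card f.range = Nat.card W := (Nat.card_congr (MonoidHom.ofInjective hf).toEquiv).symm
      rcases psl7_small f.range (hfr ▸ hWc) (t := f tb) (fun he => htb1 (hf (he.trans (map_one f).symm)))
        (by rw [← map_mul, show tb * tb = 1 from Subtype.ext T.S.t_sq, map_one])
        (by rintro _ ⟨w, rfl⟩; exact (htt w).map e.toMonoidHom) with hs | ⟨⟨d⟩⟩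
      · exact Or.inl (hfr ▸ hs)
      · exact Or.inr ⟨(MonoidHom.ofInjective hf).trans d⟩
  let φ : W →* W := ((MulAut.conj D.z).toMonoidHom.comp W.subtype).codRestrict W fun w =>
    hWn _ hzP T.S.t_z.symm w w.2
  refine two_of_auto φ (fun a b eab => Subtype.ext
      (mul_left_cancel (mul_right_cancel (congrArg Subtype.val eab)))) (fun w => Subtype.ext ?_) (t := tb)
    (Subtype.ext ?_) htb1 (fun w hw => ?_) hsmall
  · show D.z * (D.z * (D.z * w * D.z⁻¹) * D.z⁻¹) * D.z⁻¹ = w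
    calc _ = (D.z * D.z * D.z) * (w : G) * (D.z * D.z * D.z)⁻¹ := by group
      _ = w := by rw [show D.z * D.z * D.z = D.z ^ 3 by simp [pow_succ], D.z_cube]; group
  · show D.z * T.S.t * D.z⁻¹ = T.S.t
    rw [T.S.t_z.symm.eq, mul_inv_cancel_right]
  · have hwz : Commute (w : G) D.z := (mul_inv_eq_iff_eq_mul.1 (congrArg Subtype.val hw) : Commute D.z (w : G)).symm
    exact (hWfix w w.2 hwz).imp (fun e => Subtype.ext e) fun e => Subtype.ext e

end Scalar

end Setting

end Cfsg.Lib.U6Three
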