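import Cfsg.Agent.Lib.U6Three.Three

/-!
# The case of a Sylow subgroup of order `3⁷`: the centraliser of the plane and the fixed character
-/

set_option autoImplicit false
set_option linter.unusedSectionVars false
set_option synthInstance.maxSize 4000

namespace Cfsg.Lib.U6Three

open Subgroup
open scoped commutatorElement

theorem plane_no_fixed : ∀ v : V4, (∀ i j : ZMod 3, app (uM i j) v = v) →
    (∀ i j : ZMod 3, app (vM i j) v = v) → v = 0 := by decide +kernel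

theorem plane_line : ∀ v : V4, v ≠ 0 → v.1 = 0 → v.2.2.1 = 0 → v.2.2.2 = 0 → v.2.1 = 1 ∨ v.2.1 = -1 := by
  decide +kernel

namespace Setting

variable {G : Type*} [Group G] [Finite G] {D : Data G} (T : Setting D)

theorem J_le_Stab : T.J ≤ T.B.Stab := (T.h.J_le_P T.B T.hx).trans (T.h.P_le_Stab T.B T.hx)

theorem P_le_Stab : T.P ≤ T.B.Stab := T.h.P_le_Stab T.B T.hx

theorem J_le_P : T.J ≤ T.P := T.h.J_le_P T.B T.hx

theorem cube_J {w : G} (hw : w ∈ T.J) : w ^ 3 = 1 := by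
  obtain ⟨v, rfl⟩ := T.exists_cv hw
  rw [pow_three, ← T.cv_add, ← T.cv_add,
    show v + (v + v) = 0 from (show ∀ a : V4, a + (a + a) = 0 by decide +kernel) v, T.cv_zero]

theorem kappa_J {w : G} (hw : w ∈ T.J) :
    ∃ l : ZMod 3, T.B.k1 ⟨w, T.J_le_Stab hw⟩ = l * T.B.k1 ⟨_, T.hx⟩ ∧
      T.B.k2 ⟨w, T.J_le_Stab hw⟩ = l * T.B.k2 ⟨_, T.hx⟩ := by
  obtain ⟨v, rfl⟩ := T.exists_cv hw
  have e : (⟨T.cv v, T.J_le_Stab hw⟩ : T.B.Stab) =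
      ⟨_, T.B.Q_le_Stab (T.B.el_mem (T.ε * v.1) v.2.1 v.2.2.1)⟩ * ⟨_, zp_mem T.hx v.2.2.2⟩ := Subtype.ext rfl
  refine ⟨v.2.2.2, ?_, ?_⟩
  · rw [e, T.B.k1_mul, T.B.k1_of_Q (T.B.el_mem _ _ _), T.B.k1_zp ⟨_, T.hx⟩, zero_add]
  · rw [e, T.B.k2_mul, T.B.k2_of_Q (T.B.el_mem _ _ _), T.B.k2_zp ⟨_, T.hx⟩, zero_add]

/-- The stabiliser is the extraspecial subgroup times the centraliser of the plane. -/
theorem stab_split {g : G} (hg : g ∈ T.B.Stab) : ∃ q ∈ D.Q, ∃ p ∈ T.P, g = q * p := by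
  obtain ⟨hd1, -⟩ := T.h.diag T.B T.hx
  have hgx : g * T.x * g⁻¹ ∈ T.B.Stab := T.B.Stab.mul_mem (T.B.Stab.mul_mem hg T.hx) (T.B.Stab.inv_mem hg)
  have hz : T.cv (1, 0, 0, 0) ∈ D.Q := by rw [T.cv_z]; exact zp_mem D.z_mem _
  have hnz : ∀ w ∈ D.Q, g * T.x * g⁻¹ ≠ w := fun w hw e => T.h.notin (by
    have := D.conj_inv_mem hg.1 hw
    rwa [← e, show g⁻¹ * (g * T.x * g⁻¹) * g = T.x by group] at this)
  rcases T.pt_cases (T.h.pt_mem_J T.B T.hx hgx (T.h.pt.conj g)) (T.h.pt.conj g) with e | e | ⟨i, j, e | e⟩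
  · exact absurd e (hnz _ hz)
  · exact absurd e (hnz _ (D.Q.inv_mem hz))
  · obtain ⟨q, hq, eq⟩ := T.orbit i j
    rw [T.cv_ptv, ← eq] at e
    refine ⟨q, hq, q⁻¹ * g, (T.h.mem_cent_J T.B T.hx).2
      ⟨T.B.Stab.mul_mem (T.B.Stab.inv_mem (T.B.Q_le_Stab hq)) hg, mul_inv_eq_iff_eq_mul.1 ?_⟩,
      (mul_inv_cancel_left q g).symm⟩
    rw [show q⁻¹ * g * T.x * (q⁻¹ * g)⁻¹ = q⁻¹ * (g * T.x * g⁻¹) * q by group, e]
    group
  · exfalso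
    have hS := T.B.Q_le_Stab (T.B.el_mem (T.ε * (i * i + j * j)) i j)
    have e2 : (⟨g, hg⟩ : T.B.Stab) * ⟨_, T.hx⟩ * ⟨g, hg⟩⁻¹ * (⟨_, hS⟩ * ⟨_, T.hx⟩) = 1 := Subtype.ext (by
      show g * T.x * g⁻¹ * (_ * T.x) = 1
      rw [e, T.cv_ptv, inv_mul_cancel])
    have e3 := congrArg T.B.kappa e2
    rw [map_mul, map_mul, map_mul, map_mul, map_inv, map_one, mul_comm (T.B.kappa ⟨g, hg⟩),
      mul_inv_cancel_right, show T.B.kappa ⟨_, hS⟩ = 1 from T.B.kappa_eq_one.2 (T.B.el_mem _ _ _), one_mul,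
      T.B.kappa_def, ← ofAdd_add, Prod.mk_add_mk] at e3
    have h1 := congrArg Prod.fst (Multiplicative.ofAdd.injective (e3.trans ofAdd_zero.symm))
    exact hd1 ((show ∀ c : ZMod 3, c + c = 0 → c = 0 by decide) _ h1)

theorem kappa_cube (g : T.B.Stab) : T.B.kappa (g ^ 3) = 1 := by
  rw [map_pow]
  exact (show ∀ v : Multiplicative (ZMod 3 × ZMod 3), v ^ 3 = 1 by decide) _

theorem cube_mem_J {p : G} (hp : p ∈ T.P) : p ^ 3 ∈ T.J :=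
  T.h.mem_J_of_P_Q T.B T.hx (pow_mem hp 3) (by
    simpa using T.B.kappa_eq_one.1 (T.kappa_cube ⟨p, T.P_le_Stab hp⟩))

variable {T} (h : ¬ T.IsThree)
include h

/-- An element of the centraliser of the plane acting on the second half alone. -/
theorem exists_y : ∃ y, ∃ hy : y ∈ T.P,
    T.B.k1 ⟨y, T.P_le_Stab hy⟩ = 0 ∧ T.B.k2 ⟨y, T.P_le_Stab hy⟩ ≠ 0 := by
  unfold Setting.IsThree at h
  push Not at h
  obtain ⟨⟨g, hg⟩, h1, h2⟩ := h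
  obtain ⟨q, hq, p, hp, rfl⟩ := T.stab_split hg
  have e : (⟨q * p, hg⟩ : T.B.Stab) = ⟨q, T.B.Q_le_Stab hq⟩ * ⟨p, T.P_le_Stab hp⟩ := Subtype.ext rfl
  rw [e, T.B.k1_mul, T.B.k1_of_Q hq, zero_add] at h1
  rw [e, T.B.k2_mul, T.B.k2_of_Q hq, zero_add] at h2
  exact ⟨p, hp, h1, h2⟩

omit h

variable (T) in
theorem mem_J_of_kappa {p : G} (hp : p ∈ T.P) (e : T.B.kappa ⟨p, T.P_le_Stab hp⟩ = 1) : p ∈ T.J :=
  T.h.mem_J_of_P_Q T.B T.hx hp (T.B.kappa_eq_one.1 e)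

theorem y_not_J {y : G} {hy : y ∈ T.P} (h1 : T.B.k1 ⟨y, T.P_le_Stab hy⟩ = 0)
    (h2 : T.B.k2 ⟨y, T.P_le_Stab hy⟩ ≠ 0) : y ∉ T.J := fun hm => by
  obtain ⟨l, e1, e2⟩ := T.kappa_J hm
  rw [h1] at e1
  rcases mul_eq_zero.1 e1.symm with e | e
  · exact h2 (by rw [e2, e, zero_mul])
  · exact (T.h.diag T.B T.hx).1 e

theorem P_decomp {y : G} {hy : y ∈ T.P} (h1 : T.B.k1 ⟨y, T.P_le_Stab hy⟩ = 0)
    (h2 : T.B.k2 ⟨y, T.P_le_Stab hy⟩ ≠ 0) {p : G} (hp : p ∈ T.P) : ∃ j ∈ T.J, ∃ m : ZMod 3, p = j * zp y m := by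
  obtain ⟨hd1, -⟩ := T.h.diag T.B T.hx
  set a := T.B.k1 ⟨p, T.P_le_Stab hp⟩
  set l := a * (T.B.k1 ⟨_, T.hx⟩)⁻¹
  set m := (T.B.k2 ⟨p, T.P_le_Stab hp⟩ - l * T.B.k2 ⟨_, T.hx⟩) * (T.B.k2 ⟨y, T.P_le_Stab hy⟩)⁻¹
  have hxl := T.J.pow_mem (T.h.x_mem_J T.B T.hx) l.val
  have hr : p * (zp y m)⁻¹ * (zp T.x l)⁻¹ ∈ T.J := by
    refine T.mem_J_of_kappa (mul_mem (mul_mem hp (inv_mem (zp_mem hy m))) (inv_mem (T.J_le_P hxl))) ?_
    show T.B.kappa (⟨p, T.P_le_Stab hp⟩ * ⟨_, zp_mem (T.P_le_Stab hy) m⟩⁻¹ * ⟨_, zp_mem T.hx l⟩⁻¹) = 1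
    rw [map_mul, map_mul, map_inv, map_inv, mul_inv_eq_one, mul_inv_eq_iff_eq_mul, T.B.kappa_def, T.B.kappa_def,
      T.B.kappa_def, ← ofAdd_add, Prod.mk_add_mk]
    congr 2
    · rw [T.B.k1_zp ⟨y, T.P_le_Stab hy⟩, T.B.k1_zp ⟨_, T.hx⟩, h1, mul_zero, add_zero]
      exact (inv_mul_cancel_right₀ hd1 a).symm
    · rw [T.B.k2_zp ⟨y, T.P_le_Stab hy⟩, T.B.k2_zp ⟨_, T.hx⟩, inv_mul_cancel_right₀ h2]
      ring
  refine ⟨_, mul_mem hr hxl, m, ?_⟩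
  show p = p * (zp y m)⁻¹ * (zp T.x l)⁻¹ * zp T.x l * zp y m
  group

variable (T) in
theorem norm_P {g : G} (hg : g ∈ normalizer (T.J : Set G)) {p : G} (hp : p ∈ T.P) : g * p * g⁻¹ ∈ T.P :=
  (mem_normalizer_iff.1 (T.h.norm_le_norm_P hg) p).1 hp

variable (T) in
theorem norm_J {g w : G} (hg : g ∈ normalizer (T.J : Set G)) (hw : w ∈ T.J) : g * w * g⁻¹ ∈ T.J :=
  (mem_normalizer_iff.1 hg w).1 hw

variable (T) in
/-- The elements of the normaliser of the plane fixing its centraliser modulo the plane. -/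
def Fix : Subgroup G where
  carrier := {g | g ∈ normalizer (T.J : Set G) ∧ ∀ p ∈ T.P, g * p * g⁻¹ * p⁻¹ ∈ T.J}
  one_mem' := ⟨one_mem _, fun p _ => by simp⟩
  mul_mem' := by
    rintro a b ⟨ha, ha'⟩ ⟨hb, hb'⟩
    refine ⟨mul_mem ha hb, fun p hp => ?_⟩
    rw [show a * b * p * (a * b)⁻¹ * p⁻¹ = a * (b * p * b⁻¹ * p⁻¹) * a⁻¹ * (a * p * a⁻¹ * p⁻¹) by group]
    exact mul_mem (T.norm_J ha (hb' p hp)) (ha' p hp)
  inv_mem' := by
    rintro a ⟨ha, ha'⟩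
    refine ⟨inv_mem ha, fun p hp => ?_⟩
    have := inv_mem (ha' _ (T.norm_P (inv_mem ha) hp))
    rwa [show (a * (a⁻¹ * p * a⁻¹⁻¹) * a⁻¹ * (a⁻¹ * p * a⁻¹⁻¹)⁻¹)⁻¹ = a⁻¹ * p * a⁻¹⁻¹ * p⁻¹ by group] at this

theorem Fix_norm {g : G} (hg : g ∈ T.Fix) : g ∈ normalizer (T.J : Set G) := hg.1

theorem comm_of_P {u v : G} (hu : u ∈ T.P) (hv : v ∈ T.P) : Commute u v := T.h.P_commutative T.B T.hx hu hv

include h

/-- The normaliser fixes or inverts the centraliser of the plane modulo the plane. -/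
theorem fix_or_inv {g : G} (hg : g ∈ normalizer (T.J : Set G)) :
    g ∈ T.Fix ∨ ∀ p ∈ T.P, g * p * g⁻¹ * p ∈ T.J := by
  obtain ⟨y, hy, h1, h2⟩ := exists_y h
  have hy3 : y ^ 3 ∈ T.J := T.cube_mem_J hy
  obtain ⟨j, hj, m, e⟩ := P_decomp (hy := hy) h1 h2 (T.norm_P hg hy)
  have hpow : ∀ {w : G}, w ∈ T.J → ∀ n : ℕ, (w * zp y m) ^ n = w ^ n * zp y m ^ n := fun hw n =>
    (comm_of_P (T.J_le_P hw) (zp_mem hy m)).mul_pow n
  have conj : ∀ w ∈ T.J, ∀ n : ℕ, ∃ w' ∈ T.J, g * (w * y ^ n) * g⁻¹ = w' * zp y m ^ n := fun w hw n => by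
    refine ⟨g * w * g⁻¹ * j ^ n, mul_mem (T.norm_J hg hw) (pow_mem hj n), ?_⟩
    rw [show g * (w * y ^ n) * g⁻¹ = g * w * g⁻¹ * (g * y ^ n * g⁻¹) by group, ← conj_pow, e, hpow hj, ← mul_assoc]
  rcases three_eq m with rfl | rfl | rfl
  · exfalso
    rw [zp_zero, mul_one] at e
    refine y_not_J (hy := hy) h1 h2 ?_
    have := T.norm_J (inv_mem hg) (e ▸ hj : g * y * g⁻¹ ∈ T.J)
    rwa [show g⁻¹ * (g * y * g⁻¹) * g⁻¹⁻¹ = y by group] at this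
  · refine Or.inl ⟨hg, fun p hp => ?_⟩
    obtain ⟨w, hw, n, ep⟩ := P_decomp (hy := hy) h1 h2 hp
    obtain ⟨w', hw', e'⟩ := conj w hw n.val
    rw [zp_one] at e'
    rw [ep, show zp y n = y ^ n.val from rfl, e', show w' * y ^ n.val * (w * y ^ n.val)⁻¹ = w' * w⁻¹ by group]
    exact mul_mem hw' (inv_mem hw)
  · refine Or.inr fun p hp => ?_
    obtain ⟨w, hw, n, ep⟩ := P_decomp (hy := hy) h1 h2 hp
    obtain ⟨w', hw', e'⟩ := conj w hw n.val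
    rw [show zp y (2 : ZMod 3) = y ^ 2 from rfl] at e'
    rw [ep, show zp y n = y ^ n.val from rfl, e', mul_assoc, ← mul_assoc _ w,
      (comm_of_P (pow_mem (pow_mem hy 2) n.val) (T.J_le_P hw)).eq, mul_assoc w, ← pow_mul, ← pow_add,
      show 2 * n.val + n.val = 3 * n.val by ring, pow_mul]
    exact mul_mem hw' (mul_mem hw (pow_mem hy3 _))

theorem sq_mem_Fix {g : G} (hg : g ∈ normalizer (T.J : Set G)) : g * g ∈ T.Fix := by
  rcases fix_or_inv h hg with hf | hi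
  · exact mul_mem hf hf
  · refine ⟨mul_mem hg hg, fun p hp => ?_⟩
    rw [show g * g * p * (g * g)⁻¹ * p⁻¹ = g * (g * p * g⁻¹ * p) * g⁻¹ * (p * (g * p * g⁻¹ * p)⁻¹ * p⁻¹) by group,
      (T.h.comm_P T.B T.hx hp (inv_mem (hi p hp))).eq, mul_inv_cancel_right]
    exact mul_mem (T.norm_J hg (hi p hp)) (inv_mem (hi p hp))

theorem three_mem_Fix {g : G} (hg : g ∈ normalizer (T.J : Set G)) (h3 : ∃ n, g ^ 3 ^ n = 1) : g ∈ T.Fix := by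
  obtain ⟨n, hn⟩ := h3
  obtain ⟨k, hk⟩ := (Odd.pow (by decide : Odd 3) : Odd (3 ^ n))
  rw [hk, pow_succ, pow_mul, pow_two] at hn
  rw [eq_inv_of_mul_eq_one_right hn]
  exact inv_mem (pow_mem (sq_mem_Fix h hg) k)

theorem Stab_le_norm : T.B.Stab ≤ normalizer (T.J : Set G) := fun g hg => by
  obtain ⟨q, hq, p, hp, rfl⟩ := T.stab_split hg
  refine mul_mem (T.h.Q_le_norm T.B T.hx hq) (mem_normalizer_iff.2 fun w => ⟨fun hw => ?_, fun hw => ?_⟩)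
  · rwa [(T.h.comm_P T.B T.hx hp hw).eq, mul_inv_cancel_right]
  · have := T.h.comm_P T.B T.hx (inv_mem hp) hw
    rw [show w = p⁻¹ * (p * w * p⁻¹) * p by group, this.eq, inv_mul_cancel_right]
    exact hw

theorem Stab_le_Fix : T.B.Stab ≤ T.Fix := fun g hg => by
  obtain ⟨n, hn⟩ := T.B.Stab_pgroup ⟨g, hg⟩
  exact three_mem_Fix h (Stab_le_norm h hg) ⟨n, congrArg Subtype.val hn⟩

theorem cube_P {p : G} (hp : p ∈ T.P) : p ^ 3 = 1 := by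
  have hJ : p ^ 3 ∈ T.J := T.cube_mem_J hp
  obtain ⟨v, hv⟩ := T.exists_cv hJ
  have hfix : ∀ {g : G} {m : Cols}, T.Act g m → (∃ n, g ^ 3 ^ n = 1) → app m v = v := fun {g m} hact h3 => by
    have hw := (three_mem_Fix h hact.norm h3).2 p hp
    refine T.cv_inj ?_
    rw [← hact.eq, hv, ← conj_pow, show g * p * g⁻¹ = g * p * g⁻¹ * p⁻¹ * p by group,
      (T.h.comm_P T.B T.hx hp hw).symm.mul_pow, T.cube_J hw, one_mul]
  rw [← hv, plane_no_fixed v (fun i j => ?_) (fun i j => ?_), T.cv_zero]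
  · obtain ⟨q, hq, hact⟩ := T.exists_u i j
    exact hfix hact ⟨5, D.pow_243 hq⟩
  · obtain ⟨q, hq, hact⟩ := T.exists_v i j
    exact hfix hact ⟨5, T.D'.pow_243 hq⟩

theorem t_Fix : T.S.t ∈ T.Fix := by
  rcases fix_or_inv h T.t_norm with hf | hi
  · exact hf
  exfalso
  obtain ⟨y, hy, h1, h2⟩ := exists_y h
  have hty := T.norm_P T.t_norm hy
  obtain ⟨l, e1, e2⟩ := T.kappa_J (hi y hy)
  rw [show (⟨T.S.t * y * T.S.t⁻¹ * y, T.J_le_Stab (hi y hy)⟩ : T.B.Stab) =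
    ⟨_, T.P_le_Stab hty⟩ * ⟨y, T.P_le_Stab hy⟩ from rfl] at e1 e2
  rw [T.B.k1_mul, h1, add_zero] at e1
  rw [T.B.k2_mul] at e2
  have hti : T.S.t⁻¹ = T.S.t := inv_eq_of_mul_eq_one_right T.S.t_sq
  have f1 : T.B.k1 ⟨_, T.P_le_Stab hty⟩ = 0 := by
    refine T.B.k1_eq _ ?_
    rw [zp_zero, inv_one, mul_one]
    have hyz := (T.P_le_Stab hy).1
    have hb : T.B.b1 ∈ D.fixMod y hyz := ⟨T.B.hb1.1, by
      have := T.B.k1_spec ⟨y, T.P_le_Stab hy⟩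
      rwa [h1, zp_zero, inv_one, mul_one] at this⟩
    have hw := T.S.t_neg _ T.B.hb1
    have hc : T.S.t * T.B.b1 * T.S.t⁻¹ ∈ D.fixMod y hyz := by
      rw [show T.S.t * T.B.b1 * T.S.t⁻¹ = T.S.t * T.B.b1 * T.S.t⁻¹ * T.B.b1 * T.B.b1⁻¹ by group]
      exact mul_mem ⟨D.Zc_le hw, by
        rw [commutatorElement_eq_one_iff_commute.2 (D.comm_Zc hyz hw)]; exact D.Zc.one_mem⟩ (inv_mem hb)
    show ⁅T.S.t * y * T.S.t⁻¹, T.B.b1⁆ ∈ D.Zc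
    rw [show ⁅T.S.t * y * T.S.t⁻¹, T.B.b1⁆ = T.S.t * ⁅y, T.S.t⁻¹ * T.B.b1 * T.S.t⁆ * T.S.t⁻¹ by
      simp only [commutatorElement_def]; group,
      show T.S.t⁻¹ * T.B.b1 * T.S.t = T.S.t * T.B.b1 * T.S.t⁻¹ by rw [hti],
      (D.comm_Zc T.S.t_z hc.2).eq, mul_inv_cancel_right]
    exact hc.2
  have f2 : T.B.k2 ⟨_, T.P_le_Stab hty⟩ = T.B.k2 ⟨y, T.P_le_Stab hy⟩ := by
    refine T.B.swap.k1_eq _ ?_
    show ⁅T.S.t * y * T.S.t⁻¹, T.B.b2⁆ * (zp T.B.a2 (T.B.k2 ⟨y, T.P_le_Stab hy⟩))⁻¹ ∈ D.Zc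
    have hw : ⁅y, T.B.b2⁆ * (zp T.B.a2 (T.B.k2 ⟨y, T.P_le_Stab hy⟩))⁻¹ ∈ D.Zc :=
      T.B.swap.k1_spec ⟨y, T.B.swap_Stab (T.P_le_Stab hy)⟩
    generalize T.B.k2 ⟨y, T.P_le_Stab hy⟩ = k at hw ⊢
    have hb : Commute T.S.t T.B.b2 := (D.mem_fixC.1 T.B.hb2).2.symm
    have ha : Commute T.S.t (zp T.B.a2 k) := (zp_comm (D.mem_fixC.1 T.B.ha2).2 _).symm
    have key : ⁅T.S.t * y * T.S.t⁻¹, T.B.b2⁆ * (zp T.B.a2 k)⁻¹ =
        T.S.t * (⁅y, T.B.b2⁆ * (zp T.B.a2 k)⁻¹) * T.S.t⁻¹ := by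
      rw [show T.S.t * (⁅y, T.B.b2⁆ * (zp T.B.a2 k)⁻¹) * T.S.t⁻¹ =
          ⁅T.S.t * y * T.S.t⁻¹, T.S.t * T.B.b2 * T.S.t⁻¹⁆ * (T.S.t * zp T.B.a2 k * T.S.t⁻¹)⁻¹ by
        simp only [commutatorElement_def]; group, hb.eq, ha.eq, mul_inv_cancel_right, mul_inv_cancel_right]
    rw [key, (D.comm_Zc T.S.t_z hw).eq, mul_inv_cancel_right]
    exact hw
  rw [f1] at e1
  rw [f2] at e2
  rw [(mul_eq_zero.1 e1.symm).resolve_right (T.h.diag T.B T.hx).1, zero_mul] at e2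
  exact h2 ((show ∀ c : ZMod 3, c + c = 0 → c = 0 by decide) _ e2)

theorem swap_not_three : ¬ T.swap.IsThree := fun h3 =>
  h fun g hg => Setting.IsThree.symm h3 (g := ⟨g.1, T.swap_Stab_eq.ge g.2⟩) hg

theorem s_Fix : T.S.s ∈ T.Fix := by
  have hs := t_Fix (T := T.swap) (swap_not_three h)
  rw [Setting.Fix] at hs ⊢
  change T.S.s ∈ normalizer (T.swap.J : Set G) ∧ ∀ p ∈ centralizer (T.swap.J : Set G), _ ∈ T.swap.J at hs
  rw [T.swap_J] at hs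
  exact hs

/-- An element of the centraliser of the centre that fixes the two halves lies in the involutions times the
stabiliser. -/
theorem nonswap_decomp {c : G} (hc : c ∈ normalizer (T.J : Set G)) (hz : Commute c D.z)
    (h1 : c * T.B.a1 * c⁻¹ ∈ T.S.Q1) :
    ∃ a b : Bool, (bif a then T.S.t else 1) * (bif b then T.S.s else 1) * c ∈ T.B.Stab := by
  have hHN := T.S.mem_HN_of hz T.B.ha1 T.B.a1_not_Zc h1
  have line : ∀ {T' : Setting D}, c ∈ normalizer (T'.J : Set G) → c * T'.B.a1 * c⁻¹ ∈ T'.S.Q1 →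
      ∃ w ∈ D.Zc, c * T'.B.a1 * c⁻¹ = w * T'.B.a1 ∨ c * T'.B.a1 * c⁻¹ = w * T'.B.a1⁻¹ := by
    intro T' hn hq
    obtain ⟨v, hv⟩ := T'.exists_cv (T'.norm_J hn (T'.cv_a1 ▸ T'.cv_mem _))
    have hl : v.2.2.2 = 0 := by
      by_contra hne
      refine T'.h.zp_not_mem hne ?_
      have hvQ : T'.cv v ∈ D.Q := by rw [hv]; exact hq.1
      have := D.Q.mul_mem (D.Q.inv_mem (T'.B.el_mem (T'.ε * v.1) v.2.1 v.2.2.1)) hvQ
      rwa [Setting.cv, inv_mul_cancel_left] at this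
    rw [Setting.cv, hl, zp_zero, mul_one] at hv
    obtain ⟨k, hk⟩ : ∃ k, T'.ε * v.1 = k := ⟨_, rfl⟩
    rw [hk] at hv
    have hzw : zp D.z k * zp T'.B.a1 v.2.1 ∈ T'.S.Q1 :=
      mul_mem (D.Zc_le_fixC T'.S.s_z (zp_mem (mem_zpowers _) _)) (zp_mem T'.B.ha1 _)
    have hj : v.2.2.1 = 0 := by
      have hm : zp T'.B.a2 v.2.2.1 ∈ D.Zc := T'.S.inf_eq.le ⟨by
        have := mul_mem (inv_mem hzw) (hv.symm ▸ hq : T'.B.el k v.2.1 v.2.2.1 ∈ T'.S.Q1)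
        rwa [Basis.el, inv_mul_cancel_left] at this, zp_mem T'.B.ha2 _⟩
      exact T'.B.swap.shift_unique hm
    rw [hj, Basis.el, zp_zero, mul_one] at hv
    refine ⟨_, zp_mem (mem_zpowers D.z) k, ?_⟩
    rcases three_eq v.2.1 with e | e | e <;> rw [e] at hv
    · exfalso
      rw [zp_zero, mul_one] at hv
      refine T'.B.a1_not_Zc ?_
      have hk' : zp D.z k ∈ D.Zc := zp_mem (mem_zpowers _) k
      rw [show T'.B.a1 = c⁻¹ * (c * T'.B.a1 * c⁻¹) * c by group, ← hv,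
        (D.comm_Zc hz.inv_left hk').eq, inv_mul_cancel_right]
      exact hk'
    · exact Or.inl (by rw [← hv, zp_one])
    · exact Or.inr (by rw [← hv, show (2 : ZMod 3) = -1 from rfl, ← zp_inv T'.B.a1_cube, zp_one])
  obtain ⟨w1, hw1, e1⟩ := line (T' := T) hc h1
  obtain ⟨w2, hw2, e2⟩ := line (T' := T.swap) (by rw [T.swap_J]; exact hc) (T.S.HN_Q2 hHN _ T.B.ha2)
  change c * T.B.a2 * c⁻¹ = w2 * T.B.a2 ∨ c * T.B.a2 * c⁻¹ = w2 * T.B.a2⁻¹ at e2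
  have comm_of : ∀ {u a w e : G}, Commute u D.z → w ∈ D.Zc → c * a * c⁻¹ = w * e → u * e * u⁻¹ = a →
      ⁅u * c, a⁆ ∈ D.Zc := fun {u a w e} hu hw hca hue => by
    rw [commutatorElement_def, show u * c * a * (u * c)⁻¹ = u * (c * a * c⁻¹) * u⁻¹ by group, hca,
      show u * (w * e) * u⁻¹ = (u * w * u⁻¹) * (u * e * u⁻¹) by group, hue, (D.comm_Zc hu hw).eq,
      mul_inv_cancel_right, mul_inv_cancel_right]
    exact hw
  have hts : ∀ a b : Bool, Commute ((bif a then T.S.t else 1) * (bif b then T.S.s else 1)) D.z := fun a b => by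
    cases a <;> cases b <;>
      first | exact T.S.t_z.mul_left T.S.s_z | simp [T.S.t_z, T.S.s_z]
  have st1 : ∀ (a b : Bool) (e : G), (bif a then T.B.a1⁻¹ else T.B.a1) = e →
      ((bif a then T.S.t else 1) * (bif b then T.S.s else 1)) * e *
        ((bif a then T.S.t else 1) * (bif b then T.S.s else 1))⁻¹ = T.B.a1 := by
    intro a b e he
    have hs1 : ∀ q ∈ T.S.Q1, (bif b then T.S.s else 1) * q * (bif b then T.S.s else 1)⁻¹ = q := fun q hq => by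
      cases b
      · simp
      · exact by
          show T.S.s * q * T.S.s⁻¹ = q
          rw [((D.mem_fixC.1 hq).2).symm.eq, mul_inv_cancel_right]
    have heQ : e ∈ T.S.Q1 := by rw [← he]; cases a <;> [exact T.B.ha1; exact inv_mem T.B.ha1]
    rw [show ∀ u v : G, u * v * e * (u * v)⁻¹ = u * (v * e * v⁻¹) * u⁻¹ from fun u v => by group, hs1 e heQ, ← he]
    cases a
    · simp
    · show T.S.t * T.B.a1⁻¹ * T.S.t⁻¹ = T.B.a1
      rw [← conj_inv, T.ta, inv_inv]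
  have st2 : ∀ (a b : Bool) (e : G), (bif b then T.B.a2⁻¹ else T.B.a2) = e →
      ((bif a then T.S.t else 1) * (bif b then T.S.s else 1)) * e *
        ((bif a then T.S.t else 1) * (bif b then T.S.s else 1))⁻¹ = T.B.a2 := by
    intro a b e he
    have hs1 : ∀ q ∈ T.S.Q2, (bif a then T.S.t else 1) * q * (bif a then T.S.t else 1)⁻¹ = q := fun q hq => by
      cases a
      · simp
      · exact by
          show T.S.t * q * T.S.t⁻¹ = q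
          rw [((D.mem_fixC.1 hq).2).symm.eq, mul_inv_cancel_right]
    have hb : (bif b then T.S.s else 1) * e * (bif b then T.S.s else 1)⁻¹ = T.B.a2 := by
      rw [← he]
      cases b
      · simp
      · show T.S.s * T.B.a2⁻¹ * T.S.s⁻¹ = T.B.a2
        rw [← conj_inv, T.sa, inv_inv]
    rw [show ∀ u v : G, u * v * e * (u * v)⁻¹ = u * (v * e * v⁻¹) * u⁻¹ from fun u v => by group, hb,
      hs1 _ T.B.ha2]
  obtain ⟨a, ea⟩ : ∃ a : Bool, c * T.B.a1 * c⁻¹ = w1 * bif a then T.B.a1⁻¹ else T.B.a1 := by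
    rcases e1 with e | e
    exacts [⟨false, e⟩, ⟨true, e⟩]
  obtain ⟨b, eb⟩ : ∃ b : Bool, c * T.B.a2 * c⁻¹ = w2 * bif b then T.B.a2⁻¹ else T.B.a2 := by
    rcases e2 with e | e
    exacts [⟨false, e⟩, ⟨true, e⟩]
  exact ⟨a, b, (hts a b).mul_left hz, comm_of (hts a b) hw1 ea (st1 a b _ rfl),
    comm_of (hts a b) hw2 eb (st2 a b _ rfl)⟩

/-- Fixing the halves forces fixing the centraliser of the plane. -/
theorem nonswap_Fix {c : G} (hc : c ∈ normalizer (T.J : Set G)) (hz : Commute c D.z)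
    (h1 : c * T.B.a1 * c⁻¹ ∈ T.S.Q1) : c ∈ T.Fix := by
  obtain ⟨a, b, hm⟩ := nonswap_decomp h hc hz h1
  have hu : ∀ a b : Bool, (bif a then T.S.t else 1) * (bif b then T.S.s else 1) ∈ T.Fix := fun a b =>
    mul_mem (by cases a <;> [exact one_mem _; exact t_Fix h]) (by cases b <;> [exact one_mem _; exact s_Fix h])
  have := mul_mem (inv_mem (hu a b)) (Stab_le_Fix h hm)
  rwa [inv_mul_cancel_left] at this

omit h in
/-- Exchanging the halves twice fixes them. -/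
theorem swap_swap {c d : G} (hcz : Commute c D.z)
    (hdz : Commute d D.z) (hc1 : c * T.B.a1 * c⁻¹ ∉ T.S.Q1) (hd1 : d * T.B.a1 * d⁻¹ ∉ T.S.Q1) :
    c * d * T.B.a1 * (c * d)⁻¹ ∈ T.S.Q1 := by
  have hswap : ∀ {u : G}, Commute u D.z → u * T.B.a1 * u⁻¹ ∉ T.S.Q1 → ∀ q ∈ T.S.Q1, u * q * u⁻¹ ∈ T.S.Q2 :=
    fun hu h1 => (T.S.conj_half hu).resolve_left fun hh => h1 (hh _ T.B.ha1)
  have hcc := hswap hcz hc1
  have h2 : ∀ q ∈ T.S.Q2, c * q * c⁻¹ ∈ T.S.Q1 := (T.S.swap.conj_half hcz).resolve_left fun hh => by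
    have hh' : ∀ q ∈ T.S.Q2, c * q * c⁻¹ ∈ T.S.Q2 := hh
    have he : T.S.Q2.map (MulAut.conj c).toMonoidHom = T.S.Q2 := Subgroup.eq_of_le_of_card_ge
      (by rintro _ ⟨x, hx, rfl⟩; exact hh' x hx)
      (le_of_eq (Subgroup.card_map_of_injective (MulAut.conj c).injective).symm)
    obtain ⟨u, hu, e⟩ := he.ge (hcc _ T.B.ha1)
    have e' : u = T.B.a1 := mul_left_cancel (mul_right_cancel e)
    exact T.B.a1_not_Zc (T.S.inf_eq.le ⟨T.B.ha1, e' ▸ hu⟩)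
  rw [show c * d * T.B.a1 * (c * d)⁻¹ = c * (d * T.B.a1 * d⁻¹) * c⁻¹ by group]
  exact h2 _ (hswap hdz hd1 _ T.B.ha1)

end Setting

end Cfsg.Lib.U6Three
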