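import Cfsg.Agent.Lib.U6ThreeNine.PairData
import Cfsg.Agent.Lib.U6Three.Core

/-!
# The four quaternion groups commute: the case of a Sylow subgroup of order `3⁷`
-/

set_option autoImplicit false
set_option linter.unusedSectionVars false
set_option linter.style.haveILetI false
set_option synthInstance.maxSize 4000

namespace Cfsg.Lib.U6Three

open Subgroup

namespace Setting

variable {G : Type*} [Group G] [Finite G] {D : Data G} {T : Setting D}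

namespace Scalar

variable (E : T.Scalar)

include E in
theorem commute_L_k (h : ¬ T.IsThree) {k : G} (hkt : Commute k T.S.t) (hky : Commute k E.y) (hk : T.Act k kM)
    {l l' : G} (hl : l ∈ T.S.L) (hl' : l' ∈ T.S.L) : Commute l (k * l' * k⁻¹) := by
  obtain ⟨X, hXa, hXJ, -⟩ := E.exists_data h
  have hka : k * T.cv (1, 0, 2, 0) * k⁻¹ = T.B.a2 := by rw [hk.eq, aM_fix.2.2.2, T.cv_a2]
  have hkx : k * T.cv (1, 0, 0, 0) * k⁻¹ = T.x := by rw [hk.eq, aM_fix.2.2.1, T.cv_x]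
  have hkd : k * E.d (ptv 0 0) * k⁻¹ = E.d p5 := E.conj_d hky (by rw [hk.eq, ← p5_eq.2.1]; rfl)
  have hq : T.cv (1, 0, 2, 0) ∈ T.S.Q2 :=
    D.mem_fixC.2 ⟨T.cv_zero_Q 0 2 1, T.cv_t rfl⟩
  set w := k * l' * k⁻¹ with hw
  have hwa : Commute w T.B.a2 := by
    rw [← hka]
    have := ((T.S.mem_L.1 hl').2 _ hq).symm.map (MulAut.conj k).toMonoidHom
    simpa [hw, mul_assoc] using this
  have hwd : Commute w (E.d p5) := by
    rw [← hkd]
    have := (E.d_ptv_L 0 hl').symm.map (MulAut.conj k).toMonoidHom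
    simpa [hw, mul_assoc] using this
  have hwx : Commute w T.x := by
    rw [← hkx, T.cv_z]
    have := (zp_comm (T.S.L_z hl').symm T.ε).symm.map (MulAut.conj k).toMonoidHom
    simpa [hw, mul_assoc] using this
  have hwt : Commute w T.S.t := (hkt.mul_left (T.S.L_t hl')).mul_left hkt.inv_left
  have hw4 : w ^ 4 = 1 := by rw [hw, conj_pow, T.S.L_four hl']; group
  set u : E.Cp := ⟨l, E.L_le_Cp hl⟩
  set v : E.Cp := ⟨w, E.mem_Cp.2 ⟨hwa, hwd⟩⟩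
  have hmk : ∀ {a b : E.Cp}, Commute (a : G) b → Commute (a : E.Xp) (b : E.Xp) := fun {a b} h => by
    show _ = _
    rw [← QuotientGroup.mk_mul, ← QuotientGroup.mk_mul]
    exact congrArg _ (Subtype.ext h)
  have hc : Commute (u : E.Xp) (v : E.Xp) := by
    refine Cfsg.Lib.U62Comm.commute_components X (E.zpq_no_three h) (Or.inl fun g => hXa.symm ▸ E.zpq_not_inverted h g)
      (t := ((⟨T.S.t, E.t_mem_Cp⟩ : E.Cp) : E.Xp)) (x := ((⟨T.x, E.x_mem_Cp⟩ : E.Cp) : E.Xp)) ?_ ?_ ?_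
      (hXJ _ (T.J_le_P (T.h.x_mem_J T.B T.hx))) ?_ ?_ (hmk T.tx) ?_ (hmk (T.S.L_t hl)) ?_ (hmk hwx) (hmk hwt) ?_
    · rw [← QuotientGroup.mk_mul, show (⟨T.S.t, E.t_mem_Cp⟩ : E.Cp) * ⟨T.S.t, E.t_mem_Cp⟩ = 1 from Subtype.ext T.S.t_sq]
      rfl
    · intro e
      have h2 := mem_subgroupOf.1 ((QuotientGroup.eq_one_iff _).1 e)
      have ht1 := eq_one_of_sq_cube T.S.t_sq (cube_P h (E.Ap_le_P h2))
      have hc := T.ta
      rw [show T.S.t = 1 from ht1, one_mul, inv_one, mul_one] at hc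
      exact T.B.a1_not_Zc (D.mem_of_sq_mem T.B.ha1.1 (by
        nth_rewrite 2 [hc]; rw [mul_inv_cancel]; exact D.Zc.one_mem))
    · rw [hXa]; exact (E.commute_zpq h).2 T.S.t_z
    · rw [hXa]; exact E.exists_zpq_conj
    · rw [hXa]; exact E.x_not_zpq h
    · rw [hXa]; exact (E.commute_zpq h).2 (T.S.L_z hl)
    · rw [← QuotientGroup.mk_pow, show u ^ 4 = 1 from Subtype.ext (T.S.L_four hl)]; rfl
    · rw [← QuotientGroup.mk_pow, show v ^ 4 = 1 from Subtype.ext hw4]; rfl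
  have h1 := E.mkp_eq_iff.1 (hc : ((u * v : E.Cp) : E.Xp) = ((v * u : E.Cp) : E.Xp))
  obtain ⟨b, hb⟩ : ∃ b, (l * w)⁻¹ * (w * l) = b := ⟨_, rfl⟩
  change (l * w)⁻¹ * (w * l) ∈ E.Ap at h1
  rw [hb] at h1
  have hwb : Commute w b := E.comm_Ap v.2 h1
  have e : l⁻¹ * w * l = w * b := by rw [← hb]; group
  have hb4 : b ^ 4 = 1 := by
    have := congrArg (fun y => y ^ 4) e
    simp only [hwb.mul_pow, hw4, one_mul] at this
    rw [← this]
    have h2 := conj_pow (a := l⁻¹) (b := w) (i := 4)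
    rw [inv_inv] at h2
    rw [h2, hw4, mul_one, inv_mul_cancel]
  rw [eq_one_of_coprime (by decide : Nat.Coprime 4 3) hb4 (cube_P h (E.Ap_le_P h1)), mul_one] at e
  show l * w = w * l
  conv_lhs => rw [← e]
  group

include E in
theorem Lc_commute (h : ¬ T.IsThree) {g g' : G} (hg : g ∈ T.H4) (hg' : g' ∈ T.H4)
    (hne : g * T.cv (1, 0, 0, 0) * g⁻¹ ≠ g' * T.cv (1, 0, 0, 0) * g'⁻¹) :
    ∀ a ∈ T.Lc g, ∀ b ∈ T.Lc g', Commute a b := by
  obtain ⟨k, hkH, hky, hk⟩ := E.gens kM (by simp [gensT])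
  have hkt := (T.mem_H4.1 hkH).1
  have hh : g⁻¹ * g' ∈ T.H4 := T.H4.mul_mem (T.H4.inv_mem hg) hg'
  obtain ⟨w, hw, e⟩ := T.pt_of_H4 hh
  have hw0 : w ≠ (1, 0, 0, 0) := fun hh' => hne (by
    rw [show g * T.cv (1, 0, 0, 0) * g⁻¹ = g * (g⁻¹ * g' * T.cv (1, 0, 0, 0) * (g⁻¹ * g')⁻¹) * g⁻¹ by rw [e, hh']]
    group)
  obtain ⟨j, rfl⟩ := ptsA_facts.2.1 w hw hw0
  obtain ⟨q, hq, hqa⟩ := exists_u_Q2' h j
  have hqH := T.Q2_le_H4 hq
  have e2 : q * k * T.cv (1, 0, 0, 0) * (q * k)⁻¹ = T.cv (ptv 0 j) := by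
    rw [(T.act_cmp hqa hk).eq, ← ptsA_facts.2.2.2 j]
    congr 1
    simp [app, cmp]
  have he := T.L_conj_eq hh (T.H4.mul_mem hqH hkH) (e.trans e2.symm)
  rintro _ ⟨l, hl, rfl⟩ _ ⟨l', hl', rfl⟩
  obtain ⟨m, hm, em⟩ : (MulAut.conj (g⁻¹ * g')).toMonoidHom l' ∈ T.Lc (q * k) := he.le ⟨l', hl', rfl⟩
  change q * k * m * (q * k)⁻¹ = g⁻¹ * g' * l' * (g⁻¹ * g')⁻¹ at em
  obtain ⟨hqQ, hqt⟩ := D.mem_fixC.1 hq
  have hl2 : q⁻¹ * l * q ∈ T.S.L := by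
    have := T.S.conj_L (D.comm_z q hqQ).inv_left hqt.inv_left hl
    rwa [inv_inv] at this
  have hc := ((E.commute_L_k h hkt hky hk hl2 hm).map (MulAut.conj q).toMonoidHom).map (MulAut.conj g).toMonoidHom
  have e1 : g * (q * (q⁻¹ * l * q) * q⁻¹) * g⁻¹ = g * l * g⁻¹ := by group
  have e3 : g * (q * (k * m * k⁻¹) * q⁻¹) * g⁻¹ = g' * l' * g'⁻¹ := by
    rw [show q * (k * m * k⁻¹) * q⁻¹ = q * k * m * (q * k)⁻¹ by group, em]; group
  simp only [MulEquiv.toMonoidHom_eq_coe, MonoidHom.coe_coe, MulAut.conj_apply] at hc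
  show Commute (g * l * g⁻¹) (g' * l' * g'⁻¹)
  rwa [e1, e3] at hc

include E in
/-- The group is extraspecial of order `2⁹`. -/
theorem Rt_block (h : ¬ T.IsThree) : IsBlock T.S.t T.Rt ∧ Nat.card T.Rt = 2 ^ 9 := by
  have ht1 : T.S.t ≠ 1 := fun e => by
    have hc := T.ta
    rw [e, one_mul, inv_one, mul_one] at hc
    exact T.B.a1_not_Zc (D.mem_of_sq_mem T.B.ha1.1 (by nth_rewrite 2 [hc]; rw [mul_inv_cancel]; exact D.Zc.one_mem))
  obtain ⟨f, hf, hfe⟩ : ∃ f : {w // w ∈ ptsA} → G, (∀ w, f w ∈ T.H4) ∧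
      ∀ w, f w * T.cv (1, 0, 0, 0) * (f w)⁻¹ = T.cv w.1 := by
    choose f h1 h2 h3 using fun w : {w // w ∈ ptsA} => E.exists_pt w.2
    exact ⟨f, h1, h3⟩
  obtain ⟨w0, hw0⟩ : ∃ w : {w // w ∈ ptsA}, w.1 = (1, 0, 0, 0) := ⟨⟨_, by simp [ptsA]⟩, rfl⟩
  obtain ⟨w1, hw1⟩ : ∃ w : {w // w ∈ ptsA}, w.1 = (0, 0, 0, 1) := ⟨⟨_, by simp [ptsA]⟩, rfl⟩
  obtain ⟨w2, hw2⟩ : ∃ w : {w // w ∈ ptsA}, w.1 = (1, 0, 1, 1) := ⟨⟨_, by simp [ptsA]⟩, rfl⟩
  obtain ⟨w3, hw3⟩ : ∃ w : {w // w ∈ ptsA}, w.1 = (1, 0, 2, 1) := ⟨⟨_, by simp [ptsA]⟩, rfl⟩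
  have hall : ∀ w : {w // w ∈ ptsA}, w = w0 ∨ w = w1 ∨ w = w2 ∨ w = w3 := fun w => by
    have := w.2
    simp only [ptsA, List.mem_cons, List.not_mem_nil, or_false] at this
    rcases this with h | h | h | h
    exacts [Or.inl (Subtype.ext (h.trans hw0.symm)), Or.inr (Or.inl (Subtype.ext (h.trans hw1.symm))),
      Or.inr (Or.inr (Or.inl (Subtype.ext (h.trans hw2.symm)))), Or.inr (Or.inr (Or.inr (Subtype.ext (h.trans hw3.symm))))]
  have hcomm : ∀ v w : {w // w ∈ ptsA}, v.1 ≠ w.1 → ∀ a ∈ T.Lc (f v), ∀ b ∈ T.Lc (f w), Commute a b :=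
    fun v w hh => E.Lc_commute h (hf v) (hf w) (by rw [hfe, hfe]; exact fun e => hh (T.cv_inj e))
  have hblk : ∀ w, IsBlock T.S.t (T.Lc (f w)) := fun w => T.block_L.map (T.mem_H4.1 (hf w)).1
  have hcard : ∀ w, Nat.card (T.Lc (f w)) = 8 := fun w => by
    rw [card_map_of_injective (MulAut.conj (f w)).injective, T.S.card_L]
  have hR : T.Rt = T.Lc (f w0) ⊔ T.Lc (f w1) ⊔ T.Lc (f w2) ⊔ T.Lc (f w3) := by
    refine le_antisymm (iSup_le fun g => ?_) (sup_le (sup_le (sup_le (T.Lc_le (hf _)) (T.Lc_le (hf _)))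
      (T.Lc_le (hf _))) (T.Lc_le (hf _)))
    obtain ⟨w, hw, e⟩ := T.pt_of_H4 g.2
    rw [T.L_conj_eq g.2 (hf ⟨w, hw⟩) (by rw [hfe]; exact e)]
    rcases hall ⟨w, hw⟩ with h | h | h | h <;> rw [h]
    · exact le_sup_of_le_left (le_sup_of_le_left le_sup_left)
    · exact le_sup_of_le_left (le_sup_of_le_left le_sup_right)
    · exact le_sup_of_le_left le_sup_right
    · exact le_sup_right
  have hne : ∀ v w : {w // w ∈ ptsA}, ∀ a b : V4, v.1 = a → w.1 = b → a ≠ b → v.1 ≠ w.1 :=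
    fun v w a b h h' h'' e => h'' (h.symm.trans (e.trans h'))
  obtain ⟨b01, c01⟩ := (hblk w0).sup T.S.t_sq ht1 (hblk w1) (hcomm w0 w1 (hne _ _ _ _ hw0 hw1 (by decide)))
  have h012 : ∀ a ∈ T.Lc (f w0) ⊔ T.Lc (f w1), ∀ b ∈ T.Lc (f w2), Commute a b := fun a ha b hb => by
    have : T.Lc (f w0) ⊔ T.Lc (f w1) ≤ centralizer ({b} : Set G) := sup_le
      (fun c hc => mem_centralizer_singleton_iff.2 (hcomm w0 w2 (hne _ _ _ _ hw0 hw2 (by decide)) c hc b hb))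
      (fun c hc => mem_centralizer_singleton_iff.2 (hcomm w1 w2 (hne _ _ _ _ hw1 hw2 (by decide)) c hc b hb))
    exact mem_centralizer_singleton_iff.1 (this ha)
  obtain ⟨b012, c012⟩ := b01.sup T.S.t_sq ht1 (hblk w2) h012
  have h0123 : ∀ a ∈ T.Lc (f w0) ⊔ T.Lc (f w1) ⊔ T.Lc (f w2), ∀ b ∈ T.Lc (f w3), Commute a b := fun a ha b hb => by
    have : T.Lc (f w0) ⊔ T.Lc (f w1) ⊔ T.Lc (f w2) ≤ centralizer ({b} : Set G) := sup_le (sup_le
      (fun c hc => mem_centralizer_singleton_iff.2 (hcomm w0 w3 (hne _ _ _ _ hw0 hw3 (by decide)) c hc b hb))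
      (fun c hc => mem_centralizer_singleton_iff.2 (hcomm w1 w3 (hne _ _ _ _ hw1 hw3 (by decide)) c hc b hb)))
      (fun c hc => mem_centralizer_singleton_iff.2 (hcomm w2 w3 (hne _ _ _ _ hw2 hw3 (by decide)) c hc b hb))
    exact mem_centralizer_singleton_iff.1 (this ha)
  obtain ⟨b0123, c0123⟩ := b012.sup T.S.t_sq ht1 (hblk w3) h0123
  rw [hR]
  refine ⟨b0123, ?_⟩
  rw [hcard, hcard] at c01
  rw [hcard] at c012 c0123
  omega

end Scalar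

end Setting

end Cfsg.Lib.U6Three
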