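import Cfsg.Agent.Lib.U6ThreeEnd.Twist
import Mathlib.Algebra.QuadraticAlgebra.Basic

/-!
# The codes of words in the unitary generators: exactly 25920 of them
-/

set_option autoImplicit false
set_option Elab.async false
set_option maxRecDepth 20000

namespace Cfsg.Lib.U6ThreeNine

open Cfsg.Lib.U62Type Cfsg.Lib.U62Core Cfsg.Lib.U6ThreeEnd
open scoped Matrix

/-- The field with four elements. -/
abbrev F4 : Type := QuadraticAlgebra (ZMod 2) 1 1

/-- A coordinate over the field with four elements. -/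
def toF (v : ℕ) (i : Fin 4) : F4 := ⟨(bit v (2 * (i : ℕ)) : ZMod 2), (bit v (2 * (i : ℕ) + 1) : ZMod 2)⟩

/-- The matrix of a code. -/
def matF (c : ℕ) : Matrix (Fin 4) (Fin 4) F4 := fun i j => toF (ap c (4 ^ (j : ℕ))) i

theorem unit_vec : ∀ j i : Fin 4, toF (4 ^ (j : ℕ)) i = if i = j then 1 else 0 := by decide +kernel

theorem gen_det : ∀ g < 4, (matF (gensU.getD g 0)).det = 1 := by decide +kernel

theorem gen_lin : ∀ g < 4, ∀ v < 256, ∀ i : Fin 4,
    toF (ap (gensU.getD g 0) v) i = ∑ j, matF (gensU.getD g 0) i j * toF v j := by decide +kernel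

theorem refl_det : (matF reflC).det ≠ 1 ∧ (matF (cm reflC reflC)).det ≠ 1 := by decide +kernel

theorem gen_q : ∀ g < 4, ∀ v < 256, qU (ap (gensU.getD g 0) v) = qU v := by decide +kernel

theorem word_lin : ∀ w : List ℕ, (∀ i ∈ w, i < 4) → ∃ M : Matrix (Fin 4) (Fin 4) F4, M.det = 1 ∧
    ∀ v < 256, toF (ap (cw gensU w) v) = M *ᵥ toF v := by
  intro w
  induction w with
  | nil => exact fun _ => ⟨1, Matrix.det_one, fun v hv => by rw [cw_nil, ap_idc hv, Matrix.one_mulVec]⟩
  | cons g w ih =>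
    intro hw
    obtain ⟨M, hM, hMv⟩ := ih fun i hi => hw i (List.mem_cons_of_mem _ hi)
    refine ⟨matF (gensU.getD g 0) * M, by rw [Matrix.det_mul, gen_det g (hw g List.mem_cons_self), hM, one_mul],
      fun v hv => ?_⟩
    rw [cw_cons, ap_cm, ← Matrix.mulVec_mulVec, ← hMv v hv]
    funext i
    exact gen_lin g (hw g List.mem_cons_self) _ (ap_lt _ _) i

theorem word_mat {c : ℕ} (hc : WordCode gensU c) : (matF c).det = 1 := by
  obtain ⟨w, hw, rfl⟩ := hc
  obtain ⟨M, hM, hMv⟩ := word_lin w hw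
  have e : matF (cw gensU w) = M := by
    ext i j : 1
    have hj : 4 ^ (j : ℕ) < 256 := by
      calc 4 ^ (j : ℕ) ≤ 4 ^ 3 := Nat.pow_le_pow_right (by norm_num) (Nat.lt_succ_iff.1 j.isLt)
        _ < 256 := by norm_num
    show toF (ap (cw gensU w) (4 ^ (j : ℕ))) i = _
    rw [congrFun (hMv _ hj) i, Matrix.mulVec, dotProduct]
    simp [unit_vec]
  rw [e, hM]

/-- The turn is not a word. -/
theorem refl_not_word : ¬ WordCode gensU reflC ∧ ¬ WordCode gensU (cm reflC reflC) :=
  ⟨fun h => refl_det.1 (word_mat h), fun h => refl_det.2 (word_mat h)⟩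

theorem word_q : ∀ w : List ℕ, (∀ i ∈ w, i < 4) → ∀ v < 256, qU (ap (cw gensU w) v) = qU v := by
  intro w
  induction w with
  | nil => intro _ v hv; rw [cw_nil, ap_idc hv]
  | cons g w ih =>
    intro hw v hv
    rw [cw_cons, ap_cm, gen_q g (hw g List.mem_cons_self) _ (ap_lt _ _),
      ih (fun i hi => hw i (List.mem_cons_of_mem _ hi)) v hv]

theorem code_q {c : ℕ} (hc : WordCode gensU c) {v : ℕ} (hv : v < 256) : qU (ap c v) = qU v := by
  obtain ⟨w, hw, rfl⟩ := hc
  exact word_q w hw v hv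

theorem code_form {c : ℕ} (hc : WordCode gensU c) {u v : ℕ} (hu : u < 256) (hv : v < 256) :
    cform cfgU (ap c u) (ap c v) = cform cfgU u v := by
  show qU (ap c u ^^^ ap c v) ^^^ qU (ap c u) ^^^ qU (ap c v) = qU (u ^^^ v) ^^^ qU u ^^^ qU v
  rw [← ap_xor, code_q hc (xor_lt hu hv), code_q hc hu, code_q hc hv]

theorem inv_step : ∀ g < 4, cm (cw gensU (iW [g])) (gensU.getD g 0) = idc ∧
    cm (gensU.getD g 0) (cw gensU (iW [g])) = idc ∧ (iW [g]).all (fun i => Nat.blt i 4) = true := by
  decide +kernel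

theorem inv_word : ∀ w : List ℕ, (∀ i ∈ w, i < 4) → (∀ i ∈ iW w, i < 4) ∧
    cm (cw gensU (iW w)) (cw gensU w) = idc ∧ cm (cw gensU w) (cw gensU (iW w)) = idc := by
  intro w
  induction w with
  | nil => intro _; simp [iW, cw_nil, cm_idc (show idc < 2 ^ 64 by decide +kernel)]
  | cons g w ih =>
    intro hw
    obtain ⟨h1, h2, h3⟩ := ih fun i hi => hw i (List.mem_cons_of_mem _ hi)
    obtain ⟨e1, e2, e3⟩ := inv_step g (hw g List.mem_cons_self)
    simp only [List.all_eq_true, Nat.blt_eq] at e3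
    have hsplit : iW (g :: w) = iW w ++ iW [g] := by simp [iW]
    rw [hsplit]
    refine ⟨fun i hi => (List.mem_append.1 hi).elim (h1 i) (e3 i), ?_, ?_⟩
    · rw [cw_append, cw_cons, cm_assoc, ← cm_assoc (cw gensU (iW [g])), e1, idc_cm (cw_lt _ _), h2]
    · rw [cw_append, cw_cons, cm_assoc, ← cm_assoc (cw gensU w), h3, idc_cm (cw_lt _ _), e2]

/-- The images of a frame vector under the inverses of the listed words. -/
def imgs (T : List (List ℕ)) (t : ℕ) : List ℕ := T.map fun w => (iW w).foldr (fun g x => ap (gensU.getD g 0) x) t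

/-- The listed words have inverses fixing `fs` and moving `t` onto all the unit vectors orthogonal to `os`. -/
def imgChk (T : List (List ℕ)) (fs os : List ℕ) (t n : ℕ) : Bool :=
  Nat.beq T.length n && distinct (imgs T t) && T.all (fun w => w.all (fun i => Nat.blt i 4) &&
      fs.all fun f => Nat.beq ((iW w).foldr (fun g x => ap (gensU.getD g 0) x) f) f) &&
    vecs.all fun v => !(Nat.beq (qU v) 1 && os.all fun f => Nat.beq (cform cfgU v f) 0) ||
      (imgs T t).any fun x => Nat.beq x v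

theorem imgA_ok : imgChk chainA [] [] 1 120 = true := by decide +kernel

theorem imgB_ok : imgChk chainB [1] [1, 2] 4 36 = true := by decide +kernel

theorem imgC_ok : imgChk chainC [1, 4] [1, 2, 4, 8] 16 6 = true := by decide +kernel

/-- The code of the inverse of a listed word. -/
def stepC (T : List (List ℕ)) (i : ℕ) : ℕ := cw gensU (iW (T.getD i []))

/-- What the check gives. -/
theorem imgs_spec {T : List (List ℕ)} {fs os : List ℕ} {t n : ℕ} (h : imgChk T fs os t n = true) (ht : t < 256)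
    (hfs : ∀ f ∈ fs, f < 256) :
    (∀ i < n, WordCode gensU (stepC T i) ∧ ∀ f ∈ fs, ap (stepC T i) f = f) ∧
    (∀ i < n, ∀ j < n, ap (stepC T i) t = ap (stepC T j) t → i = j) ∧
    ∀ v < 256, qU v = 1 → (∀ f ∈ os, cform cfgU v f = 0) → ∃ i < n, ap (stepC T i) t = v := by
  simp only [imgChk, Bool.and_eq_true, List.all_eq_true, Bool.or_eq_true, Bool.not_eq_true', List.any_eq_true,
    Nat.blt_eq, nbeq_iff] at h
  obtain ⟨⟨⟨hlen, hnd⟩, hwords⟩, hcov⟩ := h
  have hmem : ∀ i < n, T.getD i [] ∈ T := fun i hi => by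
    rw [List.getD_eq_getElem _ _ (hlen ▸ hi)]; exact List.getElem_mem _
  have hword : ∀ i < n, ∀ v < 256,
      ap (stepC T i) v = (iW (T.getD i [])).foldr (fun g x => ap (gensU.getD g 0) x) v :=
    fun i _ v hv => ap_word _ hv
  have hget : ∀ i (hi : i < n), ∀ hi' : i < (imgs T t).length, (imgs T t)[i] = ap (stepC T i) t := fun i hi hi' => by
    rw [hword i hi t ht, List.getD_eq_getElem _ _ (hlen ▸ hi)]
    simp [imgs]
  refine ⟨fun i hi => ⟨⟨_, (inv_word _ (hwords _ (hmem i hi)).1).1, rfl⟩, fun f hf => ?_⟩, fun i hi j hj e => ?_,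
    fun v hv hq ho => ?_⟩
  · rw [hword i hi f (hfs f hf)]
    exact (hwords _ (hmem i hi)).2 f hf
  · have hl : (imgs T t).length = n := by simp [imgs, hlen]
    rw [← hget i hi (hl ▸ hi), ← hget j hj (hl ▸ hj)] at e
    exact (distinct_nodup hnd).getElem_inj_iff.1 e
  · rcases hcov v (List.mem_range.2 hv) with e | ⟨x, hx, rfl⟩
    · simp only [Bool.and_eq_false_iff] at e
      rcases e with e | e
      · simp [hq] at e
      · simp only [List.all_eq_false] at e
        obtain ⟨f, hf, hne⟩ := e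
        exact absurd (ho f hf) (by simpa [nbeq_iff] using hne)
    · obtain ⟨i, hi, rfl⟩ := List.getElem_of_mem hx
      have hin : i < n := by simpa [imgs, hlen] using hi
      exact ⟨i, hin, (hget i hin hi).symm⟩

/-- A word fixing three orthogonal units is trivial. -/
theorem word_eq_idc {c : ℕ} (hc : WordCode gensU c) (h1 : ap c 1 = 1) (h4 : ap c 4 = 4) (h16 : ap c 16 = 16) :
    c = idc := by
  have hom : ∀ v, ap c (ap omC v) = ap omC (ap c v) := fun v => by rw [← ap_cm, ← ap_cm, omega_comm hc]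
  have h2 : ap c 2 = 2 := by rw [show 2 = ap omC 1 by decide +kernel, hom, h1]
  have h8 : ap c 8 = 8 := by rw [show 8 = ap omC 4 by decide +kernel, hom, h4]
  have h32 : ap c 32 = 32 := by rw [show 32 = ap omC 16 by decide +kernel, hom, h16]
  have h128 : ap c 128 = ap omC (ap c 64) := by rw [← hom, show ap omC 64 = 128 by decide +kernel]
  have hlt : c < 2 ^ 64 := by
    obtain ⟨w, -, rfl⟩ := hc
    exact cw_lt _ _
  have hr := rest_ok
  simp only [List.all_eq_true, Bool.or_eq_true, Bool.not_eq_true', List.any_eq_true, vecs, List.mem_range,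
    nbeq_iff] at hr
  have hbyte : c = mkc fun i => [1, 2, 4, 8, 16, 32, ap c 64, ap omC (ap c 64)].getD i 0 := by
    conv_lhs => rw [← mkc_byte hlt]
    refine mkc_congr fun i hi => ?_
    rw [← ap_pow hi]
    interval_cases i
    exacts [h1, h2, h4, h8, h16, h32, rfl, h128]
  rcases hr _ (ap_lt c 64) with e | ⟨r, hr', e⟩
  · exfalso
    simp only [Bool.and_eq_false_iff, List.all_eq_false] at e
    rcases e with e | ⟨f, hf, hne⟩
    · rw [code_q hc (show 64 < 256 by norm_num)] at e
      exact absurd e (by decide +kernel)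
    · refine absurd ?_ hne
      rw [nbeq_iff]
      have hfix : ap c f = f := by
        simp only [List.mem_cons, List.not_mem_nil, or_false] at hf
        rcases hf with rfl | rfl | rfl | rfl | rfl | rfl
        exacts [h1, h2, h4, h8, h16, h32]
      have hflt : f < 256 := by
        rw [← hfix]; exact ap_lt _ _
      rw [← hfix, code_form hc (show 64 < 256 by norm_num) hflt]
      simp only [List.mem_cons, List.not_mem_nil, or_false] at hf
      rcases hf with rfl | rfl | rfl | rfl | rfl | rfl <;> decide +kernel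
  · rw [← hbyte] at e
    simp only [List.mem_cons, List.not_mem_nil, or_false] at hr'
    rcases hr' with rfl | rfl | rfl
    · exact e
    · exact absurd (e ▸ hc) refl_not_word.1
    · exact absurd (e ▸ hc) refl_not_word.2

/-- The codes of the words are parametrised by triples. -/
theorem word_param : ∃ f : Fin 120 × Fin 36 × Fin 6 → ℕ, Function.Injective f ∧ (∀ x, WordCode gensU (f x)) ∧
    ∀ c, WordCode gensU c → ∃ x, f x = c := by
  obtain ⟨hA, iA, cA⟩ := imgs_spec imgA_ok (by norm_num) (by simp)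
  obtain ⟨hB, iB, cB⟩ := imgs_spec imgB_ok (by norm_num) (by simp)
  obtain ⟨hC, iC, cC⟩ := imgs_spec imgC_ok (by norm_num) (by simp)
  refine ⟨fun x => cm (stepC chainA x.1) (cm (stepC chainB x.2.1) (stepC chainC x.2.2)), ?_, ?_, ?_⟩
  · rintro ⟨i, j, k⟩ ⟨i', j', k'⟩ e
    simp only at e
    have hb1 : ∀ (j : Fin 36) (k : Fin 6), ap (cm (stepC chainB j) (stepC chainC k)) 1 = 1 := fun j k => by
      rw [ap_cm, (hC k k.isLt).2 1 (by simp), (hB j j.isLt).2 1 (by simp)]
    have cancel : ∀ {T : List (List ℕ)} {fs os : List ℕ} {t n : ℕ}, imgChk T fs os t n = true → ∀ i < n,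
        ∀ {a b : ℕ}, a < 2 ^ 64 → b < 2 ^ 64 → cm (stepC T i) a = cm (stepC T i) b → a = b := by
      intro T fs os t n h i hi a b ha hb e
      simp only [imgChk, Bool.and_eq_true, List.all_eq_true, Nat.blt_eq, nbeq_iff] at h
      obtain ⟨⟨⟨hlen, -⟩, hwords⟩, -⟩ := h
      have hm : T.getD i [] ∈ T := by rw [List.getD_eq_getElem _ _ (hlen ▸ hi)]; exact List.getElem_mem _
      have := congrArg (cm (cw gensU (T.getD i []))) e
      rwa [stepC, ← cm_assoc, ← cm_assoc, (inv_word _ (hwords _ hm).1).2.2, idc_cm ha, idc_cm hb] at this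
    obtain rfl : i = i' := Fin.ext (iA i i.isLt i' i'.isLt (by
      have := congrArg (fun c => ap c 1) e
      simpa only [ap_cm _ (cm _ _), hb1] using this))
    have e2 := cancel imgA_ok i i.isLt (cm_lt _ _) (cm_lt _ _) e
    obtain rfl : j = j' := Fin.ext (iB j j.isLt j' j'.isLt (by
      have := congrArg (fun c => ap c 4) e2
      simpa only [ap_cm, (hC k k.isLt).2 4 (by simp), (hC k' k'.isLt).2 4 (by simp)] using this))
    have e3 := cancel imgB_ok j j.isLt (cw_lt _ _) (cw_lt _ _) e2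
    obtain rfl : k = k' := Fin.ext (iC k k.isLt k' k'.isLt (congrArg (fun c => ap c 16) e3))
    rfl
  · exact fun x => (hA _ x.1.isLt).1.mul ((hB _ x.2.1.isLt).1.mul (hC _ x.2.2.isLt).1)
  · intro c hc
    have hom : ∀ {c : ℕ}, WordCode gensU c → ∀ v, ap c (ap omC v) = ap omC (ap c v) := fun hc v => by
      rw [← ap_cm, ← ap_cm, omega_comm hc]
    have undo : ∀ {T : List (List ℕ)} {fs os : List ℕ} {t n : ℕ}, imgChk T fs os t n = true → ∀ i < n,
        ∀ {d : ℕ}, WordCode gensU d → ∃ d', WordCode gensU d' ∧ cm (stepC T i) d' = d ∧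
          d' = cm (cw gensU (T.getD i [])) d := by
      intro T fs os t n h i hi d hd
      simp only [imgChk, Bool.and_eq_true, List.all_eq_true, Nat.blt_eq, nbeq_iff] at h
      obtain ⟨⟨⟨hlen, -⟩, hwords⟩, -⟩ := h
      have hm : T.getD i [] ∈ T := by rw [List.getD_eq_getElem _ _ (hlen ▸ hi)]; exact List.getElem_mem _
      have hdl : d < 2 ^ 64 := by obtain ⟨w, -, rfl⟩ := hd; exact cw_lt _ _
      exact ⟨_, WordCode.mul ⟨_, (hwords _ hm).1, rfl⟩ hd,
        by rw [stepC, ← cm_assoc, (inv_word _ (hwords _ hm).1).2.1, idc_cm hdl], rfl⟩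
    have back : ∀ {T : List (List ℕ)} {fs os : List ℕ} {t n : ℕ}, imgChk T fs os t n = true → ∀ i < n,
        ∀ {d d' : ℕ}, d' = cm (cw gensU (T.getD i [])) d → ∀ {v u : ℕ}, u < 256 → ap d v = ap (stepC T i) u →
          ap d' v = u := by
      intro T fs os t n h i hi d d' e v u hu e'
      simp only [imgChk, Bool.and_eq_true, List.all_eq_true, Nat.blt_eq, nbeq_iff] at h
      obtain ⟨⟨⟨hlen, -⟩, hwords⟩, -⟩ := h
      have hm : T.getD i [] ∈ T := by rw [List.getD_eq_getElem _ _ (hlen ▸ hi)]; exact List.getElem_mem _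
      rw [e, ap_cm, e', stepC, ← ap_cm, (inv_word _ (hwords _ hm).1).2.2, ap_idc hu]
    obtain ⟨i, hi, ei⟩ := cA (ap c 1) (ap_lt _ _) ((code_q hc (by norm_num)).trans (by decide +kernel)) (by simp)
    obtain ⟨c1, hc1, e1, d1⟩ := undo imgA_ok i hi hc
    have f1 : ap c1 1 = 1 := back imgA_ok i hi d1 (by norm_num) ei.symm
    have f2 : ap c1 2 = 2 := by rw [show 2 = ap omC 1 by decide +kernel, hom hc1, f1]
    obtain ⟨j, hj, ej⟩ := cB (ap c1 4) (ap_lt _ _) ((code_q hc1 (by norm_num)).trans (by decide +kernel))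
      (fun f hf => by
        have hfix : ap c1 f = f := by
          simp only [List.mem_cons, List.not_mem_nil, or_false] at hf
          rcases hf with rfl | rfl
          exacts [f1, f2]
        rw [← hfix, code_form hc1 (by norm_num) (hfix ▸ ap_lt _ _)]
        simp only [List.mem_cons, List.not_mem_nil, or_false] at hf
        rcases hf with rfl | rfl <;> decide +kernel)
    obtain ⟨c2, hc2, e2, d2⟩ := undo imgB_ok j hj hc1
    have g1 : ap c2 1 = 1 := back imgB_ok j hj d2 (by norm_num) (by rw [(hB j hj).2 1 (by simp), f1])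
    have g4 : ap c2 4 = 4 := back imgB_ok j hj d2 (by norm_num) ej.symm
    have g2 : ap c2 2 = 2 := by rw [show 2 = ap omC 1 by decide +kernel, hom hc2, g1]
    have g8 : ap c2 8 = 8 := by rw [show 8 = ap omC 4 by decide +kernel, hom hc2, g4]
    obtain ⟨k, hk, ek⟩ := cC (ap c2 16) (ap_lt _ _) ((code_q hc2 (by norm_num)).trans (by decide +kernel))
      (fun f hf => by
        have hfix : ap c2 f = f := by
          simp only [List.mem_cons, List.not_mem_nil, or_false] at hf
          rcases hf with rfl | rfl | rfl | rfl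
          exacts [g1, g2, g4, g8]
        rw [← hfix, code_form hc2 (by norm_num) (hfix ▸ ap_lt _ _)]
        simp only [List.mem_cons, List.not_mem_nil, or_false] at hf
        rcases hf with rfl | rfl | rfl | rfl <;> decide +kernel)
    obtain ⟨c3, hc3, e3, d3⟩ := undo imgC_ok k hk hc2
    have h3 : c3 = idc := word_eq_idc hc3 (back imgC_ok k hk d3 (by norm_num) (by rw [(hC k hk).2 1 (by simp), g1]))
      (back imgC_ok k hk d3 (by norm_num) (by rw [(hC k hk).2 4 (by simp), g4])) (back imgC_ok k hk d3 (by norm_num) ek.symm)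
    refine ⟨(⟨i, hi⟩, ⟨j, hj⟩, ⟨k, hk⟩), ?_⟩
    show cm (stepC chainA i) (cm (stepC chainB j) (stepC chainC k)) = c
    rw [h3, cm_idc (show stepC chainC k < 2 ^ 64 from cw_lt _ _)] at e3
    rw [e3, e2, e1]

end Cfsg.Lib.U6ThreeNine
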