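import Cfsg.Agent.Lib.U6ThreeNine.Local
import Cfsg.Agent.Lib.U6Three.Core
import Cfsg.Agent.Lib.U6ThreeNine.Count

/-!
# Coordinates on the product of the four quaternion groups in the case of order `3⁷`
-/

set_option autoImplicit false
set_option linter.unusedSectionVars false
set_option maxRecDepth 8000

namespace Cfsg.Lib.U6ThreeNine

open Cfsg.Lib.U6Three Cfsg.Lib.U62Type
open Subgroup

/-- A pair of binary digits. -/
def dig (v i : ℕ) : ℕ := (v >>> (2 * i)) &&& 3

theorem dig_lt (v i : ℕ) : dig v i < 4 := Nat.lt_succ_of_le Nat.and_le_right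

theorem dig_xor (u v i : ℕ) : dig (u ^^^ v) i = dig u i ^^^ dig v i := by
  rw [dig, dig, dig, Nat.shiftRight_xor_distrib, Nat.and_xor_distrib_right]

theorem dig_facts : ∀ v < 256, (dig v 0 = 0 → dig v 1 = 0 → dig v 2 = 0 → dig v 3 = 0 → v = 0) ∧
    qU v = (if dig v 0 = 0 then 0 else 1) ^^^ (if dig v 1 = 0 then 0 else 1) ^^^
      (if dig v 2 = 0 then 0 else 1) ^^^ (if dig v 3 = 0 then 0 else 1) := by decide +kernel

/-- Equal up to the involution. -/
def Rel {G : Type*} [Group G] (t x x' : G) : Prop := x' = x ∨ x' = x * t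

section Rel

variable {G : Type*} [Group G] {t a b c a' b' : G}

theorem Rel.refl (t x : G) : Rel t x x := Or.inl rfl

theorem Rel.symm (ht : t * t = 1) (h : Rel t a b) : Rel t b a := by
  rcases h with rfl | rfl
  · exact Or.inl rfl
  · exact Or.inr (by rw [mul_assoc, ht, mul_one])

theorem Rel.trans (ht : t * t = 1) (h : Rel t a b) (h' : Rel t b c) : Rel t a c := by
  rcases h with rfl | rfl
  · exact h'
  · rcases h' with rfl | rfl
    exacts [Or.inr rfl, Or.inl (by rw [mul_assoc, ht, mul_one])]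

theorem Rel.mul (ht : t * t = 1) (hb : Commute t b) (h : Rel t a a') (h' : Rel t b b') :
    Rel t (a * b) (a' * b') := by
  rcases h with rfl | rfl <;> rcases h' with rfl | rfl
  · exact Or.inl rfl
  · exact Or.inr (mul_assoc _ _ _).symm
  · exact Or.inr (by rw [mul_assoc, hb.eq, ← mul_assoc])
  · exact Or.inl (by rw [← mul_assoc, mul_assoc a, hb.eq, ← mul_assoc, mul_assoc, ht, mul_one])

theorem Rel.conj {x : G} (hx : Commute x t) (h : Rel t a b) : Rel t (x * a * x⁻¹) (x * b * x⁻¹) := by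
  rcases h with rfl | rfl
  · exact Or.inl rfl
  · exact Or.inr (by rw [show x * (a * t) * x⁻¹ = x * a * x⁻¹ * (x * t * x⁻¹) by group, hx.eq, mul_inv_cancel_right])

theorem Rel.sq_eq (ht : t * t = 1) (ha : Commute t a) (h : Rel t a b) : b * b = a * a := by
  rcases h with rfl | rfl
  · rfl
  · rw [show a * t * (a * t) = a * (t * a) * t by group, ha.eq, ← mul_assoc, mul_assoc (a * a), ht, mul_one]

end Rel

/-- The four points in the order of the blocks. -/
def pts (k : ℕ) : V4 := ptsA.getD k (0, 0, 0, 0)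

theorem pts_mem : ∀ k < 4, pts k ∈ ptsA := by decide +kernel

theorem pts_inj : ∀ i < 4, ∀ j < 4, pts i = pts j → i = j := by decide +kernel

theorem pts_fst : ∀ k < 4, (pts k).2.1 = 0 := by decide +kernel

theorem pts_cases {w : V4} (hw : w ∈ ptsA) : ∃ k < 4, pts k = w := by
  obtain ⟨i, hi, rfl⟩ := List.getElem_of_mem hw
  exact ⟨i, by simpa [ptsA] using hi, List.getD_eq_getElem _ _ hi⟩

variable {G : Type*} [Group G] [Finite G] {D : Data G} {T : Setting D}

/-- A basis of the first quaternion group and elements carrying the first point to the others. -/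
structure Base (E : T.Scalar) where
  a : G
  aL : a ∈ T.S.L
  ay : ¬ Commute E.y a
  f : ℕ → G
  fH : ∀ k < 4, f k ∈ T.H4
  fy : ∀ k < 4, Commute (f k) E.y
  fe : ∀ k < 4, f k * T.cv (1, 0, 0, 0) * (f k)⁻¹ = T.cv (pts k)

theorem H4_pt {g : G} (hg : g ∈ T.H4) {w : V4} (hw : w ∈ ptsA) :
    ∃ w' ∈ ptsA, g * T.cv w * g⁻¹ = T.cv w' := by
  obtain ⟨w', hw', e⟩ := (mem_set_normalizer_iff.1 (T.mem_H4.1 hg).2.2 _).1 ⟨w, hw, rfl⟩
  exact ⟨w', hw', e.symm⟩

theorem exists_base (h : ¬ T.IsThree) (E : T.Scalar) (hl : E.Local) : Nonempty (Base E) := by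
  classical
  obtain ⟨a, haL, hay⟩ : ∃ a ∈ T.S.L, ¬ Commute E.y a := by
    by_contra hno
    push Not at hno
    have hR : E.y ∈ T.Rt := hl.self _ E.ct fun r hr => by
      suffices T.Rt ≤ centralizer ({E.y} : Set G) from (mem_centralizer_singleton_iff.1 (this hr)).symm
      refine iSup_le fun g => ?_
      rintro _ ⟨l, hl', rfl⟩
      obtain ⟨w, hw, e⟩ := T.pt_of_H4 g.2
      obtain ⟨g', hg', hgy, e'⟩ := E.exists_pt hw
      obtain ⟨l', hl'', el⟩ := (T.L_conj_eq g.2 hg' (e.trans e'.symm)).le ⟨l, hl', rfl⟩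
      refine mem_centralizer_singleton_iff.2 ?_
      rw [← el]
      show Commute (g' * l' * g'⁻¹) E.y
      exact (hgy.mul_left (hno l' hl'').symm).mul_left hgy.inv_left
    have h3 := Setting.cube_P h E.mem
    have h9 : E.y ^ 2 ^ 9 = 1 := by
      rw [← hl.card]
      exact congrArg Subtype.val (pow_card_eq_one' (G := T.Rt) (x := ⟨E.y, hR⟩))
    refine E.y_not_J ?_
    rw [eq_one_of_coprime (by norm_num) h9 h3]
    exact one_mem _
  choose f hf hfy hfe using fun k : {k : ℕ // k < 4} => E.exists_pt (pts_mem k.1 k.2)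
  exact ⟨⟨a, haL, hay, fun k => if hk : k < 4 then f ⟨k, hk⟩ else 1,
    fun k hk => by simp only [dif_pos hk]; exact hf ⟨k, hk⟩,
    fun k hk => by simp only [dif_pos hk]; exact hfy ⟨k, hk⟩,
    fun k hk => by simp only [dif_pos hk]; exact hfe ⟨k, hk⟩⟩⟩

theorem P_mem_H4 {p : G} (hp : p ∈ T.P) (ht : Commute p T.S.t) : p ∈ T.H4 := T.mem_H4.2 ⟨ht, Setting.P_norm hp,
  mem_normalizer_set (by
    rintro _ ⟨w, hw, rfl⟩
    rw [(T.h.comm_P T.B T.hx hp (T.cv_mem w)).eq, mul_inv_cancel_right]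
    exact ⟨w, hw, rfl⟩)⟩

theorem t_ne_one : T.S.t ≠ 1 := fun e => by
  have hc := T.ta
  rw [e, one_mul, inv_one, mul_one] at hc
  exact T.B.a1_not_Zc (D.mem_of_sq_mem T.B.ha1.1 (by nth_rewrite 2 [hc]; rw [mul_inv_cancel]; exact D.Zc.one_mem))

namespace Base

variable {E : T.Scalar} (B : Base E)

/-- The second element of the basis. -/
def b : G := E.y * B.a * E.y⁻¹

theorem bL : B.b ∈ T.S.L := T.S.conj_L E.y_z E.ct B.aL

/-- Representatives in the first quaternion group. -/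
def el : ℕ → G
  | 0 => 1
  | 1 => B.a
  | 2 => B.b
  | _ => B.a * B.b

theorem el_mem (c : ℕ) : B.el c ∈ T.S.L := by
  rcases c with _ | _ | _ | c
  exacts [one_mem _, B.aL, B.bL, mul_mem B.aL B.bL]

theorem a_ne : B.a ≠ 1 ∧ B.a ≠ T.S.t :=
  ⟨fun e => B.ay (e ▸ Commute.one_right _), fun e => B.ay (e ▸ E.ct)⟩

theorem y_cube (h : ¬ T.IsThree) (B : Base E) : E.y * (E.y * (E.y * B.a * E.y⁻¹) * E.y⁻¹) * E.y⁻¹ = B.a := by
  have h3 := Setting.cube_P h E.mem
  rw [pow_three] at h3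
  calc _ = E.y * (E.y * E.y) * B.a * (E.y * (E.y * E.y))⁻¹ := by group
    _ = B.a := by rw [h3]; group

variable (h : ¬ T.IsThree)
include h

theorem b_not : ¬ Rel T.S.t B.a B.b := by
  rintro (e | e)
  · exact B.ay (mul_inv_eq_iff_eq_mul.1 e)
  · have ht : ∀ u, E.y * (u * T.S.t) * E.y⁻¹ = E.y * u * E.y⁻¹ * T.S.t := fun u => by
      rw [show E.y * (u * T.S.t) * E.y⁻¹ = E.y * u * E.y⁻¹ * (E.y * T.S.t * E.y⁻¹) by group, E.ct.eq,
        mul_inv_cancel_right]
    have h3 := y_cube h B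
    change E.y * B.a * E.y⁻¹ = B.a * T.S.t at e
    rw [e, ht, e, mul_assoc B.a, T.S.t_sq, mul_one, e] at h3
    exact t_ne_one (mul_eq_left.1 h3)

theorem b_ne : B.b ≠ 1 ∧ B.b ≠ T.S.t := by
  refine ⟨fun e => B.a_ne.1 ?_, fun e => B.a_ne.2 ?_⟩
  · exact conj_eq_one_iff.1 e
  · change E.y * B.a * E.y⁻¹ = T.S.t at e
    rw [show B.a = E.y⁻¹ * (E.y * B.a * E.y⁻¹) * E.y by group, e, E.ct.inv_left.eq, inv_mul_cancel_right]

omit h

theorem a_sq_cases : B.a * B.a = 1 ∨ B.a * B.a = T.S.t := (T.block_L).sq _ B.aL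

include h

theorem el_inj {c d : ℕ} (hc : c < 4) (hd : d < 4) (e : Rel T.S.t (B.el c) (B.el d)) : c = d := by
  have ht := T.S.t_sq
  have hat : Commute T.S.t B.a := T.block_L.comm _ B.aL
  have hbt : Commute T.S.t B.b := T.block_L.comm _ B.bL
  have ha1 : ¬ Rel T.S.t 1 B.a := by
    rintro (e | e)
    exacts [B.a_ne.1 e, B.a_ne.2 (e.trans (one_mul _))]
  have hb1 : ¬ Rel T.S.t 1 B.b := by
    rintro (e | e)
    exacts [(B.b_ne h).1 e, (B.b_ne h).2 (e.trans (one_mul _))]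
  have hab : ¬ Rel T.S.t 1 (B.a * B.b) := fun e => by
    have h2 : Rel T.S.t (B.a * 1) (B.a * (B.a * B.b)) := Rel.mul ht (Commute.one_right _) (Rel.refl _ _) e
    rw [mul_one, ← mul_assoc] at h2
    refine B.b_not h (h2.trans ht ?_)
    rcases B.a_sq_cases with e' | e' <;> rw [e']
    · rw [one_mul]; exact Rel.refl _ _
    · exact Or.inr (by rw [hbt.eq, mul_assoc, ht, mul_one])
  have key : ∀ {x y z : G}, Commute T.S.t y → Rel T.S.t x (x * y) → ¬ Rel T.S.t 1 z → z = y → False := by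
    intro x y z _ e hne e'
    subst e'
    refine hne ?_
    rcases e with e | e
    · exact Or.inl (mul_eq_left.1 e)
    · exact Or.inr (by rw [one_mul]; exact mul_left_cancel e)
  interval_cases c <;> interval_cases d <;> simp only [el] at e ⊢
  · exact (ha1 e).elim
  · exact (hb1 e).elim
  · exact (hab e).elim
  · exact (ha1 (e.symm ht)).elim
  · exact (B.b_not h e).elim
  · exact (key hbt e hb1 rfl).elim
  · exact (hb1 (e.symm ht)).elim
  · exact (B.b_not h (e.symm ht)).elim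
  · refine (ha1 ?_).elim
    have h2 := Rel.mul ht hbt.inv_right e (Rel.refl T.S.t B.b⁻¹)
    rwa [mul_inv_cancel, mul_inv_cancel_right] at h2
  · exact (hab (e.symm ht)).elim
  · exact (key hbt (e.symm ht) hb1 rfl).elim
  · refine (ha1 ?_).elim
    have h2 := Rel.mul ht hbt.inv_right (e.symm ht) (Rel.refl T.S.t B.b⁻¹)
    rwa [mul_inv_cancel, mul_inv_cancel_right] at h2

theorem cover {l : G} (hl : l ∈ T.S.L) : ∃ c < 4, Rel T.S.t (B.el c) l := by
  classical
  let φ : Fin 4 × Bool → T.S.L := fun p =>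
    ⟨B.el p.1 * (bif p.2 then T.S.t else 1), mul_mem (B.el_mem _) (by cases p.2 <;> [exact one_mem _; exact T.S.t_mem_L])⟩
  have hinj : Function.Injective φ := by
    rintro ⟨c, x⟩ ⟨d, y⟩ e
    have e' : B.el c * (bif x then T.S.t else 1) = B.el d * (bif y then T.S.t else 1) := congrArg Subtype.val e
    have hcd : c = d := Fin.ext (B.el_inj h c.isLt d.isLt (by
      cases x <;> cases y <;> simp only [cond_true, cond_false, mul_one] at e'
      · exact Or.inl e'.symm
      · exact Rel.symm T.S.t_sq (Or.inr e')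
      · exact Or.inr e'.symm
      · exact Or.inl (mul_right_cancel e').symm))
    subst hcd
    refine Prod.ext rfl ?_
    have := mul_left_cancel e'
    cases x <;> cases y <;> simp only [cond_true, cond_false] at this <;>
      first | rfl | exact absurd this t_ne_one | exact absurd this.symm t_ne_one
  obtain ⟨⟨c, x⟩, hx⟩ := ((Nat.bijective_iff_injective_and_card φ).2
    ⟨hinj, by simp [T.S.card_L]⟩).2 ⟨l, hl⟩
  have hx' : B.el c * (bif x then T.S.t else 1) = l := congrArg Subtype.val hx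
  refine ⟨c, c.isLt, ?_⟩
  cases x
  · exact Or.inl (hx'.symm.trans (mul_one _))
  · exact Or.inr hx'.symm

theorem y_b : Rel T.S.t (B.a * B.b) (E.y * B.b * E.y⁻¹) := by
  obtain ⟨c, hc, e⟩ := B.cover h (T.S.conj_L E.y_z E.ct B.bL)
  have ht := T.S.t_sq
  interval_cases c
  · exfalso
    rcases e with e | e <;> simp only [el] at e
    · exact (B.b_ne h).1 (conj_eq_one_iff.1 e)
    · rw [one_mul] at e
      refine (B.b_ne h).2 ?_
      rw [show B.b = E.y⁻¹ * (E.y * B.b * E.y⁻¹) * E.y by group, e, E.ct.inv_left.eq, inv_mul_cancel_right]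
  · exfalso
    have h2 := (Rel.conj E.ct e)
    simp only [el] at h2
    have h3 : E.y * (E.y * B.b * E.y⁻¹) * E.y⁻¹ = B.a := y_cube h B
    rw [h3] at h2
    exact B.b_not h (h2.symm ht)
  · exfalso
    simp only [el] at e
    have h2 := Rel.conj E.ct.inv_left e
    rw [show E.y⁻¹ * (E.y * B.b * E.y⁻¹) * E.y⁻¹⁻¹ = B.b by group,
      show E.y⁻¹ * B.b * E.y⁻¹⁻¹ = B.a by simp only [b]; group] at h2
    exact B.b_not h h2
  · exact e

theorem not_comm : ¬ Commute B.a B.b := fun hc => by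
  have hall : ∀ l ∈ T.S.L, Commute B.a l := by
    intro l hl
    obtain ⟨c, hc4, e⟩ := B.cover h hl
    have : Commute B.a (B.el c) := by
      interval_cases c
      exacts [Commute.one_right _, Commute.refl _, hc, (Commute.refl _).mul_right hc]
    rcases e with rfl | rfl
    · exact this
    · exact this.mul_right (T.block_L.comm _ B.aL).symm
  rcases T.block_L.cen _ B.aL hall with e | e
  · exact B.a_ne.1 e
  · exact B.a_ne.2 e

theorem rels : B.a * B.a = T.S.t ∧ B.b * B.b = T.S.t ∧ B.b * B.a = B.a * B.b * T.S.t ∧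
    B.a * B.b * (B.a * B.b) = T.S.t := by
  have hat : Commute T.S.t B.a := T.block_L.comm _ B.aL
  have hbt : Commute T.S.t B.b := T.block_L.comm _ B.bL
  have hbb : B.b * B.b = E.y * (B.a * B.a) * E.y⁻¹ := by simp only [b]; group
  have hcc : B.a * B.b * (B.a * B.b) = E.y * (B.b * B.b) * E.y⁻¹ := by
    rw [show E.y * (B.b * B.b) * E.y⁻¹ = (E.y * B.b * E.y⁻¹) * (E.y * B.b * E.y⁻¹) by group,
      (B.y_b h).sq_eq T.S.t_sq (hat.mul_right hbt)]
  rcases B.a_sq_cases with e | e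
  · exfalso
    rw [e, mul_one, mul_inv_cancel] at hbb
    rw [hbb, mul_one, mul_inv_cancel] at hcc
    refine B.not_comm h ?_
    have e1 : (B.a * B.b)⁻¹ = B.a * B.b := inv_eq_of_mul_eq_one_right hcc
    rwa [mul_inv_rev, inv_eq_of_mul_eq_one_right e, inv_eq_of_mul_eq_one_right hbb, eq_comm] at e1
  · rw [e, E.ct.eq, mul_inv_cancel_right] at hbb
    rw [hbb, E.ct.eq, mul_inv_cancel_right] at hcc
    refine ⟨e, hbb, ?_, hcc⟩
    calc B.b * B.a = B.a⁻¹ * (B.a * B.b * (B.a * B.b)) * B.b⁻¹ := by group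
      _ = B.a⁻¹ * T.S.t * B.b⁻¹ := by rw [hcc]
      _ = B.a⁻¹ * (B.a * B.a) * (B.b⁻¹ * 1) := by rw [e, mul_one]
      _ = B.a * (B.b⁻¹ * (B.b * B.b * T.S.t)) := by rw [hbb, T.S.t_sq]; group
      _ = B.a * B.b * T.S.t := by group

theorem el_mul : ∀ c < 4, ∀ d < 4, Rel T.S.t (B.el (c ^^^ d)) (B.el c * B.el d) := by
  intro c hc d hd
  have hat : Commute T.S.t B.a := T.block_L.comm _ B.aL
  have hbt : Commute T.S.t B.b := T.block_L.comm _ B.bL
  obtain ⟨ha, hb, hba, hcc⟩ := B.rels h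
  have ht := T.S.t_sq
  interval_cases c <;> interval_cases d <;>
    simp only [Nat.xor_self, Nat.xor_zero, Nat.zero_xor,
      show (1 : ℕ) ^^^ 2 = 3 by decide,
      show (1 : ℕ) ^^^ 3 = 2 by decide,
      show (2 : ℕ) ^^^ 1 = 3 by decide,
      show (2 : ℕ) ^^^ 3 = 1 by decide,
      show (3 : ℕ) ^^^ 1 = 2 by decide,
      show (3 : ℕ) ^^^ 2 = 1 by decide] <;> simp only [el] <;>
    (try norm_num) <;> (try simp only [el])
  all_goals first
    | exact Rel.refl _ _
    | exact Or.inr (by rw [one_mul]; exact ha)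
    | exact Or.inr (by rw [one_mul]; exact hb)
    | exact Or.inr (by rw [one_mul]; exact hcc)
    | exact Or.inr hba
    | exact Or.inr (by rw [← mul_assoc, ha, hbt.eq])
    | exact Or.inr (by rw [mul_assoc, hb])
    | exact Or.inl (by
        rw [← mul_assoc, hba, mul_assoc (B.a * B.b), hbt.eq, ← mul_assoc, mul_assoc B.a, hb, mul_assoc, ht, mul_one])
    | exact Or.inl (by
        rw [mul_assoc B.a B.b, hba, show B.a * (B.a * B.b * T.S.t) = B.a * B.a * (B.b * T.S.t) by group, ha,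
          ← hbt.eq, ← mul_assoc, ht, one_mul])

theorem el_sq {c : ℕ} (hc : c < 4) : B.el c * B.el c = if c = 0 then 1 else T.S.t := by
  obtain ⟨ha, hb, -, hcc⟩ := B.rels h
  interval_cases c
  exacts [mul_one _, ha, hb, hcc]

theorem el_nc {c : ℕ} (hc : c < 4) (h0 : c ≠ 0) : ∃ d < 4, ¬ Commute (B.el d) (B.el c) := by
  interval_cases c
  · exact absurd rfl h0
  · exact ⟨2, by norm_num, fun e => B.not_comm h e.symm⟩
  · exact ⟨1, by norm_num, B.not_comm h⟩
  · refine ⟨1, by norm_num, fun e => B.not_comm h ?_⟩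
    have := (Commute.refl B.a).inv_right.mul_right e
    simp only [el] at this
    rwa [inv_mul_cancel_left] at this

omit h

/-- The element of a block with given coordinates. -/
def bl (k c : ℕ) : G := B.f k * B.el c * (B.f k)⁻¹

theorem bl_zero (k : ℕ) : B.bl k 0 = 1 := by simp [bl, el]

theorem bl_Lc (k c : ℕ) : B.bl k c ∈ T.Lc (B.f k) := ⟨_, B.el_mem c, rfl⟩

theorem bl_mem {k : ℕ} (hk : k < 4) (c : ℕ) : B.bl k c ∈ T.Rt := T.Lc_le (B.fH k hk) (B.bl_Lc k c)

theorem bl_t {k : ℕ} (hk : k < 4) (c : ℕ) : Commute T.S.t (B.bl k c) :=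
  ((T.mem_H4.1 (B.fH k hk)).1.symm.mul_right (T.block_L.comm _ (B.el_mem c))).mul_right
    (T.mem_H4.1 (B.fH k hk)).1.symm.inv_right

theorem Lc_cover (h : ¬ T.IsThree) {k : ℕ} (hk : k < 4) {g : G} (hg : g ∈ T.H4)
    (e : g * T.cv (1, 0, 0, 0) * g⁻¹ = T.cv (pts k)) {l : G} (hl : l ∈ T.S.L) :
    ∃ c < 4, Rel T.S.t (B.bl k c) (g * l * g⁻¹) := by
  obtain ⟨l', hl', el'⟩ := (T.L_conj_eq hg (B.fH k hk) (e.trans (B.fe k hk).symm)).le ⟨l, hl, rfl⟩
  change B.f k * l' * (B.f k)⁻¹ = g * l * g⁻¹ at el'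
  obtain ⟨c, hc, r⟩ := B.cover h hl'
  exact ⟨c, hc, el' ▸ Rel.conj (T.mem_H4.1 (B.fH k hk)).1 r⟩

variable (hl : E.Local)
include hl

theorem bl_comm {i j : ℕ} (hi : i < 4) (hj : j < 4) (hij : i ≠ j) (c d : ℕ) : Commute (B.bl i c) (B.bl j d) :=
  hl.comm _ (B.fH i hi) _ (B.fH j hj)
    (by rw [B.fe i hi, B.fe j hj]; exact fun e => hij (pts_inj i hi j hj (T.cv_inj e)))
    _ (B.bl_Lc i c) _ (B.bl_Lc j d)

omit hl

include h in
theorem bl_mul {k : ℕ} (hk : k < 4) {c d : ℕ} (hc : c < 4) (hd : d < 4) :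
    Rel T.S.t (B.bl k (c ^^^ d)) (B.bl k c * B.bl k d) := by
  have := Rel.conj (T.mem_H4.1 (B.fH k hk)).1 (B.el_mul h c hc d hd)
  rwa [show B.f k * (B.el c * B.el d) * (B.f k)⁻¹ = B.bl k c * B.bl k d by simp only [bl]; group] at this

include h in
theorem bl_sq {k : ℕ} (hk : k < 4) {c : ℕ} (hc : c < 4) : B.bl k c * B.bl k c = if c = 0 then 1 else T.S.t := by
  rw [show B.bl k c * B.bl k c = B.f k * (B.el c * B.el c) * (B.f k)⁻¹ by simp only [bl]; group, B.el_sq h hc]
  split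
  · group
  · rw [(T.mem_H4.1 (B.fH k hk)).1.eq, mul_inv_cancel_right]

/-- The element with given coordinates. -/
def rp (v : ℕ) : G := B.bl 0 (dig v 0) * B.bl 1 (dig v 1) * (B.bl 2 (dig v 2) * B.bl 3 (dig v 3))

theorem rp_mem (v : ℕ) : B.rp v ∈ T.Rt := mul_mem (mul_mem (B.bl_mem (by norm_num) _) (B.bl_mem (by norm_num) _))
  (mul_mem (B.bl_mem (by norm_num) _) (B.bl_mem (by norm_num) _))

theorem rp_t (v : ℕ) : Commute T.S.t (B.rp v) :=
  ((B.bl_t (by norm_num) _).mul_right (B.bl_t (by norm_num) _)).mul_right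
    ((B.bl_t (by norm_num) _).mul_right (B.bl_t (by norm_num) _))

theorem rp_single {k c : ℕ} (hk : k < 4) (hc : c < 4) : B.rp (c * 4 ^ k) = B.bl k c := by
  interval_cases k <;> interval_cases c <;> simp [rp, dig, bl_zero]

theorem rp_zero : B.rp 0 = 1 := by simp [rp, dig, bl_zero]

include h hl

theorem rp_mul (u v : ℕ) : Rel T.S.t (B.rp (u ^^^ v)) (B.rp u * B.rp v) := by
  have ht := T.S.t_sq
  have hc : ∀ {i j : ℕ}, i < 4 → j < 4 → i ≠ j → ∀ c d, Commute (B.bl i c) (B.bl j d) := fun hi hj hij c d =>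
    B.bl_comm hl hi hj hij c d
  have e1 : B.bl 0 (dig u 0) * B.bl 1 (dig u 1) * (B.bl 0 (dig v 0) * B.bl 1 (dig v 1)) =
      B.bl 0 (dig u 0) * B.bl 0 (dig v 0) * (B.bl 1 (dig u 1) * B.bl 1 (dig v 1)) :=
    (hc (by norm_num) (by norm_num) (by norm_num) _ _).mul_mul_mul_comm _ _
  have e2 : B.bl 2 (dig u 2) * B.bl 3 (dig u 3) * (B.bl 2 (dig v 2) * B.bl 3 (dig v 3)) =
      B.bl 2 (dig u 2) * B.bl 2 (dig v 2) * (B.bl 3 (dig u 3) * B.bl 3 (dig v 3)) :=
    (hc (by norm_num) (by norm_num) (by norm_num) _ _).mul_mul_mul_comm _ _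
  have e3 : Commute (B.bl 2 (dig u 2) * B.bl 3 (dig u 3)) (B.bl 0 (dig v 0) * B.bl 1 (dig v 1)) :=
    ((hc (by norm_num) (by norm_num) (by norm_num) _ _).mul_right
      (hc (by norm_num) (by norm_num) (by norm_num) _ _)).mul_left
    ((hc (by norm_num) (by norm_num) (by norm_num) _ _).mul_right
      (hc (by norm_num) (by norm_num) (by norm_num) _ _))
  rw [show B.rp u * B.rp v = _ from e3.mul_mul_mul_comm _ _, e1, e2]
  simp only [rp, dig_xor]
  have m : ∀ {k : ℕ}, k < 4 → Rel T.S.t (B.bl k (dig u k ^^^ dig v k)) (B.bl k (dig u k) * B.bl k (dig v k)) :=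
    fun hk => B.bl_mul h hk (dig_lt _ _) (dig_lt _ _)
  exact Rel.mul ht ((B.bl_t (by norm_num) _).mul_right (B.bl_t (by norm_num) _))
    (Rel.mul ht (B.bl_t (by norm_num) _) (m (by norm_num)) (m (by norm_num)))
    (Rel.mul ht (B.bl_t (by norm_num) _) (m (by norm_num)) (m (by norm_num)))

theorem rp_central {w : ℕ} (hw : w < 256) (e : Rel T.S.t 1 (B.rp w)) : w = 0 := by
  have hz : ∀ i < 4, dig w i = 0 := by
    intro i hi
    by_contra hne
    obtain ⟨d, hd, hnc⟩ := B.el_nc h (dig_lt w i) hne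
    refine hnc ?_
    have hcen : Commute (B.bl i d) (B.rp w) := by
      rcases e with e | e <;> rw [e]
      · exact Commute.one_right _
      · rw [one_mul]; exact (B.bl_t hi d).symm
    have hother : ∀ j < 4, j ≠ i → Commute (B.bl i d) (B.bl j (dig w j)) := fun j hj hne =>
      B.bl_comm hl hi hj (Ne.symm hne) _ _
    have hk : Commute (B.bl i d) (B.bl i (dig w i)) := by
      simp only [rp] at hcen
      obtain ⟨x, hx⟩ : ∃ x, x = B.bl i d := ⟨_, rfl⟩
      rw [← hx] at hcen hother ⊢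
      interval_cases i
      · have := hcen.mul_right ((hother 2 (by norm_num) (by norm_num)).mul_right
          (hother 3 (by norm_num) (by norm_num))).inv_right
        rw [mul_inv_cancel_right] at this
        have := this.mul_right (hother 1 (by norm_num) (by norm_num)).inv_right
        rwa [mul_inv_cancel_right] at this
      · have := hcen.mul_right ((hother 2 (by norm_num) (by norm_num)).mul_right
          (hother 3 (by norm_num) (by norm_num))).inv_right
        rw [mul_inv_cancel_right] at this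
        have := (hother 0 (by norm_num) (by norm_num)).inv_right.mul_right this
        rwa [inv_mul_cancel_left] at this
      · have := ((hother 0 (by norm_num) (by norm_num)).mul_right
          (hother 1 (by norm_num) (by norm_num))).inv_right.mul_right hcen
        rw [inv_mul_cancel_left] at this
        have := this.mul_right (hother 3 (by norm_num) (by norm_num)).inv_right
        rwa [mul_inv_cancel_right] at this
      · have := ((hother 0 (by norm_num) (by norm_num)).mul_right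
          (hother 1 (by norm_num) (by norm_num))).inv_right.mul_right hcen
        rw [inv_mul_cancel_left] at this
        have := (hother 2 (by norm_num) (by norm_num)).inv_right.mul_right this
        rwa [inv_mul_cancel_left] at this
    have := (Commute.conj_iff (B.f i)⁻¹).2 hk
    simpa [bl, mul_assoc] using this
  exact (dig_facts w hw).1 (hz 0 (by norm_num)) (hz 1 (by norm_num)) (hz 2 (by norm_num)) (hz 3 (by norm_num))

theorem rp_inj {u v : ℕ} (hu : u < 256) (hv : v < 256) (e : Rel T.S.t (B.rp u) (B.rp v)) : u = v := by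
  have ht := T.S.t_sq
  have h1 : Rel T.S.t (B.rp (u ^^^ v)) (B.rp u * B.rp v) := B.rp_mul h hl u v
  have h2 : Rel T.S.t (B.rp 0) (B.rp u * B.rp u) := by simpa using B.rp_mul h hl u u
  have h3 : Rel T.S.t (B.rp u * B.rp u) (B.rp u * B.rp v) := Rel.mul ht (B.rp_t u) (Rel.refl _ _) e
  have h4 : u ^^^ v = 0 := B.rp_central h hl (xor_lt hu hv) (by
    have := (h2.trans ht h3).trans ht (h1.symm ht)
    rwa [B.rp_zero] at this)
  calc u = u ^^^ (u ^^^ v) := by rw [h4, Nat.xor_zero]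
    _ = v := by rw [← Nat.xor_assoc, Nat.xor_self, Nat.zero_xor]

theorem rp_surj {r : G} (hr : r ∈ T.Rt) : ∃ v < 256, Rel T.S.t (B.rp v) r := by
  classical
  have htR : T.S.t ∈ T.Rt := hl.block.mem
  let φ : Fin 256 × Bool → T.Rt := fun p =>
    ⟨B.rp p.1 * (bif p.2 then T.S.t else 1), mul_mem (B.rp_mem _) (by cases p.2 <;> [exact one_mem _; exact htR])⟩
  have hinj : Function.Injective φ := by
    rintro ⟨c, x⟩ ⟨d, y⟩ e
    have e' : B.rp c * (bif x then T.S.t else 1) = B.rp d * (bif y then T.S.t else 1) := congrArg Subtype.val e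
    have hcd : c = d := Fin.ext (B.rp_inj h hl c.isLt d.isLt (by
      cases x <;> cases y <;> simp only [cond_true, cond_false, mul_one] at e'
      · exact Or.inl e'.symm
      · exact Rel.symm T.S.t_sq (Or.inr e')
      · exact Or.inr e'.symm
      · exact Or.inl (mul_right_cancel e').symm))
    subst hcd
    refine Prod.ext rfl ?_
    have := mul_left_cancel e'
    cases x <;> cases y <;> simp only [cond_true, cond_false] at this <;>
      first | rfl | exact absurd this t_ne_one | exact absurd this.symm t_ne_one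
  obtain ⟨⟨c, x⟩, hx⟩ := ((Nat.bijective_iff_injective_and_card φ).2
    ⟨hinj, by simp [hl.card]⟩).2 ⟨r, hr⟩
  have hx' : B.rp c * (bif x then T.S.t else 1) = r := congrArg Subtype.val hx
  refine ⟨c, c.isLt, ?_⟩
  cases x
  · exact Or.inl (hx'.symm.trans (mul_one _))
  · exact Or.inr hx'.symm

omit h hl

open Classical in
/-- The coordinates. -/
noncomputable def vc (r : G) : ℕ :=
  if hr : ∃ v, v < 256 ∧ Rel T.S.t (B.rp v) r then hr.choose else 0

theorem vc_lt (r : G) : B.vc r < 256 := by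
  unfold vc
  split
  · rename_i hr; exact hr.choose_spec.1
  · norm_num

include h hl

theorem vc_eq {r : G} {v : ℕ} (hv : v < 256) (e : Rel T.S.t (B.rp v) r) : B.vc r = v := by
  have hr : ∃ v, v < 256 ∧ Rel T.S.t (B.rp v) r := ⟨v, hv, e⟩
  rw [vc, dif_pos hr]
  exact B.rp_inj h hl hr.choose_spec.1 hv (hr.choose_spec.2.trans T.S.t_sq (e.symm T.S.t_sq))

theorem vc_spec {r : G} (hr : r ∈ T.Rt) : Rel T.S.t (B.rp (B.vc r)) r := by
  obtain ⟨v, hv, e⟩ := B.rp_surj h hl hr
  rwa [B.vc_eq h hl hv e]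

theorem vc_rp {v : ℕ} (hv : v < 256) : B.vc (B.rp v) = v := B.vc_eq h hl hv (Rel.refl _ _)

theorem vc_bl {k c : ℕ} (hk : k < 4) (hc : c < 4) : B.vc (B.bl k c) = c * 4 ^ k := by
  rw [← B.rp_single hk hc]
  refine B.vc_rp h hl ?_
  interval_cases k <;> interval_cases c <;> norm_num

theorem vc_mul {r r' : G} (hr : r ∈ T.Rt) (hr' : r' ∈ T.Rt) : B.vc (r * r') = B.vc r ^^^ B.vc r' :=
  B.vc_eq h hl (xor_lt (B.vc_lt _) (B.vc_lt _)) ((B.rp_mul h hl _ _).trans T.S.t_sq
    (Rel.mul T.S.t_sq (B.rp_t _) (B.vc_spec h hl hr) (B.vc_spec h hl hr')))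

theorem vc_zero {r : G} (hr : r ∈ T.Rt) (e : B.vc r = 0) : r = 1 ∨ r = T.S.t := by
  have := B.vc_spec h hl hr
  rw [e, B.rp_zero] at this
  exact this.imp id fun e => e.trans (one_mul _)

theorem vc_t : B.vc T.S.t = 0 := B.vc_eq h hl (by norm_num) (Or.inr (by rw [B.rp_zero, one_mul]))

theorem vc_sq {r : G} (hr : r ∈ T.Rt) : r * r = if qU (B.vc r) = 1 then T.S.t else 1 := by
  rw [(B.vc_spec h hl hr).sq_eq T.S.t_sq (B.rp_t _)]
  generalize B.vc r = v, B.vc_lt r = hv
  have hc : ∀ {i j : ℕ}, i < 4 → j < 4 → i ≠ j → ∀ c d, Commute (B.bl i c) (B.bl j d) := fun hi hj hij c d =>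
    B.bl_comm hl hi hj hij c d
  have e : B.rp v * B.rp v = B.bl 0 (dig v 0) * B.bl 0 (dig v 0) * (B.bl 1 (dig v 1) * B.bl 1 (dig v 1)) *
      (B.bl 2 (dig v 2) * B.bl 2 (dig v 2) * (B.bl 3 (dig v 3) * B.bl 3 (dig v 3))) := by
    rw [← (hc (i := 1) (j := 0) (by norm_num) (by norm_num) (by norm_num) _ _).mul_mul_mul_comm,
      ← (hc (i := 3) (j := 2) (by norm_num) (by norm_num) (by norm_num) _ _).mul_mul_mul_comm]
    exact (((hc (by norm_num) (by norm_num) (by norm_num) _ _).mul_right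
      (hc (by norm_num) (by norm_num) (by norm_num) _ _)).mul_left
      ((hc (by norm_num) (by norm_num) (by norm_num) _ _).mul_right
      (hc (by norm_num) (by norm_num) (by norm_num) _ _))).mul_mul_mul_comm _ _
  rw [e, B.bl_sq h (by norm_num) (dig_lt _ _), B.bl_sq h (by norm_num) (dig_lt _ _),
    B.bl_sq h (by norm_num) (dig_lt _ _), B.bl_sq h (by norm_num) (dig_lt _ _), (dig_facts v hv).2]
  split_ifs <;> simp_all [T.S.t_sq]

/-- The coordinate extension. -/
theorem ext_facts (B : Base E) : ∀ r ∈ T.Rt, ∀ r' ∈ T.Rt, r * r' * r⁻¹ * r'⁻¹ = 1 ∨ r * r' * r⁻¹ * r'⁻¹ = T.S.t := by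
  intro r hr r' hr'
  have e : B.vc (r' * r) = B.vc (r * r') := by rw [B.vc_mul h hl hr' hr, B.vc_mul h hl hr hr', Nat.xor_comm]
  have h1 := B.vc_spec h hl (mul_mem hr' hr)
  rw [e] at h1
  rcases (h1.symm T.S.t_sq).trans T.S.t_sq (B.vc_spec h hl (mul_mem hr hr')) with e | e
  · left; rw [e]; group
  · right
    rw [e, show r' * r * T.S.t * r⁻¹ * r'⁻¹ = (r' * r) * T.S.t * (r' * r)⁻¹ by group,
      ← ((hl.block.comm _ (mul_mem hr' hr))).eq, mul_inv_cancel_right]

theorem comm_all {x : G} (hx : Commute x T.S.t) (hb : ∀ i < 8, Commute x (B.rp (2 ^ i))) :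
    ∀ r ∈ T.Rt, Commute x r := by
  have h12 : ∀ k < 4, ∀ c < 4, Commute x (B.bl k c) := by
    intro k hk c hc
    have e1 : B.rp (2 ^ (2 * k)) = B.bl k 1 := by
      rw [← B.rp_single hk (show 1 < 4 by norm_num), one_mul, pow_mul]; norm_num
    have e2 : B.rp (2 ^ (2 * k + 1)) = B.bl k 2 := by
      rw [← B.rp_single hk (show 2 < 4 by norm_num), pow_succ', pow_mul]; norm_num
    have a1 : Commute x (B.bl k 1) := e1 ▸ hb _ (by omega)
    have a2 : Commute x (B.bl k 2) := e2 ▸ hb _ (by omega)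
    interval_cases c
    · rw [B.bl_zero]; exact Commute.one_right _
    · exact a1
    · exact a2
    · rw [show B.bl k 3 = B.bl k 1 * B.bl k 2 by simp only [bl, el]; group]
      exact a1.mul_right a2
  intro r hr
  have hv : Commute x (B.rp (B.vc r)) :=
    ((h12 0 (by norm_num) _ (dig_lt _ _)).mul_right (h12 1 (by norm_num) _ (dig_lt _ _))).mul_right
      ((h12 2 (by norm_num) _ (dig_lt _ _)).mul_right (h12 3 (by norm_num) _ (dig_lt _ _)))
  rcases B.vc_spec h hl hr with e | e <;> rw [e]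
  · exact hv
  · exact hv.mul_right hx

omit h hl

/-- The elements commuting with the involution and normalising the product of the blocks. -/
def NR (_ : Base E) : Subgroup G := centralizer ({T.S.t} : Set G) ⊓ normalizer (T.Rt : Set G)

theorem mem_NR {x : G} : x ∈ B.NR ↔ Commute x T.S.t ∧ x ∈ normalizer (T.Rt : Set G) :=
  and_congr mem_centralizer_singleton_iff Iff.rfl

theorem conj_mem {x : G} (hx : x ∈ B.NR) {r : G} (hr : r ∈ T.Rt) : x * r * x⁻¹ ∈ T.Rt :=
  (mem_normalizer_iff.1 (B.mem_NR.1 hx).2 r).1 hr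

theorem H4_NR {x : G} (hx : x ∈ T.H4) : x ∈ B.NR := B.mem_NR.2 ⟨(T.mem_H4.1 hx).1, T.H4_norm_Rt hx⟩

/-- The code of the action. -/
noncomputable def κ (x : G) : ℕ := mkc fun i => B.vc (x * B.rp (2 ^ i) * x⁻¹)

theorem κ_lt (x : G) : B.κ x < 2 ^ 64 := mkc_lt fun _ _ => B.vc_lt _

include h hl

theorem act {x : G} (hx : x ∈ B.NR) {r : G} (hr : r ∈ T.Rt) :
    B.vc (x * r * x⁻¹) = ap (B.κ x) (B.vc r) := by
  have hxt := (B.mem_NR.1 hx).1
  have key : ∀ v < 256, ∀ r', Rel T.S.t (B.rp v) r' →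
      B.vc (x * r' * x⁻¹) = B.vc (x * B.rp v * x⁻¹) := fun v _ r' e =>
    B.vc_eq h hl (B.vc_lt _) ((B.vc_spec h hl (B.conj_mem hx (B.rp_mem v))).trans T.S.t_sq (Rel.conj hxt e))
  rw [key _ (B.vc_lt r) r (B.vc_spec h hl hr), κ,
    U62Type.exists_code (f := fun v => B.vc (x * B.rp v * x⁻¹)) (fun v _ => B.vc_lt _) (fun u hu v hv => ?_)
      (B.vc_lt r)]
  rw [← B.vc_mul h hl (B.conj_mem hx (B.rp_mem u)) (B.conj_mem hx (B.rp_mem v)),
    show x * B.rp u * x⁻¹ * (x * B.rp v * x⁻¹) = x * (B.rp u * B.rp v) * x⁻¹ by group]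
  exact (key _ (xor_lt hu hv) _ (B.rp_mul h hl u v)).symm

theorem κ_mul {x x' : G} (hx : x ∈ B.NR) (hx' : x' ∈ B.NR) : B.κ (x * x') = cm (B.κ x) (B.κ x') := by
  refine code_ext (B.κ_lt _) (cm_lt _ _) fun v hv => ?_
  rw [ap_cm, ← B.vc_rp h hl hv, ← B.act h hl hx' (B.rp_mem v), ← B.act h hl hx (B.conj_mem hx' (B.rp_mem v)),
    ← B.act h hl (mul_mem hx hx') (B.rp_mem v)]
  congr 1
  group

theorem κ_one : B.κ 1 = idc :=
  mkc_congr fun i hi => by
    rw [one_mul, inv_one, mul_one, B.vc_rp h hl (lt_of_lt_of_le (Nat.pow_lt_pow_right (by norm_num) hi) le_rfl)]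

theorem κ_blocks {x : G} {f : ℕ → ℕ} (h1 : ∀ k < 4, B.vc (x * B.bl k 1 * x⁻¹) = f (2 * k))
    (h2 : ∀ k < 4, B.vc (x * B.bl k 2 * x⁻¹) = f (2 * k + 1)) : B.κ x = mkc f := by
  refine mkc_congr fun i hi => ?_
  have hk : i / 2 < 4 := by omega
  rcases Nat.mod_two_eq_zero_or_one i with e | e
  · have hi' : i = 2 * (i / 2) := by omega
    rw [hi', pow_mul, ← h1 _ hk, ← B.rp_single hk (show 1 < 4 by norm_num), one_mul]
    norm_num
  · have hi' : i = 2 * (i / 2) + 1 := by omega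
    rw [hi', pow_succ', pow_mul, ← h2 _ hk, ← B.rp_single hk (show 2 < 4 by norm_num)]
    norm_num

theorem ker {x : G} (hx : x ∈ B.NR) (e : B.κ x = idc) : x ∈ T.Rt := by
  classical
  have hxt := (B.mem_NR.1 hx).1
  have hp : ∀ i < 8, (2 : ℕ) ^ i < 256 := fun i hi =>
    lt_of_lt_of_le (Nat.pow_lt_pow_right (by norm_num) hi) le_rfl
  have hsame : ∀ i < 8, Rel T.S.t (B.rp (2 ^ i)) (x * B.rp (2 ^ i) * x⁻¹) := fun i hi => by
    have := B.vc_spec h hl (B.conj_mem hx (B.rp_mem (2 ^ i)))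
    rwa [B.act h hl hx (B.rp_mem _), e, B.vc_rp h hl (hp i hi), ap_idc (hp i hi)] at this
  have two : ∀ {u w g : G}, Rel T.S.t g (u * g * u⁻¹) → Rel T.S.t g (w * g * w⁻¹) →
      (Commute u g ↔ Commute w g) → u * g * u⁻¹ = w * g * w⁻¹ := by
    intro u w g e1 e2 hiff
    by_cases hc : Commute u g
    · rw [hc.eq, mul_inv_cancel_right, (hiff.1 hc).eq, mul_inv_cancel_right]
    · rw [e1.resolve_left fun e => hc (mul_inv_eq_iff_eq_mul.1 e),
        e2.resolve_left fun e => hc (hiff.2 (mul_inv_eq_iff_eq_mul.1 e))]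
  have hinner : ∀ u i, Rel T.S.t (B.rp (2 ^ i)) (B.rp u * B.rp (2 ^ i) * (B.rp u)⁻¹) := fun u i => by
    rcases B.ext_facts h hl _ (B.rp_mem u) _ (B.rp_mem (2 ^ i)) with e | e
    · exact Or.inl (mul_inv_eq_one.1 e)
    · exact Or.inr ((mul_inv_eq_iff_eq_mul.1 e).trans (B.rp_t _).eq)
  let φ : Fin 256 → (Fin 8 → Bool) := fun u i => decide (Commute (B.rp u) (B.rp (2 ^ (i : ℕ))))
  have hinj : Function.Injective φ := fun u v e => by
    have hc : ∀ r ∈ T.Rt, Commute ((B.rp v)⁻¹ * B.rp u) r := B.comm_all h hl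
      ((B.rp_t v).symm.inv_left.mul_left (B.rp_t u).symm) fun i hi => by
      have := two (hinner u i) (hinner v i) (by simpa [φ] using congrFun e ⟨i, hi⟩)
      refine mul_inv_eq_iff_eq_mul.1 ?_
      calc (B.rp v)⁻¹ * B.rp u * B.rp (2 ^ i) * ((B.rp v)⁻¹ * B.rp u)⁻¹
          = (B.rp v)⁻¹ * (B.rp u * B.rp (2 ^ i) * (B.rp u)⁻¹) * B.rp v := by group
        _ = B.rp (2 ^ i) := by rw [this]; group
    refine Fin.ext (B.rp_inj h hl v.isLt u.isLt ?_).symm
    rcases hl.block.cen _ (mul_mem (inv_mem (B.rp_mem v)) (B.rp_mem u)) hc with e | e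
    · exact Or.inl (inv_mul_eq_one.1 e).symm
    · exact Or.inr (inv_mul_eq_iff_eq_mul.1 e)
  obtain ⟨u, hu⟩ := ((Fintype.bijective_iff_injective_and_card φ).2 ⟨hinj, by simp⟩).2
    fun i => decide (Commute x (B.rp (2 ^ (i : ℕ))))
  have hc : ∀ r ∈ T.Rt, Commute ((B.rp u)⁻¹ * x) r := B.comm_all h hl
    ((B.rp_t u).symm.inv_left.mul_left hxt) fun i hi => by
    have := two (hsame i hi) (hinner u i) (by simpa [φ] using (congrFun hu ⟨i, hi⟩).symm)
    refine mul_inv_eq_iff_eq_mul.1 ?_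
    calc (B.rp u)⁻¹ * x * B.rp (2 ^ i) * ((B.rp u)⁻¹ * x)⁻¹
        = (B.rp u)⁻¹ * (x * B.rp (2 ^ i) * x⁻¹) * B.rp u := by group
      _ = B.rp (2 ^ i) := by rw [this]; group
  have := mul_mem (B.rp_mem u) (hl.self _ ((B.rp_t u).symm.inv_left.mul_left hxt) hc)
  rwa [mul_inv_cancel_left] at this

end Base

end Cfsg.Lib.U6ThreeNine
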