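import Cfsg.Agent.Lib.U6ThreeNine.Lemmas

/-!
# The element of the centraliser of the plane fixed by the stabiliser of the four points
-/

set_option autoImplicit false
set_option linter.unusedSectionVars false
set_option synthInstance.maxSize 4000
set_option maxRecDepth 8000

namespace Cfsg.Lib.U6Three

open Subgroup
open scoped commutatorElement

/-- The map exchanging the first two of the four points. -/
def m14 : Cols := ((0, 0, 0, 1), (0, 1, 0, 0), (0, 0, 1, 0), (1, 0, 0, 0))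

theorem word_m14 : cmp kM (cmp (uM 0 1) sM) = m14 ∧ app m14 (0, 0, 1, 0) = (0, 0, 1, 0) ∧
    app m14 (1, 0, 1, 1) = (1, 0, 1, 1) ∧ app m14 (1, 0, 0, 0) = (0, 0, 0, 1) ∧
    app m14 (0, 0, 0, 1) = (1, 0, 0, 0) := by decide +kernel

theorem k_cocycle : (cmp kM (cmp kM kM) = cmp sM sM) ∧
    (cmp (cmp (uM 0 1) kM) (cmp (uM 0 1) kM) = cmp sM sM) ∧
    ∀ v : V4, v.2.1 = 0 → v + app kM v + app kM (app kM v) = 0 →
      app (uM 0 1) v + app (cmp (uM 0 1) kM) (app (uM 0 1) v) = 0 → ∃ i : ZMod 3, v = i • (1, 0, 0, 2) := by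
  refine ⟨?_, ?_, ?_⟩ <;> decide +kernel

theorem pts_fixed : ∀ w ∈ ptsA, app tM w = w ∧ w ≠ 0 := by decide +kernel

namespace Setting

variable {G : Type*} [Group G] [Finite G] {D : Data G} (T : Setting D)

theorem cv_t {v : V4} (hv : v.2.1 = 0) : Commute (T.cv v) T.S.t := by
  have := T.act_t.eq v
  rw [(show ∀ v : V4, v.2.1 = 0 → app tM v = v by decide +kernel) v hv] at this
  exact (mul_inv_eq_iff_eq_mul.1 this).symm

theorem cv_inv (v : V4) : (T.cv v)⁻¹ = T.cv (-v) :=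
  inv_eq_of_mul_eq_one_right (by rw [← T.cv_add, add_neg_cancel, T.cv_zero])

theorem cv_P (v : V4) : T.cv v ∈ T.P := T.J_le_P (T.cv_mem v)

theorem cv_zero_Q (i j k : ZMod 3) : T.cv (k, i, j, 0) ∈ D.Q := by rw [T.cv_el]; exact T.B.el_mem _ _ _

theorem act_of_P {p : G} (hp : p ∈ T.P) (hn : p ∈ normalizer (T.J : Set G)) {g : G} {m : Cols} (hg : T.Act g m) :
    T.Act (g * p) m := by
  refine ⟨mul_mem hg.norm hn, fun v => ?_⟩
  rw [← hg.eq]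
  have hc : Commute p (T.cv v) := T.h.comm_P T.B T.hx hp (T.cv_mem v)
  rw [show g * p * T.cv v * (g * p)⁻¹ = g * (p * T.cv v * p⁻¹) * g⁻¹ by group, hc.eq, mul_inv_cancel_right]

variable {T}

theorem P_norm {p : G} (hp : p ∈ T.P) : p ∈ normalizer (T.J : Set G) := mem_normalizer_set fun w hw => by
  rw [(T.h.comm_P T.B T.hx hp hw).eq, mul_inv_cancel_right]
  exact hw

/-- A three-element of the centraliser of the plane can be adjusted to commute with both involutions. -/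
theorem fix_in_P (h : ¬ T.IsThree) {p : G} (hp : p ∈ T.P) : ∃ m n : ZMod 3,
    Commute (p * T.cv (0, m, n, 0)) T.S.t ∧ Commute (p * T.cv (0, m, n, 0)) T.S.s := by
  have step : ∀ {u : G} {um : Cols}, u * u = 1 → T.Act u um → u ∈ T.Fix →
      ∃ v : V4, u * p * u⁻¹ = T.cv v * p ∧ app um v + v = 0 := by
    intro u um hu2 hact hF
    obtain ⟨v, hv⟩ := T.exists_cv (hF.2 p hp)
    have e : u * p * u⁻¹ = T.cv v * p := by rw [hv, inv_mul_cancel_right]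
    refine ⟨v, e, T.cv_inj ?_⟩
    rw [T.cv_add, T.cv_zero, ← hact.eq]
    have h2 : u * (u * p * u⁻¹) * u⁻¹ = p := by
      rw [show u * (u * p * u⁻¹) * u⁻¹ = (u * u) * p * (u * u)⁻¹ by group, hu2]; group
    rw [e, show u * (T.cv v * p) * u⁻¹ = (u * T.cv v * u⁻¹) * (u * p * u⁻¹) by group, e, ← mul_assoc] at h2
    exact mul_eq_right.1 h2
  obtain ⟨v, ev, hv⟩ := step T.S.t_sq T.act_t (t_Fix h)
  obtain ⟨w, ew, hw⟩ := step T.S.s_sq T.act_s (s_Fix h)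
  obtain ⟨hv0, hvm⟩ := (show ∀ v : V4, app tM v + v = 0 → v = (0, v.2.1, 0, 0) ∧
    ∀ m : ZMod 3, m = 2 * v.2.1 → app tM (0, m, 0, 0) + v = (0, m, 0, 0) by decide +kernel) v hv
  obtain ⟨hw0, hwn⟩ := (show ∀ v : V4, app sM v + v = 0 → v = (0, 0, v.2.2.1, 0) ∧
    ∀ m : ZMod 3, m = 2 * v.2.2.1 → app sM (0, 0, m, 0) + v = (0, 0, m, 0) by decide +kernel) w hw
  refine ⟨2 * v.2.1, 2 * w.2.2.1, ?_⟩
  have hc : ∀ a : V4, Commute p (T.cv a) := fun a => T.h.comm_P T.B T.hx hp (T.cv_mem a)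
  refine ⟨?_, ?_⟩ <;> refine (mul_inv_eq_iff_eq_mul.1 ?_).symm
  · rw [show T.S.t * (p * T.cv (0, 2 * v.2.1, 2 * w.2.2.1, 0)) * T.S.t⁻¹ = (T.S.t * p * T.S.t⁻¹) *
      (T.S.t * T.cv (0, 2 * v.2.1, 2 * w.2.2.1, 0) * T.S.t⁻¹) by group, ev, T.act_t.eq, ← (hc v).eq, mul_assoc,
      ← T.cv_add]
    congr 2
    have := hvm _ rfl
    rw [show ((0, 2 * v.2.1, 2 * w.2.2.1, 0) : V4) = (0, 2 * v.2.1, 0, 0) + (0, 0, 2 * w.2.2.1, 0) by simp]
    rw [show ∀ a b : V4, app tM (a + b) = app tM a + app tM b from fun a b => by simp [app, add_mul]; ring_nf; simp,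
      show app tM (0, 0, 2 * w.2.2.1, 0) = (0, 0, 2 * w.2.2.1, 0) by simp [app, tM], ← add_assoc, add_comm v, this]
  · rw [show T.S.s * (p * T.cv (0, 2 * v.2.1, 2 * w.2.2.1, 0)) * T.S.s⁻¹ = (T.S.s * p * T.S.s⁻¹) *
      (T.S.s * T.cv (0, 2 * v.2.1, 2 * w.2.2.1, 0) * T.S.s⁻¹) by group, ew, T.act_s.eq, ← (hc w).eq, mul_assoc,
      ← T.cv_add]
    congr 2
    exact (show ∀ a : ZMod 3, ∀ v : V4, v = (0, 0, v.2.2.1, 0) →
      v + app sM (0, a, 2 * v.2.2.1, 0) = (0, a, 2 * v.2.2.1, 0) by decide +kernel) _ w hw0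

theorem kappa_mul_Q {p q : G} (hp : p ∈ T.B.Stab) (hq : q ∈ D.Q) (hpq : p * q ∈ T.B.Stab) :
    T.B.k1 ⟨p * q, hpq⟩ = T.B.k1 ⟨p, hp⟩ ∧ T.B.k2 ⟨p * q, hpq⟩ = T.B.k2 ⟨p, hp⟩ := by
  rw [show (⟨p * q, hpq⟩ : T.B.Stab) = ⟨p, hp⟩ * ⟨q, T.B.Q_le_Stab hq⟩ from rfl, T.B.k1_mul, T.B.k1_of_Q hq,
    add_zero, T.B.k2_mul, T.B.k2_of_Q hq, add_zero]
  exact ⟨rfl, rfl⟩

theorem cent_Q1_of {p : G} (hp : p ∈ T.P) (k0 : T.B.k1 ⟨p, T.P_le_Stab hp⟩ = 0) (ht : Commute p T.S.t) :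
    ∀ u ∈ T.S.Q1, Commute p u := by
  have hS := T.P_le_Stab hp
  have ha : Commute p T.B.a1 := T.cv_a1 ▸ T.h.comm_P T.B T.hx hp (T.cv_mem _)
  have hb : ⁅p, T.B.b1⁆ ∈ D.Zc := by
    have := T.B.k1_spec ⟨p, hS⟩
    rwa [k0, zp_zero, inv_one, mul_one] at this
  refine fun u hu => T.B.Q1_pair ha ?_ hu
  refine commutatorElement_eq_one_iff_commute.1 ?_
  set w := ⁅p, T.B.b1⁆ with hw
  set c := T.S.t * T.B.b1 * T.S.t⁻¹ * T.B.b1
  have hc : c ∈ D.Zc := T.S.t_neg _ T.B.hb1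
  have e : T.S.t * w * T.S.t⁻¹ = ⁅p, c * T.B.b1⁻¹⁆ := by
    rw [hw, show T.S.t * ⁅p, T.B.b1⁆ * T.S.t⁻¹ = ⁅T.S.t * p * T.S.t⁻¹, T.S.t * T.B.b1 * T.S.t⁻¹⁆ by
      simp only [commutatorElement_def]; group, ht.symm.eq, mul_inv_cancel_right, mul_inv_cancel_right]
  rw [(D.comm_Zc T.S.t_z hb).eq, mul_inv_cancel_right,
    show ⁅p, c * T.B.b1⁻¹⁆ = ⁅p, c⁆ * (c * ⁅p, T.B.b1⁻¹⁆ * c⁻¹) by simp only [commutatorElement_def]; group,
    commutatorElement_eq_one_iff_commute.2 (D.comm_Zc hS.1 hc), one_mul] at e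
  have hcw : Commute T.B.b1 w := D.comm_Q_Zc T.B.hb1.1 hb
  have e2 : ⁅p, T.B.b1⁻¹⁆ = w⁻¹ := by
    rw [show ⁅p, T.B.b1⁻¹⁆ = T.B.b1⁻¹ * ⁅p, T.B.b1⁆⁻¹ * T.B.b1 by simp only [commutatorElement_def]; group, ← hw,
      hcw.inv_left.inv_right.eq, inv_mul_cancel_right]
  rw [e2, (D.comm_Q_Zc (D.Zc_le hc) (D.Zc.inv_mem hb)).eq, mul_inv_cancel_right] at e
  exact eq_one_of_sq_cube (by nth_rewrite 1 [e]; rw [inv_mul_cancel]) (D.cube_Zc hb)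

theorem cent_Q2_of {p : G} (hp : p ∈ T.P) (k0 : T.B.k2 ⟨p, T.P_le_Stab hp⟩ = 0) (hs : Commute p T.S.s) :
    ∀ u ∈ T.S.Q2, Commute p u := by
  have hp' : p ∈ T.swap.P := by
    show p ∈ centralizer (T.swap.J : Set G)
    rw [T.swap_J]; exact hp
  exact cent_Q1_of (T := T.swap) hp' k0 hs

theorem cent_L_of {p : G} (hz : Commute p D.z) (ht : Commute p T.S.t) (hc : ∀ u ∈ T.S.Q1, Commute p u)
    {l : G} (hl : l ∈ T.S.L) : Commute p l := by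
  have hH : p ∈ T.S.HN := by
    refine T.S.swap.HN_swap (T.S.swap.mem_HN_of hz T.B.ha2 T.B.swap.a1_not_Zc ?_)
    obtain ⟨hQ, hat⟩ := D.mem_fixC.1 T.B.ha2
    exact D.mem_fixC.2 ⟨D.norm_Q p hz _ hQ, (ht.mul_left hat).mul_left ht.inv_left⟩
  have hl' : p * l * p⁻¹ ∈ T.S.L := T.S.conj_L hz ht hl
  have h1 : T.B.matHom ⟨p, hH⟩ = 1 := T.B.matHom_eq_one.2
    ⟨by rw [commutatorElement_eq_one_iff_commute.2 (hc _ T.B.ha1)]; exact D.Zc.one_mem,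
      by rw [commutatorElement_eq_one_iff_commute.2 (hc _ T.B.hb1)]; exact D.Zc.one_mem⟩
  refine mul_inv_eq_iff_eq_mul.1 (T.S.L_inj T.B hl' hl ?_)
  rw [show (⟨p * l * p⁻¹, T.S.L_HN hl'⟩ : T.S.HN) = ⟨p, hH⟩ * ⟨l, T.S.L_HN hl⟩ * ⟨p, hH⟩⁻¹ from rfl, map_mul,
    map_mul, map_inv, h1, one_mul, inv_one, mul_one]

/-- An element with action commuting with the involution can be chosen commuting with it. -/
theorem exists_centralised9 (h : ¬ T.IsThree) {v : G} {m : Cols} (hv : T.Act v m) (e : cmp tM m = cmp m tM) :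
    ∃ w ∈ T.P, T.Act (v * w) m ∧ Commute (v * w) T.S.t := by
  obtain ⟨w, hw⟩ : ∃ w, v⁻¹ * T.S.t * v * T.S.t⁻¹ = w := ⟨_, rfl⟩
  have hd : w ∈ T.P := by
    have h1 := T.act_of_eq (T.act_cmp T.act_t hv) (e ▸ T.act_cmp hv T.act_t)
    have h2 := T.norm_P (inv_mem hv.norm) h1
    rw [← hw]
    convert h2 using 1
    group
  set u := T.S.t
  have hu2 : u * u = 1 := T.S.t_sq
  have h3w : w ^ 3 = 1 := cube_P h hd
  have hui : u⁻¹ = u := inv_eq_of_mul_eq_one_left hu2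
  have e1 : u * v * u⁻¹ = v * w := by rw [← hw]; group
  have huw : u * w * u⁻¹ = w⁻¹ := by
    have e2 : v = u * v * u⁻¹ * (u * w * u⁻¹) := by
      conv_lhs => rw [show v = u * (u * v * u⁻¹) * u⁻¹ by
        rw [show u * (u * v * u⁻¹) * u⁻¹ = (u * u) * v * (u * u)⁻¹ by group, hu2]; group, e1]
      group
    rw [e1, mul_assoc] at e2
    exact eq_inv_of_mul_eq_one_right (mul_eq_left.1 e2.symm)
  refine ⟨w ^ 2, pow_mem hd 2, T.act_of_P (pow_mem hd 2) (pow_mem (P_norm hd) 2) hv,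
    (mul_inv_eq_iff_eq_mul.1 ?_).symm⟩
  rw [show u * (v * w ^ 2) * u⁻¹ = (u * v * u⁻¹) * (u * w * u⁻¹) ^ 2 by rw [conj_pow]; group, e1, huw]
  calc v * w * w⁻¹ ^ 2 = v * (w ^ 3)⁻¹ * w ^ 2 := by group
    _ = v * w ^ 2 := by rw [h3w]; group

theorem exists_k9 (h : ¬ T.IsThree) : ∃ k, T.Act k kM ∧ Commute k T.S.t ∧ k ∈ T.Fix := by
  obtain ⟨a, hqa, ha⟩ := T.exists_u 0 1
  obtain ⟨b, hqb, hb⟩ := T.exists_v 0 2
  have hh := T.act_cmp ha hb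
  rw [word_kM.1] at hh
  obtain ⟨w, hw, h1, h2⟩ := exists_centralised9 h hh word_kM.2
  exact ⟨_, h1, h2, mul_mem (mul_mem (three_mem_Fix h ha.norm ⟨5, D.pow_243 hqa⟩)
    (three_mem_Fix h hb.norm ⟨5, T.D'.pow_243 hqb⟩)) (Stab_le_Fix h (T.P_le_Stab hw))⟩

/-- Translations commuting with the first involution lie in the second half. -/
theorem exists_u_Q2' (h : ¬ T.IsThree) (j : ZMod 3) : ∃ q ∈ T.S.Q2, T.Act q (uM 0 j) := by
  obtain ⟨q, hq, hact⟩ := T.exists_u 0 j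
  obtain ⟨w, hw, -, h2⟩ := exists_centralised9 h hact (word_u j)
  obtain ⟨a, b, hc, -⟩ := fix_in_P h hw
  set c := T.cv (0, a, b, 0)
  have hcQ : c ∈ D.Q := T.cv_zero_Q a b 0
  refine ⟨q * c⁻¹, D.mem_fixC.2 ⟨D.Q.mul_mem hq (D.Q.inv_mem hcQ), ?_⟩,
    T.act_of_P (inv_mem (T.cv_P _)) (inv_mem (le_normalizer (T.cv_mem _))) hact⟩
  have := h2.mul_left hc.inv_left
  rwa [show q * w * (w * c)⁻¹ = q * (w * c⁻¹ * w⁻¹) by group,
    (T.h.comm_P T.B T.hx hw (T.J.inv_mem (T.cv_mem _))).eq, mul_inv_cancel_right] at this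

variable (T)

/-- An element of the centraliser of the plane outside the plane fixed by the stabiliser of the four points. -/
structure Scalar where
  /-- The element. -/
  y : G
  mem : y ∈ T.P
  ct : Commute y T.S.t
  cs : Commute y T.S.s
  k1y : T.B.k1 ⟨y, T.P_le_Stab mem⟩ = T.B.k1 ⟨_, T.hx⟩
  k2y : T.B.k2 ⟨y, T.P_le_Stab mem⟩ = 0
  q2 : ∀ q ∈ T.S.Q2, Commute y q
  gens : ∀ m ∈ gensT, ∃ g ∈ T.H4, Commute g y ∧ T.Act g m

/-- An element acting by the given map and moving the given element by the given vector. -/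
structure Moves (Y g : G) (m : Cols) (v : V4) : Prop where
  act : T.Act g m
  eq : g * Y * g⁻¹ = T.cv v * Y

variable {T}

theorem Moves.mul {Y g g' : G} {m m' : Cols} {v v' : V4} (a : T.Moves Y g m v) (b : T.Moves Y g' m' v') :
    T.Moves Y (g * g') (cmp m m') (v + app m v') := by
  refine ⟨T.act_cmp a.act b.act, ?_⟩
  rw [show g * g' * Y * (g * g')⁻¹ = g * (g' * Y * g'⁻¹) * g⁻¹ by group, b.eq,
    show g * (T.cv v' * Y) * g⁻¹ = (g * T.cv v' * g⁻¹) * (g * Y * g⁻¹) by group, a.act.eq, a.eq, ← mul_assoc,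
    ← T.cv_add, add_comm]

theorem Moves.eq_zero {Y g : G} {m : Cols} {v : V4} (hY : Y ∈ T.P) (a : T.Moves Y g m v) (e : m = cmp sM sM) :
    v = 0 := by
  have h1 := T.act_of_eq (e ▸ a.act) (T.act_cmp T.act_s T.act_s)
  rw [T.S.s_sq, inv_one, mul_one] at h1
  have h2 := a.eq
  rw [(comm_of_P h1 hY).eq, mul_inv_cancel_right] at h2
  exact T.cv_inj (by rw [T.cv_zero]; exact (mul_eq_right.1 h2.symm))

theorem exists_Y0 (h : ¬ T.IsThree) : ∃ Y, ∃ hY : Y ∈ T.P, Commute Y T.S.t ∧ Commute Y T.S.s ∧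
    T.B.k1 ⟨Y, T.P_le_Stab hY⟩ = T.B.k1 ⟨_, T.hx⟩ ∧ T.B.k2 ⟨Y, T.P_le_Stab hY⟩ = 0 := by
  obtain ⟨y, hy, h1, h2⟩ := exists_y h
  set c2 := T.B.k2 ⟨_, T.hx⟩
  set e := T.B.k2 ⟨y, T.P_le_Stab hy⟩
  set n := -c2 * e⁻¹
  have hp : T.x * zp y n ∈ T.P := mul_mem (T.h.J_le_P T.B T.hx (T.h.x_mem_J T.B T.hx)) (zp_mem hy n)
  obtain ⟨a, b, hct, hcs⟩ := fix_in_P h hp
  obtain ⟨e1, e2⟩ := kappa_mul_Q (T.P_le_Stab hp) (T.cv_zero_Q a b 0) (T.P_le_Stab (mul_mem hp (T.cv_P _)))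
  refine ⟨_, mul_mem hp (T.cv_P _), hct, hcs, e1.trans ?_, e2.trans ?_⟩ <;>
    rw [show (⟨_, T.P_le_Stab hp⟩ : T.B.Stab) = ⟨_, T.hx⟩ * ⟨_, zp_mem (T.P_le_Stab hy) n⟩ from rfl]
  · rw [T.B.k1_mul, T.B.k1_zp ⟨y, T.P_le_Stab hy⟩, h1, mul_zero, add_zero]
  · rw [T.B.k2_mul, T.B.k2_zp ⟨y, T.P_le_Stab hy⟩, inv_mul_cancel_right₀ h2, add_neg_cancel]

theorem exists_scalar (h : ¬ T.IsThree) : Nonempty T.Scalar := by
  obtain ⟨Y, hY, ct, cs, e1, e2⟩ := exists_Y0 h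
  have hq2 := cent_Q2_of hY e2 cs
  obtain ⟨k, hk, hkt, hkF⟩ := exists_k9 h
  obtain ⟨q, hq, hqa⟩ := exists_u_Q2' h 1
  obtain ⟨v, hv⟩ := T.exists_cv (hkF.2 Y hY)
  have mk : T.Moves Y k kM v := ⟨hk, by rw [hv, inv_mul_cancel_right]⟩
  have mu : T.Moves Y q (uM 0 1) 0 := ⟨hqa, by rw [(hq2 q hq).symm.eq, mul_inv_cancel_right, T.cv_zero, one_mul]⟩
  have r1 := (mk.mul (mk.mul mk)).eq_zero hY k_cocycle.1
  have r2 := ((mu.mul mk).mul (mu.mul mk)).eq_zero hY k_cocycle.2.1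
  rw [show v + app kM (v + app kM v) = v + app kM v + app kM (app kM v) by
    rw [add_assoc]; congr 1; simp [app, add_mul]; ring_nf; simp] at r1
  rw [zero_add] at r2
  obtain ⟨i, hi⟩ := k_cocycle.2.2 v (T.cv_fixed (hv ▸ ((hkt.mul_left ct).mul_left hkt.inv_left).mul_left ct.inv_left))
    r1 r2
  set c := T.cv (i • (1, 0, 0, 0))
  have hcQ : c ∈ D.Q := by
    rw [show c = T.cv (i, 0, 0, 0) by simp [c]]; exact T.cv_zero_Q 0 0 i
  have hcc : ∀ g, Commute g D.z → Commute g c := fun g hg => by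
    show Commute g (T.cv _)
    rw [T.cv_smul, T.cv_z]
    exact (zp_comm (zp_comm hg.symm T.ε) i).symm
  have hyP : Y * c ∈ T.P := mul_mem hY (T.cv_P _)
  obtain ⟨f1, f2⟩ := kappa_mul_Q (T.P_le_Stab hY) hcQ (T.P_le_Stab hyP)
  have hcommY : ∀ g, Commute g Y → Commute g D.z → Commute g (Y * c) := fun g a b => a.mul_right (hcc g b)
  have ct' : Commute (Y * c) T.S.t := (hcommY _ ct.symm T.S.t_z).symm
  have cs' : Commute (Y * c) T.S.s := (hcommY _ cs.symm T.S.s_z).symm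
  have q2' : ∀ q ∈ T.S.Q2, Commute (Y * c) q := fun q hq =>
    (hcommY _ (hq2 q hq).symm (D.comm_z q hq.1)).symm
  refine ⟨⟨Y * c, hyP, ct', cs', f1.trans e1, f2.trans e2, q2', fun m hm => ?_⟩⟩
  have inH : ∀ {g : G} {m : Cols}, m ∈ gensT → Commute g T.S.t → T.Act g m → g ∈ T.H4 := fun {g m} hm ht ha =>
    T.H4_of_act ht ha (ptsA_closed m hm)
  simp only [gensT, List.mem_cons, List.not_mem_nil, or_false] at hm
  have uu : ∀ j, ∃ g ∈ T.H4, Commute g (Y * c) ∧ T.Act g (uM 0 j) := fun j => by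
    obtain ⟨q, hq, hqa⟩ := exists_u_Q2' h j
    exact ⟨q, T.Q2_le_H4 hq, (q2' q hq).symm, hqa⟩
  rcases hm with rfl | rfl | rfl | rfl
  · exact uu 1
  · exact uu 2
  · refine ⟨k, inH (by simp [gensT]) hkt hk, mul_inv_eq_iff_eq_mul.1 ?_, hk⟩
    have hc : Commute Y c := T.h.comm_P T.B T.hx hY (T.cv_mem _)
    rw [show k * (Y * c) * k⁻¹ = (k * Y * k⁻¹) * (k * c * k⁻¹) by group, mk.eq, hk.eq,
      (T.h.comm_P T.B T.hx hY (T.cv_mem v)).symm.eq, mul_assoc, ← T.cv_add]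
    congr 2
    rw [hi]
    exact (show ∀ i : ZMod 3, i • ((1, 0, 0, 2) : V4) + app kM (i • (1, 0, 0, 0)) = i • (1, 0, 0, 0) by decide +kernel) i
  · exact ⟨_, inH (by simp [gensT]) T.S.st T.act_s, cs'.symm, T.act_s⟩

namespace Scalar

variable (E : T.Scalar)

/-- The quotient of the fixed element by an element of the plane. -/
def d (w : V4) : G := E.y * (T.cv w)⁻¹

theorem y_z : Commute E.y D.z := (T.P_le_Stab E.mem).1

theorem d_P (w : V4) : E.d w ∈ T.P := mul_mem E.mem (inv_mem (T.cv_P w))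

theorem d_t {w : V4} (hw : w.2.1 = 0) : Commute (E.d w) T.S.t := E.ct.mul_left (T.cv_t hw).inv_left

theorem cv_eq (w : V4) : T.cv w = E.y * (E.d w)⁻¹ := by
  rw [d, mul_inv_rev, inv_inv, ← mul_assoc, (T.h.comm_P T.B T.hx E.mem (T.cv_mem w)).eq, mul_inv_cancel_right]

theorem y_not_J : E.y ∉ T.J := fun hm => by
  obtain ⟨l, a1, a2⟩ := T.kappa_J hm
  obtain ⟨hd1, hd2⟩ := T.h.diag T.B T.hx
  rw [E.k1y] at a1
  rw [E.k2y] at a2
  exact hd2 ((mul_eq_zero.1 a2.symm).resolve_left fun e => hd1 (by rw [a1, e, zero_mul]))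

theorem d_not_J (w : V4) : E.d w ∉ T.J := fun hm => E.y_not_J (by
  have := mul_mem hm (T.cv_mem w)
  rwa [d, inv_mul_cancel_right] at this)

theorem d_ptv_cent_Q1 (i j : ZMod 3) (hi : i = 0) : ∀ u ∈ T.S.Q1, Commute (E.d (ptv i j)) u := by
  refine cent_Q1_of (E.d_P _) ?_ (E.d_t hi)
  have hs := T.J_le_Stab (T.cv_mem (ptv i j))
  have e : (⟨E.d (ptv i j), T.P_le_Stab (E.d_P _)⟩ : T.B.Stab) * ⟨_, hs⟩ = ⟨E.y, T.P_le_Stab E.mem⟩ :=
    Subtype.ext (inv_mul_cancel_right E.y (T.cv (ptv i j)))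
  have := congrArg T.B.k1 e
  rw [T.B.k1_mul, (T.kappa_ptv i j).1, E.k1y] at this
  exact add_eq_right.1 this

theorem d_ptv_L (j : ZMod 3) {l : G} (hl : l ∈ T.S.L) : Commute (E.d (ptv 0 j)) l :=
  cent_L_of (T.P_le_Stab (E.d_P _)).1 (E.d_t rfl) (E.d_ptv_cent_Q1 0 j rfl) hl

theorem dz_Q2 : ∀ u ∈ T.S.Q2, Commute (E.d (1, 0, 0, 0)) u := fun u hu => by
  refine (E.q2 u hu).mul_left (Commute.inv_left ?_)
  rw [T.cv_z]
  exact zp_comm (D.comm_z u hu.1).symm _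

theorem conj_d {g : G} (hgy : Commute g E.y) {w w' : V4} (e : g * T.cv w * g⁻¹ = T.cv w') :
    g * E.d w * g⁻¹ = E.d w' := by
  rw [d, d, show g * (E.y * (T.cv w)⁻¹) * g⁻¹ = (g * E.y * g⁻¹) * (g * T.cv w * g⁻¹)⁻¹ by group, e, hgy.eq,
    mul_inv_cancel_right]

theorem d_div (w w' : V4) : (E.d w)⁻¹ * E.d w' = T.cv (w - w') := by
  rw [d, d, show (E.y * (T.cv w)⁻¹)⁻¹ * (E.y * (T.cv w')⁻¹) = T.cv w * (T.cv w')⁻¹ by group, sub_eq_add_neg,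
    T.cv_add, T.cv_inv]

theorem d_cube (h : ¬ T.IsThree) (w : V4) : E.d w ^ 3 = 1 := cube_P h (E.d_P w)

theorem d_sum (h : ¬ T.IsThree) :
    E.d (1, 0, 0, 0) * E.d (0, 0, 0, 1) * E.d (1, 0, 1, 1) * E.d (1, 0, 2, 1) = E.y := by
  have hc : ∀ v, Commute (T.cv v)⁻¹ E.y := fun v => (T.h.comm_P T.B T.hx E.mem (T.cv_mem v)).symm.inv_left
  simp only [d]
  calc _ = E.y * ((T.cv (1, 0, 0, 0))⁻¹ * E.y) * (T.cv (0, 0, 0, 1))⁻¹ * E.y * (T.cv (1, 0, 1, 1))⁻¹ * E.y *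
          (T.cv (1, 0, 2, 1))⁻¹ := by group
    _ = E.y * E.y * ((T.cv (1, 0, 0, 0))⁻¹ * (T.cv (0, 0, 0, 1))⁻¹ * E.y) * (T.cv (1, 0, 1, 1))⁻¹ * E.y *
          (T.cv (1, 0, 2, 1))⁻¹ := by rw [(hc _).eq]; group
    _ = E.y * E.y * E.y * ((T.cv (1, 0, 0, 0))⁻¹ * (T.cv (0, 0, 0, 1))⁻¹ * (T.cv (1, 0, 1, 1))⁻¹ * E.y) *
          (T.cv (1, 0, 2, 1))⁻¹ := by rw [((hc (1, 0, 0, 0)).mul_left (hc (0, 0, 0, 1))).eq]; group
    _ = E.y ^ 3 * E.y * ((T.cv (1, 0, 0, 0))⁻¹ * (T.cv (0, 0, 0, 1))⁻¹ * (T.cv (1, 0, 1, 1))⁻¹ *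
          (T.cv (1, 0, 2, 1))⁻¹) := by
      rw [(((hc (1, 0, 0, 0)).mul_left (hc (0, 0, 0, 1))).mul_left (hc (1, 0, 1, 1))).eq, pow_succ, pow_succ, pow_one]; group
    _ = E.y := by
      rw [cube_P h E.mem, one_mul, T.cv_inv, T.cv_inv, T.cv_inv, T.cv_inv, ← T.cv_add, ← T.cv_add, ← T.cv_add,
        show -((1, 0, 0, 0) : V4) + -(0, 0, 0, 1) + -(1, 0, 1, 1) + -(1, 0, 2, 1) = 0 by decide +kernel, T.cv_zero,
        mul_one]

/-- The pair used for the two lemmas on elements moving the centraliser of the plane. -/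
theorem qp_eq : E.y * (E.d (0, 0, 0, 1))⁻¹ = T.x := by rw [← E.cv_eq, T.cv_x]

include E in
theorem swap_not_Fix (h : ¬ T.IsThree) {c : G} (hc : c ∈ normalizer (T.J : Set G)) (hz : Commute c D.z)
    (h1 : c * T.B.a1 * c⁻¹ ∉ T.S.Q1) : c ∉ T.Fix :=
  Setting.swap_not_Fix h (E.d_P _) E.mem E.qp_eq E.q2 (E.d_ptv_cent_Q1 0 0 rfl) hc hz h1

include E in
theorem inv_not_Fix (h : ¬ T.IsThree) {g : G} (hg : g ∈ normalizer (T.J : Set G)) (ha : Commute g T.B.a2)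
    (hgz : g * D.z * g⁻¹ = D.z⁻¹) : g ∉ T.Fix :=
  Setting.inv_not_Fix h (E.d_P _) E.mem E.qp_eq E.q2 (E.d_ptv_cent_Q1 0 0 rfl) hg ha hgz

include E in
theorem cent_triangle (h : ¬ T.IsThree) {g : G} (hz : Commute g D.z) (hx : Commute g T.x) {i j : ZMod 3}
    (hi : i ≠ 0) (hj : j ≠ 0) (hpt : Commute g (T.cv (ptv i j))) {y : G} (hy : y ∈ T.P) (hyJ : y ∉ T.J)
    (hgy : Commute g y) : g ∈ T.P :=
  Setting.cent_triangle h (E.d_P _) E.mem E.qp_eq E.q2 (E.d_ptv_cent_Q1 0 0 rfl) hz hx hi hj hpt hy hyJ hgy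

include E in
theorem card_P (h : ¬ T.IsThree) : Nat.card T.P = 243 := by
  have hd := E.d_not_J (ptv 0 0)
  have hp := E.d_P (ptv 0 0)
  have h1 : T.B.k1 ⟨_, T.P_le_Stab hp⟩ = 0 := T.k1_of_cent _ (E.d_ptv_cent_Q1 0 0 rfl)
  have h2 : T.B.k2 ⟨_, T.P_le_Stab hp⟩ ≠ 0 := fun e => hd (T.mem_J_of_kappa hp (by
    rw [T.B.kappa_def, h1, e]; rfl))
  let f : T.J × ZMod 3 → T.P := fun p => ⟨p.1 * zp (E.d (ptv 0 0)) p.2, mul_mem (T.J_le_P p.1.2) (zp_mem hp _)⟩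
  have hf : Function.Bijective f := by
    refine ⟨fun p q e => ?_, fun b => ?_⟩
    · have e' : (p.1 : G) * zp (E.d (ptv 0 0)) p.2 = q.1 * zp (E.d (ptv 0 0)) q.2 := congrArg Subtype.val e
      have hj : zp (E.d (ptv 0 0)) (p.2 + -q.2) ∈ T.J := by
        rw [zp_add (E.d_cube h _), ← zp_inv (E.d_cube h _),
          show zp (E.d (ptv 0 0)) p.2 * (zp (E.d (ptv 0 0)) q.2)⁻¹ = (p.1 : G)⁻¹ * q.1 by
            rw [eq_inv_mul_iff_mul_eq, ← mul_assoc, e', mul_inv_cancel_right]]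
        exact mul_mem (inv_mem p.1.2) q.1.2
      have hq : p.2 = q.2 := by
        by_contra hne
        have h3 := zp_mem hj (p.2 + -q.2)⁻¹
        rw [zp_zp (E.d_cube h _), mul_inv_cancel₀ (fun e0 => hne (add_neg_eq_zero.1 e0)), zp_one] at h3
        exact hd h3
      exact Prod.ext (Subtype.ext (mul_right_cancel (hq ▸ e'))) hq
    · obtain ⟨j, hj, m, e⟩ := P_decomp (T := T) (hy := hp) h1 h2 b.2
      exact ⟨(⟨j, hj⟩, m), Subtype.ext e.symm⟩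
  rw [← Nat.card_eq_of_bijective f hf, Nat.card_prod, T.h.card_J T.B T.hx, Nat.card_zmod]

/-- An element realising the exchange of the first two points. -/
theorem exists_14 : ∃ g ∈ T.H4, Commute g E.y ∧ T.Act g m14 := by
  obtain ⟨k, hk, hky, hka⟩ := E.gens kM (by simp [gensT])
  obtain ⟨u, hu, huy, hua⟩ := E.gens (uM 0 1) (by simp [gensT])
  obtain ⟨s, hs, hsy, hsa⟩ := E.gens sM (by simp [gensT])
  exact ⟨k * (u * s), mul_mem hk (mul_mem hu hs), hky.mul_left (huy.mul_left hsy),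
    word_m14.1 ▸ T.act_cmp hka (T.act_cmp hua hsa)⟩

theorem exists_pt {w : V4} (hw : w ∈ ptsA) :
    ∃ g ∈ T.H4, Commute g E.y ∧ g * T.cv (1, 0, 0, 0) * g⁻¹ = T.cv w := by
  obtain ⟨g, hg, -, e⟩ := exists_of_orb (T := T) (H := T.H4 ⊓ centralizer ({E.y} : Set G)) (gs := gensT)
    (fun m hm => by
      obtain ⟨g, a, b, c⟩ := E.gens m hm
      exact ⟨g, ⟨a, mem_centralizer_singleton_iff.2 b⟩, c⟩) (1, 0, 0, 0) 2 w (ptsA_facts.1 w hw)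
  exact ⟨g, hg.1, mem_centralizer_singleton_iff.1 hg.2, e⟩

end Scalar

end Setting

end Cfsg.Lib.U6Three
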