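import Cfsg.Agent.Lib.U6ThreeNine.Swap

/-!
# The twisted frame on the normaliser of the product of the four quaternion groups
-/

set_option autoImplicit false
set_option linter.unusedSectionVars false
set_option maxRecDepth 20000

namespace Cfsg.Lib.U6ThreeNine

open Cfsg.Lib.U6Three Cfsg.Lib.U62Type Cfsg.Lib.U6ThreeEnd
open Subgroup
open scoped commutatorElement

theorem code_values : omC < 2 ^ 64 ∧ dC 3 = reflC ∧ cm (dC 2) (dC 3) = pairC ∧
    cm (cm omC (cm (dC 0) (dC 0))) (cm omC (cm (dC 1) (dC 1))) = nC := by decide +kernel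

/-- Two elements of order three congruent modulo a group of order `2⁹` are conjugate under it. -/
theorem exists_conj_cong {G : Type*} [Group G] [Finite G] {R : Subgroup G} (hR : Nat.card R = 2 ^ 9) {x x' : G}
    (hn : ∀ r ∈ R, x * r * x⁻¹ ∈ R) (hx : x ^ 3 = 1) (hx' : x' ^ 3 = 1) (hd : x' * x⁻¹ ∈ R) :
    ∃ a ∈ R, x' = a * x * a⁻¹ := by
  classical
  have hmem : ∀ a ∈ R, x' * a * x⁻¹ ∈ R := fun a ha => by
    rw [show x' * a * x⁻¹ = x' * x⁻¹ * (x * a * x⁻¹) by group]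
    exact mul_mem hd (hn a ha)
  let f : R → R := fun a => ⟨x' * a * x⁻¹, hmem a a.2⟩
  have hf : ∀ a, f (f (f a)) = a := fun a => Subtype.ext (by
    show x' * (x' * (x' * a * x⁻¹) * x⁻¹) * x⁻¹ = a
    rw [show x' * (x' * (x' * a * x⁻¹) * x⁻¹) * x⁻¹ = x' ^ 3 * a * (x ^ 3)⁻¹ by simp [pow_succ, mul_assoc],
      hx, hx', one_mul, inv_one, mul_one])
  let σ : Equiv.Perm R := ⟨f, fun a => f (f a), hf, hf⟩
  have hσ : σ ^ 3 ^ 1 = 1 := Equiv.ext fun a => by
    simp only [pow_succ, pow_zero, one_mul, Equiv.Perm.mul_apply, Equiv.Perm.one_apply]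
    exact hf a
  have : Fact (Nat.Prime 3) := ⟨Nat.prime_three⟩
  let : Fintype R := Fintype.ofFinite _
  obtain ⟨a, ha⟩ := Equiv.Perm.exists_fixed_point_of_prime (p := 3) (n := 1)
    (by rw [← Nat.card_eq_fintype_card, hR]; norm_num) hσ
  refine ⟨a, a.2, ?_⟩
  have e : x' * a * x⁻¹ = a := congrArg Subtype.val ha
  calc x' = x' * a * x⁻¹ * x * (a : G)⁻¹ := by group
    _ = a * x * (a : G)⁻¹ := by rw [e]

variable {G : Type*} [Group G] [Finite G] {D : Data G} {T : Setting D} {E : T.Scalar}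

/-- The scalar is not conjugate to an element of the plane. -/
theorem y_not_conj (h : ¬ T.IsThree) {g j : G} (hj : j ∈ T.J) : g * E.y * g⁻¹ ≠ j := by
  intro e
  have : Fact (Nat.Prime 3) := ⟨Nat.prime_three⟩
  obtain ⟨C, hC⟩ : ∃ C, C = centralizer ({j} : Set G) := ⟨_, rfl⟩
  have hp : IsPGroup 3 T.J := T.B.Stab_pgroup.to_le T.J_le_Stab
  have h1 : T.J ≤ C := fun w hw => hC ▸ mem_centralizer_singleton_iff.2
    (Setting.comm_of_P (T.J_le_P hw) (T.J_le_P hj)).eq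
  have h2 : T.J.map (MulAut.conj g).toMonoidHom ≤ C := by
    rintro _ ⟨w, hw, rfl⟩
    rw [hC, mem_centralizer_singleton_iff, ← e]
    exact ((Commute.conj_iff g).2 (Setting.comm_of_P (T.J_le_P hw) E.mem)).eq
  obtain ⟨S1, hS1⟩ := (hp.of_equiv (subgroupOfEquivOfLe h1).symm).exists_le_sylow
  obtain ⟨S2, hS2⟩ := ((hp.map (MulAut.conj g).toMonoidHom).of_equiv (subgroupOfEquivOfLe h2).symm).exists_le_sylow
  obtain ⟨c, hc⟩ := MulAction.exists_smul_eq C S2 S1
  obtain ⟨S3, hS3⟩ := (S1.2.map C.subtype).exists_le_sylow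
  obtain ⟨S0, hS0⟩ := T.exists_sylow
  obtain ⟨d, hd⟩ := MulAction.exists_smul_eq G S3 S0
  have hin : ∀ u ∈ (S3 : Subgroup G), d * u * d⁻¹ ∈ T.B.Stab := fun u hu => by
    rw [← hS0, ← hd]
    exact ⟨u, hu, rfl⟩
  have hdn : d ∈ normalizer (T.J : Set G) :=
    T.weakly_closed fun w hw => hin w (hS3 ⟨⟨w, h1 hw⟩, hS1 (mem_subgroupOf.2 hw), rfl⟩)
  have hcn : d * (c : G) * g ∈ normalizer (T.J : Set G) := by
    refine T.weakly_closed fun w hw => ?_
    have hw' : g * w * g⁻¹ ∈ T.J.map (MulAut.conj g).toMonoidHom := ⟨w, hw, rfl⟩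
    have h3 : (⟨(c : G) * (g * w * g⁻¹) * (c : G)⁻¹, mul_mem (mul_mem c.2 (h2 hw')) (inv_mem c.2)⟩ : C) ∈
        (S1 : Subgroup C) := by
      rw [← hc]
      exact ⟨⟨_, h2 hw'⟩, hS2 (mem_subgroupOf.2 hw'), rfl⟩
    rw [show d * (c : G) * g * w * (d * (c : G) * g)⁻¹ = d * ((c : G) * (g * w * g⁻¹) * (c : G)⁻¹) * d⁻¹ by group]
    exact hin _ (hS3 ⟨_, h3, rfl⟩)
  refine E.y_not_J ((mem_normalizer_iff.1 hcn _).2 ?_)
  have hcj : (c : G) * j * (c : G)⁻¹ = j := by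
    have h' : (c : G) * j = j * (c : G) := mem_centralizer_singleton_iff.1 (hC ▸ c.2)
    rw [h', mul_inv_cancel_right]
  rw [show d * (c : G) * g * E.y * (d * (c : G) * g)⁻¹ = d * ((c : G) * (g * E.y * g⁻¹) * (c : G)⁻¹) * d⁻¹ by group,
    e, hcj]
  exact (mem_normalizer_iff.1 hdn _).1 hj

namespace Base

variable (B : Base E) (h : ¬ T.IsThree) (hl : E.Local)
include h hl

theorem κ_cv {k : ℕ} (hk : k < 4) :
    T.cv (pts k) ∈ B.NR ∧ B.κ (T.cv (pts k)) = cm omC (cm (dC k) (dC k)) := by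
  have e2 : (E.d (pts k))⁻¹ = E.d (pts k) * E.d (pts k) := inv_eq_of_mul_eq_one_right (by
    have := E.d_cube h (pts k)
    rwa [pow_three] at this)
  have e : T.cv (pts k) = E.y * (E.d (pts k) * E.d (pts k)) := e2 ▸ E.cv_eq (pts k)
  rw [e, B.κ_mul h hl B.y_NR (mul_mem (B.d_NR hk) (B.d_NR hk)), B.κ_mul h hl (B.d_NR hk) (B.d_NR hk),
    B.κ_y h hl, B.κ_d h hl hk]
  exact ⟨mul_mem B.y_NR (mul_mem (B.d_NR hk) (B.d_NR hk)), rfl⟩

theorem nconj {x : G} (hx : x ∈ B.NR) : B.κ (x * E.y * x⁻¹) ≠ nC := by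
  intro e
  obtain ⟨n0, e0⟩ := B.κ_cv h hl (k := 0) (by norm_num)
  obtain ⟨n1, e1⟩ := B.κ_cv h hl (k := 1) (by norm_num)
  obtain ⟨j, hj⟩ : ∃ j, j = T.cv (pts 0) * T.cv (pts 1) := ⟨_, rfl⟩
  have hjN : j ∈ B.NR := hj ▸ mul_mem n0 n1
  have hjJ : j ∈ T.J := hj ▸ mul_mem (T.cv_mem _) (T.cv_mem _)
  have hjκ : B.κ j = nC := by rw [hj, B.κ_mul h hl n0 n1, e0, e1, code_values.2.2.2]
  have hyN : x * E.y * x⁻¹ ∈ B.NR := mul_mem (mul_mem hx B.y_NR) (inv_mem hx)
  have hd : j⁻¹ * (x * E.y * x⁻¹) ∈ T.Rt := by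
    refine B.ker h hl (mul_mem (inv_mem hjN) hyN) ?_
    rw [B.κ_mul h hl (inv_mem hjN) hyN, e, ← hjκ, ← B.κ_mul h hl (inv_mem hjN) hjN, inv_mul_cancel, B.κ_one h hl]
  have hd' : x * E.y * x⁻¹ * j⁻¹ ∈ T.Rt := by
    have := B.conj_mem hjN hd
    rwa [show j * (j⁻¹ * (x * E.y * x⁻¹)) * j⁻¹ = x * E.y * x⁻¹ * j⁻¹ by group] at this
  obtain ⟨a, -, ea⟩ := exists_conj_cong hl.card (fun r hr => B.conj_mem hjN hr) (T.cube_J hjJ)
    (by rw [conj_pow, Setting.cube_P h E.mem, mul_one, mul_inv_cancel]) hd'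
  refine y_not_conj (E := E) h hjJ (g := a⁻¹ * x) ?_
  rw [show a⁻¹ * x * E.y * (a⁻¹ * x)⁻¹ = a⁻¹ * (x * E.y * x⁻¹) * a by group, ea]
  group

end Base

/-- The twisted frame. -/
theorem exists_tw (h : ¬ T.IsThree) (E : T.Scalar) (hl : E.Local) (N : Subgroup G)
    (hN : N = centralizer ({T.S.t} : Set G) ⊓ normalizer (T.Rt : Set G)) :
    ∃ W : Tw N, (W.z : G) = T.S.t ∧ W.F.J = T.Rt.subgroupOf N ∧ (W.y : G) = E.y ∧ (W.p : G) ∈ T.P ∧
      (W.p : G) ∉ T.J := by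
  classical
  obtain ⟨B⟩ := exists_base h E hl
  have hNB : ∀ x, x ∈ N ↔ x ∈ B.NR := fun x => by rw [hN]; exact Iff.rfl
  have hnb : ∀ x : N, (x : G) ∈ B.NR := fun x => (hNB x).1 x.2
  have hRN : T.Rt ≤ N := fun r hr => (hNB r).2
    (B.mem_NR.2 ⟨(hl.block.comm r hr).symm, le_normalizer hr⟩)
  let z : N := ⟨T.S.t, hRN hl.block.mem⟩
  have hcz : ∀ x : N, Commute x z := fun x => Subtype.ext (B.mem_NR.1 (hnb x)).1.eq
  have hgen : ∀ i < 4, ∃ x : N, B.κ x = gensU.getD i 0 := fun i hi => by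
    obtain ⟨x, hx, -, e⟩ := B.real_gens h hl i hi
    exact ⟨⟨x, (hNB x).2 hx⟩, e⟩
  have hext : Ext z (T.Rt.subgroupOf N) :=
    { z2 := Subtype.ext T.S.t_sq
      z1 := fun e => t_ne_one (congrArg Subtype.val e)
      zJ := hl.block.mem
      cz := fun j _ => hcz j
      card := by rw [Nat.card_congr (subgroupOfEquivOfLe hRN).toEquiv, hl.card]; norm_num
      norm := fun x _ j hj => mem_subgroupOf.2 (B.conj_mem (hnb x) (mem_subgroupOf.1 hj))
      zc := fun j hj hc => (hl.block.cen _ (mem_subgroupOf.1 hj) fun r hr =>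
          congrArg Subtype.val (hc ⟨r, hRN hr⟩ (mem_subgroupOf.2 hr)).eq).imp
        (fun e => Subtype.ext e) fun e => Subtype.ext e
      sq := fun j hj => (hl.block.sq _ (mem_subgroupOf.1 hj)).imp (fun e => Subtype.ext e) fun e => Subtype.ext e
      cmt := fun j hj k hk => (B.ext_facts h hl _ (mem_subgroupOf.1 hj) _ (mem_subgroupOf.1 hk)).imp
        (fun e => Subtype.ext e) fun e => Subtype.ext e
      self := fun x _ hc => mem_subgroupOf.2 (hl.self _ (B.mem_NR.1 (hnb x)).1 fun r hr =>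
        congrArg Subtype.val (hc ⟨r, hRN hr⟩ (mem_subgroupOf.2 hr)).eq) }
  let F : Frame cfgU z :=
    { J := T.Rt.subgroupOf N
      ext := hext
      vc := fun x => B.vc x
      κ := fun x => B.κ x
      std := List.mem_cons_self
      vc_lt := fun x => B.vc_lt _
      vc_mul := fun j hj k hk => B.vc_mul h hl (mem_subgroupOf.1 hj) (mem_subgroupOf.1 hk)
      vc_zero := fun j hj e => (B.vc_zero h hl (mem_subgroupOf.1 hj) e).imp
        (fun e => Subtype.ext e) fun e => Subtype.ext e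
      vc_z := B.vc_t h hl
      vc_surj := fun v hv => ⟨⟨B.rp v, hRN (B.rp_mem v)⟩, mem_subgroupOf.2 (B.rp_mem v), B.vc_rp h hl hv⟩
      sq := fun j hj => Subtype.ext (by
        rw [Subgroup.coe_mul, B.vc_sq h hl (mem_subgroupOf.1 hj)]
        show (if qU (B.vc (j : G)) = 1 then T.S.t else 1) = ((if qU (B.vc (j : G)) = 1 then z else 1 : N) : G)
        split <;> rfl)
      κ_lt := fun x => B.κ_lt _
      act := fun x _ j hj => B.act h hl (hnb x) (mem_subgroupOf.1 hj)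
      gens := fun i hi => by
        obtain ⟨x, hx⟩ := hgen i hi
        exact ⟨x, hcz x, hx⟩
      ker := fun x _ e => mem_subgroupOf.2 (B.ker h hl (hnb x) e) }
  have hmul : ∀ a b : N, F.κ (a * b) = cm (F.κ a) (F.κ b) := fun a b => B.κ_mul h hl (hnb a) (hnb b)
  have hone : F.κ 1 = idc := B.κ_one h hl
  have hlift : ∀ w : List ℕ, (∀ i ∈ w, i < 4) → ∃ x : N, F.κ x = cw gensU w := by
    intro w
    induction w with
    | nil => exact fun _ => ⟨1, by rw [hone, cw_nil]⟩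
    | cons a w ih =>
      intro hw
      obtain ⟨x, hx⟩ := hgen a (hw a List.mem_cons_self)
      obtain ⟨y, hy⟩ := ih fun i hi => hw i (List.mem_cons_of_mem _ hi)
      exact ⟨x * y, by rw [hmul, hy, cw_cons]; exact congrArg (cm · (cw gensU w)) hx⟩
  let I : Subgroup N :=
    { carrier := {x | WordCode gensU (F.κ x)}
      one_mem' := by show WordCode gensU (F.κ 1); rw [hone]; exact wordCode_idc _
      mul_mem' := fun {a b} ha hb => by show WordCode gensU (F.κ (a * b)); rw [hmul]; exact ha.mul hb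
      inv_mem' := fun {a} ha => by
        obtain ⟨w, hw, e⟩ := ha
        obtain ⟨h1, -, h3⟩ := inv_word w hw
        refine ⟨_, h1, ?_⟩
        calc F.κ a⁻¹ = cm (F.κ a⁻¹) (cm (cw gensU w) (cw gensU (iW w))) := by rw [h3, cm_idc (F.κ_lt _)]
          _ = cw gensU (iW w) := by rw [← cm_assoc, ← e, ← hmul, inv_mul_cancel, hone, idc_cm (cw_lt _ _)] }
  have hJI : F.J ≤ I := fun j hj => by
    show WordCode gensU (F.κ j)
    have : F.κ j = idc := code_ext (F.κ_lt _) (by decide +kernel) fun v hv => by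
      obtain ⟨k, hk, rfl⟩ := F.vc_surj v hv
      rw [← F.act j (hcz j) k hk, ap_idc hv]
      rcases F.ext.cmt j hj k hk with e | e
      · rw [mul_inv_eq_one.1 e]
      · rw [mul_inv_eq_iff_eq_mul.1 e, F.vc_mul z F.ext.zJ k hk, F.vc_z, Nat.zero_xor]
    rw [this]; exact wordCode_idc _
  have hcard : Nat.card I = 512 * 25920 := by
    obtain ⟨f, hf, hfw, hfs⟩ := word_param
    choose L hL using fun q => (by obtain ⟨w, hw, e⟩ := hfw q; exact (hlift w hw).imp fun x hx => hx.trans e.symm :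
      ∃ x : N, F.κ x = f q)
    have hk : ∀ q (j : F.J), F.κ (L q * j) = f q := fun q j => by
      rw [hmul, hL]
      have : F.κ (j : N) = idc := code_ext (F.κ_lt _) (by decide +kernel) fun v hv => by
        obtain ⟨k, hk, rfl⟩ := F.vc_surj v hv
        rw [← F.act j (hcz j) k hk, ap_idc hv]
        rcases F.ext.cmt j j.2 k hk with e | e
        · rw [mul_inv_eq_one.1 e]
        · rw [mul_inv_eq_iff_eq_mul.1 e, F.vc_mul z F.ext.zJ k hk, F.vc_z, Nat.zero_xor]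
      rw [this, cm_idc (hL q ▸ F.κ_lt _)]
    let φ : (Fin 120 × Fin 36 × Fin 6) × F.J → I := fun p =>
      ⟨L p.1 * p.2, show WordCode gensU (F.κ (L p.1 * p.2)) by rw [hk]; exact hfw _⟩
    have hbij : Function.Bijective φ := by
      refine ⟨fun p q e => ?_, fun x => ?_⟩
      · have e' : L p.1 * (p.2 : N) = L q.1 * q.2 := congrArg Subtype.val e
        have h1 : p.1 = q.1 := hf (by rw [← hk p.1 p.2, e', hk])
        rw [h1] at e'
        exact Prod.ext h1 (Subtype.ext (mul_left_cancel e'))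
      · obtain ⟨q, hq⟩ := hfs _ x.2
        have hker : (L q)⁻¹ * (x : N) ∈ F.J := by
          refine F.ker _ (hcz _) ?_
          rw [hmul, ← hq, ← hL, ← hmul, inv_mul_cancel, hone]
        exact ⟨(q, ⟨_, hker⟩), Subtype.ext (mul_inv_cancel_left _ _)⟩
    rw [← Nat.card_congr (Equiv.ofBijective φ hbij), Nat.card_prod, Nat.card_prod, Nat.card_prod, F.ext.card]
    simp
  have hgensI : ∀ i < 4, ∃ x ∈ I, F.κ x = gensU.getD i 0 := fun i hi => by
    obtain ⟨x, hx⟩ := hgen i hi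
    refine ⟨x, ?_, hx⟩
    show WordCode gensU (F.κ x)
    rw [show F.κ x = gensU.getD i 0 from hx]
    exact wordCode_gen (C := cfgU) List.mem_cons_self hi
  have d2 := B.d_NR (k := 2) (by norm_num)
  have d3 := B.d_NR (k := 3) (by norm_num)
  let W : Tw N :=
    { z := z, F := F, central := hcz, I := I, hJI := hJI, gens := hgensI, cardI := hcard
      y := ⟨E.y, (hNB _).2 B.y_NR⟩
      y3 := Subtype.ext (Setting.cube_P h E.mem)
      y_code := B.κ_y h hl
      p := ⟨E.d (pts 2) * E.d (pts 3), (hNB _).2 (mul_mem d2 d3)⟩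
      p3 := Subtype.ext (Setting.cube_P h (mul_mem (E.d_P _) (E.d_P _)))
      p_code := (B.κ_mul h hl d2 d3).trans (by
        rw [B.κ_d h hl (by norm_num), B.κ_d h hl (by norm_num)]; exact code_values.2.2.1)
      e := ⟨E.d (pts 3), (hNB _).2 d3⟩
      e3 := Subtype.ext (E.d_cube h _)
      e_code := (B.κ_d h hl (by norm_num)).trans code_values.2.1
      nconj := fun g => B.nconj h hl (hnb g) }
  refine ⟨W, rfl, rfl, rfl, mul_mem (E.d_P _) (E.d_P _), fun hp => E.y_not_J ?_⟩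
  have e2 : E.d (pts 2) * E.d (pts 3) = E.y * E.y * ((T.cv (pts 2))⁻¹ * (T.cv (pts 3))⁻¹) := by
    have hc : Commute (T.cv (pts 2))⁻¹ E.y := (Setting.comm_of_P E.mem (T.cv_P _)).symm.inv_left
    show E.y * (T.cv (pts 2))⁻¹ * (E.y * (T.cv (pts 3))⁻¹) = _
    calc _ = E.y * ((T.cv (pts 2))⁻¹ * E.y) * (T.cv (pts 3))⁻¹ := by group
      _ = _ := by rw [hc.eq]; group
  have hyy : E.y * E.y ∈ T.J := by
    have h2 : E.d (pts 2) * E.d (pts 3) ∈ T.J := hp
    rw [e2] at h2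
    have := mul_mem h2 (inv_mem (mul_mem (inv_mem (T.cv_mem (pts 2))) (inv_mem (T.cv_mem (pts 3)))))
    rwa [mul_inv_cancel_right] at this
  have := mul_mem hyy hyy
  rwa [show E.y * E.y * (E.y * E.y) = E.y ^ 3 * E.y by simp [pow_succ, mul_assoc], Setting.cube_P h E.mem,
    one_mul] at this

end Cfsg.Lib.U6ThreeNine
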