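import Cfsg.Agent.Lib.U6ThreeNine.BadMain
import Cfsg.Agent.Lib.U6ThreeNine.Comm

/-!
# The product of the four quaternion groups is the maximal signalizer: the case of a Sylow subgroup of order `3⁷`
-/

set_option autoImplicit false
set_option linter.unusedSectionVars false
set_option linter.style.haveILetI false
set_option synthInstance.maxSize 4000
set_option maxRecDepth 8000

namespace Cfsg.Lib.U6Three

open Subgroup
open scoped commutatorElement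

theorem four_split : ∀ a b c d : ZMod 3, a + b + c + d - a ≠ 0 → a + b + c + d - b ≠ 0 → a + b + c + d - c ≠ 0 →
    a + b + c + d - d ≠ 0 → (a = b ∧ c = d) ∨ (a = c ∧ b = d) ∨ (a = d ∧ b = c) := by decide +kernel

theorem split_moves :
    app kM ((1, 0, 0, 0) - (1, 0, 1, 1)) = (0, 0, 0, 1) - (1, 0, 0, 0) ∧
    app kM ((0, 0, 0, 1) - (1, 0, 2, 1)) = (1, 0, 1, 1) - (1, 0, 2, 1) ∧
    app (cmp kM kM) ((1, 0, 0, 0) - (1, 0, 2, 1)) = (1, 0, 1, 1) - (1, 0, 2, 1) ∧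
    app (cmp kM kM) ((0, 0, 0, 1) - (1, 0, 1, 1)) = (1, 0, 0, 0) - (0, 0, 0, 1) ∧
    ((0, 0, 0, 1) : V4) - (1, 0, 0, 0) = (2, 0, 0, 1) ∧ -(((1, 0, 0, 0) : V4) - (0, 0, 0, 1)) = (2, 0, 0, 1) ∧
    -(((1, 0, 1, 1) : V4) - (1, 0, 2, 1)) = (0, 0, 1, 0) := by decide +kernel

theorem pts_A : ∀ w ∈ ptsA, w.2.1 = 0 := by decide +kernel

namespace Setting

variable {G : Type*} [Group G] [Finite G] {D : Data G} {T : Setting D}

namespace Scalar

variable (E : T.Scalar)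
include E

theorem conj_inv_hyp {U : Subgroup G} (hUn : ∀ p ∈ T.P, Commute p T.S.t → p ∈ normalizer (U : Set G)) {g : G}
    (hgJ : g ∈ normalizer (T.J : Set G)) (hgt : Commute g T.S.t) :
    ∀ p ∈ T.P, Commute p T.S.t → p ∈ normalizer ((U.map (MulAut.conj g).toMonoidHom : Subgroup G) : Set G) := by
  intro p hp hpt
  refine mem_normalizer_set ?_
  rintro _ ⟨w, hw, rfl⟩
  refine ⟨g⁻¹ * p * g * w * (g⁻¹ * p * g)⁻¹, (mem_normalizer_iff.1 (hUn _ ?_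
    ((hgt.inv_left.mul_left hpt).mul_left hgt)) w).1 hw, ?_⟩
  · have := T.norm_P (inv_mem hgJ) hp
    rwa [inv_inv] at this
  · show g * (g⁻¹ * p * g * w * (g⁻¹ * p * g)⁻¹) * g⁻¹ = p * (g * w * g⁻¹) * p⁻¹
    group

theorem map_conj_comm {U : Subgroup G} (hUt : ∀ u ∈ U, Commute u T.S.t) {g : G} (hgt : Commute g T.S.t) :
    ∀ u ∈ U.map (MulAut.conj g).toMonoidHom, Commute u T.S.t := by
  rintro _ ⟨w, hw, rfl⟩
  exact (hgt.mul_left (hUt w hw)).mul_left hgt.inv_left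

/-- Elements of an invariant subgroup centralising one of the four points lie in the product. -/
theorem pt_mem_Rt {U : Subgroup G} (hU : (Nat.card U).Coprime 3) (hUt : ∀ u ∈ U, Commute u T.S.t)
    (hUn : ∀ p ∈ T.P, Commute p T.S.t → p ∈ normalizer (U : Set G)) {w : V4} (hw : w ∈ ptsA) {u : G} (hu : u ∈ U)
    (huw : Commute u (T.cv w)) : u ∈ T.Rt := by
  obtain ⟨g, hg, -, e⟩ := E.exists_pt hw
  obtain ⟨hgt, hgJ, -⟩ := T.mem_H4.1 hg
  have hz : Commute (g⁻¹ * u * g) D.z := commute_zp_z T.ε_ne (by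
    rw [← T.cv_z]
    rw [← e] at huw
    simpa [mul_assoc] using huw.map (MulAut.conj g⁻¹).toMonoidHom)
  have ha2 : T.B.a2 ∈ T.P := T.cv_a2 ▸ T.cv_P _
  have hL := T.fix_in_L (U := U.map (MulAut.conj g⁻¹).toMonoidHom)
    (by rw [card_map_of_injective (MulAut.conj g⁻¹).injective]; exact hU) (E.map_conj_comm hUt hgt.inv_left)
    (E.conj_inv_hyp hUn (inv_mem hgJ) hgt.inv_left _ ha2 (D.mem_fixC.1 T.B.ha2).2)
    ⟨u, hu, by simp [mul_assoc]⟩ hz
  have := T.H4_conj_Rt hg (T.L_le_Rt hL)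
  rwa [show g * (g⁻¹ * u * g) * g⁻¹ = u by group] at this

/-- The product contains every invariant subgroup of order prime to three. -/
theorem le_Rt (h : ¬ T.IsThree) {U : Subgroup G} (hU : (Nat.card U).Coprime 3) (hUt : ∀ u ∈ U, Commute u T.S.t)
    (hUn : ∀ p ∈ T.P, Commute p T.S.t → p ∈ normalizer (U : Set G)) : U ≤ T.Rt := by
  classical
  set A : Subgroup G := T.P ⊓ centralizer ({T.S.t} : Set G) with hA
  have hAmem : ∀ {p}, p ∈ A ↔ p ∈ T.P ∧ Commute p T.S.t := fun {p} =>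
    Subgroup.mem_inf.trans (and_congr Iff.rfl mem_centralizer_singleton_iff)
  haveI : IsMulCommutative A := ⟨⟨fun a b => Subtype.ext (comm_of_P (hAmem.1 a.2).1 (hAmem.1 b.2).1).eq⟩⟩
  have hcop : (Nat.card A).Coprime (Nat.card U) := by
    have h243 : Nat.card A ∣ 3 ^ 5 := by
      rw [show (3 : ℕ) ^ 5 = 243 by norm_num, ← E.card_P h]; exact card_dvd_of_le inf_le_left
    exact Nat.Coprime.coprime_dvd_left h243 (hU.symm.pow_left 5)
  refine (Cfsg.Lib.Coprime.le_iSup_centralizer_cocyclic U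
    (fun p hp => hUn p (hAmem.1 hp).1 (hAmem.1 hp).2) hcop).trans (iSup₂_le fun Bc hBc => ?_)
  obtain ⟨hBA, c, hcA, hsup⟩ := hBc
  intro u hu
  obtain ⟨huU, huB⟩ := Subgroup.mem_inf.1 hu
  have hub : ∀ b ∈ Bc, Commute u b := fun b hb => (mem_centralizer_iff.1 huB b hb).symm
  obtain ⟨hcP, hct⟩ := hAmem.1 hcA
  have hc3 := cube_P h hcP
  -- exponents modulo the hyperplane
  have hdec : ∀ p ∈ A, ∃ m : ZMod 3, p * (zp c m)⁻¹ ∈ Bc := by
    intro p hp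
    have hn : zpowers c ≤ normalizer (Bc : Set G) := zpowers_le.2 (mem_normalizer_set fun b hb => by
      rw [(comm_of_P hcP (hAmem.1 (hBA hb)).1).eq, mul_inv_cancel_right]; exact hb)
    rw [← hsup, ← SetLike.mem_coe, coe_mul_of_right_le_normalizer_left _ _ hn] at hp
    obtain ⟨b, hb, d, hd, rfl⟩ := hp
    obtain ⟨n, rfl⟩ := mem_powers_iff_mem_zpowers.2 hd
    exact ⟨(n : ZMod 3), by rw [zp_nat hc3]; simpa using hb⟩
  have hptA : ∀ w ∈ ptsA, T.cv w ∈ A := fun w hw => hAmem.2 ⟨T.cv_P w, T.cv_t (pts_A w hw)⟩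
  by_cases hcB : c ∈ Bc
  · obtain ⟨m, hm⟩ := hdec _ (hptA (1, 0, 0, 0) (by simp [ptsA]))
    have hz := mul_mem hm (zp_mem hcB m)
    rw [inv_mul_cancel_right] at hz
    exact E.pt_mem_Rt hU hUt hUn (w := (1, 0, 0, 0)) (by simp [ptsA]) huU (hub _ hz)
  choose! m hm using hdec
  have huniq : ∀ {p : G}, p ∈ A → ∀ {n : ZMod 3}, p * (zp c n)⁻¹ ∈ Bc → m p = n := by
    intro p hp n hn
    by_contra hne
    refine hcB ?_
    have h1 := mul_mem (inv_mem (hm p hp)) hn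
    rw [show (p * (zp c (m p))⁻¹)⁻¹ * (p * (zp c n)⁻¹) = zp c (m p) * (zp c n)⁻¹ by group, zp_inv hc3,
      ← zp_add hc3] at h1
    have h2 := zp_mem h1 (m p + -n)⁻¹
    rwa [zp_zp hc3, mul_inv_cancel₀ (fun e0 => hne (add_neg_eq_zero.1 e0)), zp_one] at h2
  have hadd : ∀ {p q : G}, p ∈ A → q ∈ A → m (p * q) = m p + m q := fun {p q} hp hq => huniq (mul_mem hp hq) (by
    have e : p * q * (zp c (m p + m q))⁻¹ = p * (zp c (m p))⁻¹ * (q * (zp c (m q))⁻¹) := by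
      rw [zp_add hc3, mul_inv_rev, show p * (zp c (m p))⁻¹ * (q * (zp c (m q))⁻¹) =
        p * ((zp c (m p))⁻¹ * q) * (zp c (m q))⁻¹ by group,
        (zp_comm (comm_of_P hcP (hAmem.1 hq).1) (m p)).inv_left.eq,
        show p * q * ((zp c (m q))⁻¹ * (zp c (m p))⁻¹) = p * q * ((zp c (m p))⁻¹ * (zp c (m q))⁻¹) by
          rw [((zp_comm (zp_comm (Commute.refl c) (m p)).symm (m q)).inv_inv).eq]]
      group
    rw [e]; exact mul_mem (hm p hp) (hm q hq))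
  have hdA : ∀ w ∈ ptsA, E.d w ∈ A := fun w hw => hAmem.2 ⟨E.d_P w, E.d_t (pts_A w hw)⟩
  have w1 : ((1, 0, 0, 0) : V4) ∈ ptsA := by simp [ptsA]
  have w4 : ((0, 0, 0, 1) : V4) ∈ ptsA := by simp [ptsA]
  have w5 : ((1, 0, 1, 1) : V4) ∈ ptsA := by simp [ptsA]
  have w6 : ((1, 0, 2, 1) : V4) ∈ ptsA := by simp [ptsA]
  set m1 := m (E.d (1, 0, 0, 0))
  set m4 := m (E.d (0, 0, 0, 1))
  set m5 := m (E.d (1, 0, 1, 1))
  set m6 := m (E.d (1, 0, 2, 1))
  have hy : m E.y = m1 + m4 + m5 + m6 := by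
    rw [← E.d_sum h, hadd (mul_mem (mul_mem (hdA _ w1) (hdA _ w4)) (hdA _ w5)) (hdA _ w6),
      hadd (mul_mem (hdA _ w1) (hdA _ w4)) (hdA _ w5), hadd (hdA _ w1) (hdA _ w4)]
  by_cases hpt : ∃ w ∈ ptsA, T.cv w ∈ Bc
  · obtain ⟨w, hw, hwB⟩ := hpt
    exact E.pt_mem_Rt hU hUt hUn hw huU (hub _ hwB)
  push Not at hpt
  have hne : ∀ w ∈ ptsA, m1 + m4 + m5 + m6 - m (E.d w) ≠ 0 := fun w hw h0 => hpt w hw (by
    have e : E.y = T.cv w * E.d w := by
      rw [d, ← mul_assoc, ← (T.h.comm_P T.B T.hx E.mem (T.cv_mem w)).eq, mul_inv_cancel_right]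
    have h1 := hadd (hptA w hw) (hdA w hw)
    rw [← e, hy] at h1
    have h2 := hm _ (hptA w hw)
    rwa [show m (T.cv w) = 0 by rw [← h0, h1]; ring, zp_zero, inv_one, mul_one] at h2)
  have hdiff : ∀ {w w' : V4}, w ∈ ptsA → w' ∈ ptsA → m (E.d w) = m (E.d w') → T.cv (w - w') ∈ Bc := by
    intro w w' hw hw' e
    have h1 := mul_mem (inv_mem (hm _ (hdA w hw))) (hm _ (hdA w' hw'))
    rw [← e, show (E.d w * (zp c (m (E.d w)))⁻¹)⁻¹ * (E.d w' * (zp c (m (E.d w)))⁻¹) =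
      zp c (m (E.d w)) * ((E.d w)⁻¹ * E.d w') * (zp c (m (E.d w)))⁻¹ by group, E.d_div,
      (zp_comm (comm_of_P hcP (T.cv_P _)) _).eq, mul_inv_cancel_right] at h1
    exact h1
  obtain ⟨ys, hysB, hysJ⟩ : ∃ ys ∈ Bc, ys ∉ T.J := by
    by_contra hcon
    push Not at hcon
    have hm0 : m (T.cv (1, 0, 0, 0)) ≠ 0 := fun e0 => hpt _ w1 (by
      have := hm _ (hptA _ w1)
      rwa [e0, zp_zero, inv_one, mul_one] at this)
    have hcJ : c ∈ T.J := by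
      have h1 := mul_mem (inv_mem (hcon _ (hm _ (hptA _ w1)))) (T.cv_mem (1, 0, 0, 0))
      rw [mul_inv_rev, inv_inv, inv_mul_cancel_right] at h1
      have h2 := zp_mem h1 (m (T.cv (1, 0, 0, 0)))⁻¹
      rwa [zp_zp hc3, mul_inv_cancel₀ hm0, zp_one] at h2
    refine E.y_not_J ?_
    have h1 := mul_mem (hcon _ (hm _ (hAmem.2 ⟨E.mem, E.ct⟩))) (zp_mem hcJ (m E.y))
    rwa [inv_mul_cancel_right] at h1
  obtain ⟨hysP, hyst⟩ := hAmem.1 (hBA hysB)
  obtain ⟨k, hkH, hky, hk⟩ := E.gens kM (by simp [gensT])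
  have key : ∀ {g : G} {M : Cols}, g ∈ T.H4 → T.Act g M → ∀ {a b : V4}, T.cv a ∈ Bc → T.cv b ∈ Bc →
      (app M a = (2, 0, 0, 1) ∨ -app M a = (2, 0, 0, 1)) → -app M b = (0, 0, 1, 0) → u ∈ T.Rt := by
    intro g M hg hgM a b ha hb ha' hb'
    obtain ⟨hgt, hgJ, -⟩ := T.mem_H4.1 hg
    have tr : ∀ x ∈ Bc, Commute (g * u * g⁻¹) (g * x * g⁻¹) := fun x hx => by
      simpa [mul_assoc] using (hub x hx).map (MulAut.conj g).toMonoidHom
    have h1 : Commute (g * u * g⁻¹) (T.cv (2, 0, 0, 1)) := by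
      rcases ha' with e | e
      · have := tr _ ha; rwa [hgM.eq, e] at this
      · have := (tr _ ha).inv_right; rwa [hgM.eq, T.cv_inv, e] at this
    have h2 : Commute (g * u * g⁻¹) T.B.a2 := by
      have := (tr _ hb).inv_right; rwa [hgM.eq, T.cv_inv, hb', T.cv_a2] at this
    have hmem := E.bad_case h (T.norm_P hgJ hysP) (fun hh => hysJ (by
        have := T.norm_J (inv_mem hgJ) hh
        rwa [show g⁻¹ * (g * ys * g⁻¹) * g⁻¹⁻¹ = ys by group] at this))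
      ((hgt.mul_left hyst).mul_left hgt.inv_left) (U := U.map (MulAut.conj g).toMonoidHom)
      (by rw [card_map_of_injective (MulAut.conj g).injective]; exact hU) (E.map_conj_comm hUt hgt)
      (E.conj_inv_hyp hUn hgJ hgt) ⟨u, huU, rfl⟩ ((E.mem_CB _).2 ⟨h1, h2, tr _ hysB⟩)
    have := T.H4_conj_Rt (inv_mem hg) (T.L_le_Rt (zpowers_le.2 T.S.t_mem_L hmem))
    rwa [show g⁻¹ * (MulAut.conj g).toMonoidHom u * g⁻¹⁻¹ = u by
      show g⁻¹ * (g * u * g⁻¹) * g⁻¹⁻¹ = u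
      group] at this
  rcases four_split m1 m4 m5 m6 (hne _ w1) (hne _ w4) (hne _ w5) (hne _ w6) with ⟨ea, eb⟩ | ⟨ea, eb⟩ | ⟨ea, eb⟩
  · refine key (g := 1) (M := cmp sM sM) (one_mem _) ?_ (hdiff w1 w4 ea) (hdiff w5 w6 eb) ?_ ?_
    · have := T.act_cmp T.act_s T.act_s
      rwa [T.S.s_sq] at this
    · exact Or.inr (by decide +kernel)
    · decide +kernel
  · refine key hkH hk (hdiff w1 w5 ea) (hdiff w4 w6 eb) (Or.inl ?_) ?_
    · rw [split_moves.1, split_moves.2.2.2.2.1]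
    · rw [split_moves.2.1, split_moves.2.2.2.2.2.2]
  · refine key (mul_mem hkH hkH) (T.act_cmp hk hk) (hdiff w4 w5 eb) (hdiff w1 w6 ea) (Or.inr ?_) ?_
    · rw [split_moves.2.2.2.1, split_moves.2.2.2.2.2.1]
    · rw [split_moves.2.2.1, split_moves.2.2.2.2.2.2]

end Scalar

end Setting

end Cfsg.Lib.U6Three
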