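import Cfsg.Agent.Lib.U6ThreeNine.Base
import Cfsg.Agent.Lib.U6Three.Comp

/-!
# Elements exchanging the halves or inverting the centre move the centraliser of the plane modulo the plane
-/

set_option autoImplicit false
set_option linter.unusedSectionVars false
set_option synthInstance.maxSize 4000
set_option maxRecDepth 8000

namespace Cfsg.Lib.U6Three

open Subgroup
open scoped commutatorElement

theorem swap_sign : ∀ a e i j : ZMod 3, e ≠ 0 →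
    ¬ (nrm ((1, 0, 0, 0) + (1 : ZMod 3) • ((a, 0, e, 0) : V4) + -ptv i j) = 0 ∧
      nrm ((1, 0, 0, 0) + (2 : ZMod 3) • ((a, 0, e, 0) : V4) + -ptv i j) = 0) := by decide +kernel

theorem ptv_row : ∀ i : ZMod 3, i ≠ 0 → ptv i 0 = (1, 0, 0, 0) + i • ((0, 1, 0, 0) : V4) + (0, 0, 0, 1) := by
  decide +kernel

namespace Setting

variable {G : Type*} [Group G] [Finite G] {D : Data G} (T : Setting D)

theorem kappa_ptv (i j : ZMod 3) :
    T.B.k1 ⟨_, T.J_le_Stab (T.cv_mem (ptv i j))⟩ = T.B.k1 ⟨_, T.hx⟩ ∧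
      T.B.k2 ⟨_, T.J_le_Stab (T.cv_mem (ptv i j))⟩ = T.B.k2 ⟨_, T.hx⟩ := by
  have e : (⟨_, T.J_le_Stab (T.cv_mem (ptv i j))⟩ : T.B.Stab) =
      ⟨_, T.B.Q_le_Stab (T.B.el_mem (T.ε * (i * i + j * j)) i j)⟩ * ⟨_, T.hx⟩ := Subtype.ext (T.cv_ptv i j)
  rw [e, T.B.k1_mul, T.B.k1_of_Q (T.B.el_mem _ _ _), zero_add, T.B.k2_mul, T.B.k2_of_Q (T.B.el_mem _ _ _), zero_add]
  exact ⟨rfl, rfl⟩

theorem k1_of_cent {g : G} (hg : g ∈ T.B.Stab) (hc : ∀ q ∈ T.S.Q1, Commute g q) : T.B.k1 ⟨g, hg⟩ = 0 :=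
  T.B.k1_eq _ (by
    rw [zp_zero, inv_one, mul_one, commutatorElement_eq_one_iff_commute.2 (hc _ T.B.hb1)]
    exact D.Zc.one_mem)

theorem k2_of_cent {g : G} (hg : g ∈ T.B.Stab) (hc : ∀ q ∈ T.S.Q2, Commute g q) : T.B.k2 ⟨g, hg⟩ = 0 :=
  T.B.swap.k1_eq ⟨g, T.B.swap_Stab hg⟩ (by
    show ⁅g, T.B.b2⁆ * (zp T.B.a2 0)⁻¹ ∈ D.Zc
    rw [zp_zero, inv_one, mul_one, commutatorElement_eq_one_iff_commute.2 (hc _ T.B.hb2)]
    exact D.Zc.one_mem)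

/-- An element of the centraliser of the centre exchanging the halves maps the second point to a point of the
same sign. -/
theorem swap_pt {c : G} (hc : c ∈ normalizer (T.J : Set G)) (hz : Commute c D.z)
    (h1 : c * T.B.a1 * c⁻¹ ∉ T.S.Q1) : ∃ i j, c * T.x * c⁻¹ = T.cv (ptv i j) := by
  have hQ2 : c * T.B.a1 * c⁻¹ ∈ T.S.Q2 :=
    (T.S.conj_half hz).resolve_left (fun hh => h1 (hh _ T.B.ha1)) _ T.B.ha1
  rcases T.pt_cases (T.norm_J hc (T.h.x_mem_J T.B T.hx)) (T.h.pt.conj c) with e | e | ⟨i, j, e | e⟩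
  · exfalso
    refine T.h.notin ?_
    have := D.conj_inv_mem hz (show c * T.x * c⁻¹ ∈ D.Q by rw [e, T.cv_z]; exact zp_mem D.z_mem _)
    rwa [show c⁻¹ * (c * T.x * c⁻¹) * c = T.x by group] at this
  · exfalso
    refine T.h.notin ?_
    have := D.conj_inv_mem hz (show c * T.x * c⁻¹ ∈ D.Q by rw [e, T.cv_z]; exact inv_mem (zp_mem D.z_mem _))
    rwa [show c⁻¹ * (c * T.x * c⁻¹) * c = T.x by group] at this
  · exact ⟨i, j, e⟩
  exfalso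
  obtain ⟨v, hv⟩ := T.exists_cv (T.norm_J hc (T.cv_a1 ▸ T.cv_mem _))
  have hl : v.2.2.2 = 0 := T.last_zero_of_Q (hv ▸ hQ2.1)
  have hb : v.2.1 = 0 := T.cv_fixed (hv ▸ (D.mem_fixC.1 hQ2).2)
  have he : v.2.2.1 ≠ 0 := fun he => h1 (by
    rw [← hv, show v = (v.1, 0, 0, 0) from Prod.ext rfl (Prod.ext hb (Prod.ext he hl)), T.cv_el, Basis.el,
      zp_zero, zp_zero, mul_one, mul_one]
    exact D.Zc_le_fixC T.S.s_z (zp_mem (mem_zpowers _) _))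
  have hz1 : c * T.cv (1, 0, 0, 0) * c⁻¹ = T.cv (1, 0, 0, 0) := by
    rw [T.cv_z, (zp_comm hz.symm T.ε).symm.eq, mul_inv_cancel_right]
  have ex : c * T.x * c⁻¹ = T.cv (-ptv i j) := by
    rw [e]
    refine inv_eq_of_mul_eq_one_right ?_
    rw [← T.cv_add, add_neg_cancel, T.cv_zero]
  have key : ∀ m : ZMod 3, m ≠ 0 → nrm ((1, 0, 0, 0) + m • v + -ptv i j) = 0 := fun m hm => by
    refine nrm_facts.1 _ (T.isPtv_of_conj (T.pt_ptv m 0) (g := c) ?_)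
    rw [ptv_row m hm, T.cv_add, T.cv_add, T.cv_smul, T.cv_a1, T.cv_x, T.cv_add, T.cv_add, T.cv_smul, hv,
      show c * (T.cv (1, 0, 0, 0) * zp T.B.a1 m * T.x) * c⁻¹ =
        (c * T.cv (1, 0, 0, 0) * c⁻¹) * (c * zp T.B.a1 m * c⁻¹) * (c * T.x * c⁻¹) by group, hz1, ex,
      show c * zp T.B.a1 m * c⁻¹ = zp (c * T.B.a1 * c⁻¹) m from (conj_pow).symm]
  refine swap_sign v.1 v.2.2.1 i j he ⟨?_, ?_⟩
  · have := key 1 one_ne_zero
    rwa [show v = (v.1, 0, v.2.2.1, 0) from Prod.ext rfl (Prod.ext hb (Prod.ext rfl hl))] at this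
  · have := key 2 (by decide)
    rwa [show v = (v.1, 0, v.2.2.1, 0) from Prod.ext rfl (Prod.ext hb (Prod.ext rfl hl))] at this

variable {T}

/-- An element centralising the centre that exchanges the halves moves the centraliser of the plane. -/
theorem swap_not_Fix (h : ¬ T.IsThree) {p q : G} (hp : p ∈ T.P) (hq : q ∈ T.P) (epq : q * p⁻¹ = T.x)
    (hp2 : ∀ u ∈ T.S.Q2, Commute q u) (hp1 : ∀ u ∈ T.S.Q1, Commute p u)
    {c : G} (hc : c ∈ normalizer (T.J : Set G)) (hz : Commute c D.z) (h1 : c * T.B.a1 * c⁻¹ ∉ T.S.Q1) :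
    c ∉ T.Fix := by
  intro hF
  obtain ⟨hd1, hd2⟩ := T.h.diag T.B T.hx
  set c1 := T.B.k1 ⟨_, T.hx⟩
  set c2 := T.B.k2 ⟨_, T.hx⟩
  obtain ⟨i, j, e⟩ := T.swap_pt hc hz h1
  have hh : ∀ u ∈ T.S.Q1, c * u * c⁻¹ ∈ T.S.Q2 := (T.S.conj_half hz).resolve_left fun hh => h1 (hh _ T.B.ha1)
  have hh' : ∀ u ∈ T.S.Q2, c * u * c⁻¹ ∈ T.S.Q1 := (T.S.swap.conj_half hz).resolve_left fun hh2 => by
    have hh2' : ∀ u ∈ T.S.Q2, c * u * c⁻¹ ∈ T.S.Q2 := hh2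
    have he : T.S.Q2.map (MulAut.conj c).toMonoidHom = T.S.Q2 := Subgroup.eq_of_le_of_card_ge
      (by rintro _ ⟨u, hu, rfl⟩; exact hh2' u hu)
      (le_of_eq (Subgroup.card_map_of_injective (MulAut.conj c).injective).symm)
    obtain ⟨u, hu, eu⟩ := he.ge (hh _ T.B.ha1)
    have e' : u = T.B.a1 := mul_left_cancel (mul_right_cancel eu)
    exact T.B.a1_not_Zc (T.S.inf_eq.le ⟨T.B.ha1, e' ▸ hu⟩)
  -- transported centralisers
  have tr : ∀ {r : G}, (∀ u ∈ T.S.Q1, Commute r u) → ∀ u ∈ T.S.Q2, Commute (c * r * c⁻¹) u := by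
    intro r hr u hu
    have := (hr _ (show c⁻¹ * u * c ∈ T.S.Q1 by
      have he : T.S.Q1.map (MulAut.conj c).toMonoidHom = T.S.Q2 := Subgroup.eq_of_le_of_card_ge
        (by rintro _ ⟨w, hw, rfl⟩; exact hh w hw) (by
          rw [Subgroup.card_map_of_injective (MulAut.conj c).injective]
          refine (Nat.card_le_card_of_injective (fun w : T.S.Q2 => (⟨_, hh' w w.2⟩ : T.S.Q1)) fun a b e =>
            Subtype.ext ?_)
          exact mul_left_cancel (mul_right_cancel (congrArg Subtype.val e)))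
      obtain ⟨w, hw, rfl⟩ := he.ge hu
      show c⁻¹ * (c * w * c⁻¹) * c ∈ T.S.Q1
      rwa [show c⁻¹ * (c * w * c⁻¹) * c = w by group])).map (MulAut.conj c).toMonoidHom
    simpa [mul_assoc] using this
  have tr' : ∀ {r : G}, (∀ u ∈ T.S.Q2, Commute r u) → ∀ u ∈ T.S.Q1, Commute (c * r * c⁻¹) u := by
    intro r hr u hu
    have := (hr _ (show c⁻¹ * u * c ∈ T.S.Q2 by
      have he : T.S.Q2.map (MulAut.conj c).toMonoidHom = T.S.Q1 := Subgroup.eq_of_le_of_card_ge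
        (by rintro _ ⟨w, hw, rfl⟩; exact hh' w hw) (by
          rw [Subgroup.card_map_of_injective (MulAut.conj c).injective]
          refine (Nat.card_le_card_of_injective (fun w : T.S.Q1 => (⟨_, hh w w.2⟩ : T.S.Q2)) fun a b e =>
            Subtype.ext ?_)
          exact mul_left_cancel (mul_right_cancel (congrArg Subtype.val e)))
      obtain ⟨w, hw, rfl⟩ := he.ge hu
      show c⁻¹ * (c * w * c⁻¹) * c ∈ T.S.Q2
      rwa [show c⁻¹ * (c * w * c⁻¹) * c = w by group])).map (MulAut.conj c).toMonoidHom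
    simpa [mul_assoc] using this
  -- values of the two characters
  have val : ∀ {r : G} (hr : r ∈ T.P), ∃ l : ZMod 3,
      T.B.k1 ⟨_, T.P_le_Stab (T.norm_P hc hr)⟩ = l * c1 + T.B.k1 ⟨r, T.P_le_Stab hr⟩ ∧
      T.B.k2 ⟨_, T.P_le_Stab (T.norm_P hc hr)⟩ = l * c2 + T.B.k2 ⟨r, T.P_le_Stab hr⟩ := by
    intro r hr
    obtain ⟨l, e1, e2⟩ := T.kappa_J (hF.2 r hr)
    have es : (⟨_, T.P_le_Stab (T.norm_P hc hr)⟩ : T.B.Stab) =
        ⟨_, T.J_le_Stab (hF.2 r hr)⟩ * ⟨r, T.P_le_Stab hr⟩ := Subtype.ext (by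
      show c * r * c⁻¹ = c * r * c⁻¹ * r⁻¹ * r
      rw [inv_mul_cancel_right])
    exact ⟨l, by rw [es, T.B.k1_mul, e1], by rw [es, T.B.k2_mul, e2]⟩
  have p1 := T.k1_of_cent (T.P_le_Stab hp) hp1
  have q2 := T.k2_of_cent (T.P_le_Stab hq) hp2
  have hqe : (⟨q, T.P_le_Stab hq⟩ : T.B.Stab) = ⟨_, T.hx⟩ * ⟨p, T.P_le_Stab hp⟩ :=
    Subtype.ext (show q = T.x * p by rw [← epq, inv_mul_cancel_right])
  have kp : T.B.k2 ⟨p, T.P_le_Stab hp⟩ = -c2 := by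
    rw [hqe, T.B.k2_mul] at q2
    exact eq_neg_of_add_eq_zero_right q2
  have kq : T.B.k1 ⟨q, T.P_le_Stab hq⟩ = c1 := by
    rw [hqe, T.B.k1_mul, p1, add_zero]
  obtain ⟨l, a1, a2⟩ := val hq
  obtain ⟨l', b1, b2⟩ := val hp
  rw [kq] at a1
  rw [q2, add_zero] at a2
  rw [p1, add_zero] at b1
  rw [kp] at b2
  rw [T.k1_of_cent _ (tr' hp2)] at a1
  rw [T.k2_of_cent _ (tr hp1)] at b2
  have hl : l = -1 := (show ∀ l c : ZMod 3, c ≠ 0 → 0 = l * c + c → l = -1 by decide) l c1 hd1 a1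
  have hl' : l' = 1 := (show ∀ l c : ZMod 3, c ≠ 0 → 0 = l * c + -c → l = 1 by decide) l' c2 hd2 b2
  -- the image of the point
  have hJ := T.norm_J hc (T.h.x_mem_J T.B T.hx)
  have es : (⟨_, T.J_le_Stab hJ⟩ : T.B.Stab) =
      ⟨_, T.P_le_Stab (T.norm_P hc hq)⟩ * ⟨_, T.P_le_Stab (T.norm_P hc hp)⟩⁻¹ := Subtype.ext (by
    show c * T.x * c⁻¹ = c * q * c⁻¹ * (c * p * c⁻¹)⁻¹
    rw [← epq]; group)
  have k := (T.kappa_ptv i j).1
  rw [show (⟨_, T.J_le_Stab (T.cv_mem (ptv i j))⟩ : T.B.Stab) = ⟨_, T.J_le_Stab hJ⟩ from Subtype.ext e.symm, es] at k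
  have k' := congrArg T.B.k1 (inv_mul_cancel_right (⟨_, T.P_le_Stab (T.norm_P hc hq)⟩ : T.B.Stab)
    ⟨_, T.P_le_Stab (T.norm_P hc hp)⟩)
  rw [T.B.k1_mul, k, b1, hl', one_mul, T.k1_of_cent _ (tr' hp2)] at k'
  exact hd1 ((show ∀ c : ZMod 3, c + c = 0 → c = 0 by decide) _ k')

theorem conj_z_inv {w : G} (hw : T.Act w wM) : w * D.z * w⁻¹ = D.z⁻¹ := by
  have h := hw.eq (1, 0, 0, 0)
  rw [show app wM (1, 0, 0, 0) = (2 : ZMod 3) • ((1, 0, 0, 0) : V4) by decide +kernel, T.cv_smul, T.cv_z,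
    show w * zp D.z T.ε * w⁻¹ = zp (w * D.z * w⁻¹) T.ε from (conj_pow).symm] at h
  have h' := congrArg (fun u => zp u T.ε⁻¹) h
  have h3 : (w * D.z * w⁻¹) ^ 3 = 1 := by rw [conj_pow, D.z_cube]; group
  rw [zp_zp h3, mul_inv_cancel₀ T.ε_ne, zp_one, zp_zp D.z_cube, zp_zp D.z_cube,
    show T.ε * 2 * T.ε⁻¹ = -1 from (by rw [mul_right_comm, mul_inv_cancel₀ T.ε_ne, one_mul]; rfl),
    ← zp_inv D.z_cube, zp_one] at h'
  exact h'

/-- An element of the normaliser fixing the second line and inverting the centre moves the centraliser of the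
plane. -/
theorem inv_not_Fix (h : ¬ T.IsThree) {p q : G} (hp : p ∈ T.P) (hq : q ∈ T.P) (epq : q * p⁻¹ = T.x)
    (hp2 : ∀ u ∈ T.S.Q2, Commute q u) (hp1 : ∀ u ∈ T.S.Q1, Commute p u)
    {g : G} (hg : g ∈ normalizer (T.J : Set G)) (ha : Commute g T.B.a2) (hgz : g * D.z * g⁻¹ = D.z⁻¹) :
    g ∉ T.Fix := by
  intro hF
  obtain ⟨w, hw, hwF⟩ : ∃ w, T.Act w wM ∧ w ∈ T.Fix := by
    obtain ⟨a, ka, ha⟩ := T.exists_u 1 0
    obtain ⟨b, kb, hb⟩ := T.exists_v 0 1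
    obtain ⟨c, kc, hc⟩ := T.exists_v 1 0
    obtain ⟨d, kd, hd⟩ := T.exists_u 0 1
    have hK : ∀ {u : G} {m : Cols}, T.Act u m → u ^ 243 = 1 → u ∈ T.Fix := fun {u m} hu h3 =>
      three_mem_Fix h hu.norm ⟨5, h3⟩
    have hh := T.act_cmp ha (T.act_cmp hb (T.act_cmp hc (T.act_cmp hd (T.act_cmp hc ha))))
    rw [word_wM.1] at hh
    exact ⟨_, hh, mul_mem (hK ha (D.pow_243 ka)) (mul_mem (hK hb (T.D'.pow_243 kb)) (mul_mem (hK hc (T.D'.pow_243 kc))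
      (mul_mem (hK hd (D.pow_243 kd)) (mul_mem (hK hc (T.D'.pow_243 kc)) (hK ha (D.pow_243 ka))))))⟩
  set c := w⁻¹ * g with hcd
  have hcF : c ∈ T.Fix := mul_mem (inv_mem hwF) hF
  have hcz : Commute c D.z := mul_inv_eq_iff_eq_mul.1 (by
    rw [show c * D.z * c⁻¹ = w⁻¹ * (g * D.z * g⁻¹) * w by rw [hcd]; group, hgz, ← conj_z_inv hw]
    group)
  have hwa : w * T.B.a1 * w⁻¹ = T.B.a2 := by
    have := hw.eq (0, 1, 0, 0)
    rwa [show app wM (0, 1, 0, 0) = (0, 0, 1, 0) by decide +kernel, T.cv_a1, T.cv_a2] at this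
  have hca : c * T.B.a2 * c⁻¹ = T.B.a1 := by
    rw [show c * T.B.a2 * c⁻¹ = w⁻¹ * (g * T.B.a2 * g⁻¹) * w by rw [hcd]; group, ha.eq, mul_inv_cancel_right,
      ← hwa]
    group
  refine swap_not_Fix h hp hq epq hp2 hp1 hcF.1 hcz (fun hh => ?_) hcF
  have hHN := T.S.mem_HN_of hcz T.B.ha1 T.B.a1_not_Zc hh
  exact T.B.a1_not_Zc (T.S.inf_eq.le ⟨T.B.ha1, hca ▸ T.S.HN_Q2 hHN _ T.B.ha2⟩)

/-- An element centralising the centre, the second point and a further point that commutes with an element of the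
centraliser of the plane outside the plane lies in that centraliser. -/
theorem cent_triangle (h : ¬ T.IsThree) {p q : G} (hp : p ∈ T.P) (hq : q ∈ T.P) (epq : q * p⁻¹ = T.x)
    (hp2 : ∀ u ∈ T.S.Q2, Commute q u) (hp1 : ∀ u ∈ T.S.Q1, Commute p u)
    {g : G} (hz : Commute g D.z) (hx : Commute g T.x) {i j : ZMod 3} (hi : i ≠ 0) (hj : j ≠ 0)
    (hpt : Commute g (T.cv (ptv i j))) {y : G} (hy : y ∈ T.P) (hyJ : y ∉ T.J) (hgy : Commute g y) : g ∈ T.P := by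
  set A := zp T.B.a1 i
  set B := zp T.B.a2 j
  have hA : A ∈ T.S.Q1 := zp_mem T.B.ha1 i
  have hB : B ∈ T.S.Q2 := zp_mem T.B.ha2 j
  have hAB : Commute g (A * B) := by
    have h1 := hpt.mul_right hx.inv_right
    rw [T.cv_ptv, mul_inv_cancel_right, Basis.el, mul_assoc] at h1
    have h2 := (zp_comm hz.symm (T.ε * (i * i + j * j))).symm.inv_right.mul_right h1
    rwa [inv_mul_cancel_left] at h2
  have hAB' : g * A * g⁻¹ * (g * B * g⁻¹) = A * B := by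
    rw [show g * A * g⁻¹ * (g * B * g⁻¹) = g * (A * B) * g⁻¹ by group, hAB.eq, mul_inv_cancel_right]
  have unzp : ∀ {H : Subgroup G} {a : G}, a ^ 3 = 1 → ∀ {m : ZMod 3}, m ≠ 0 → zp a m ∈ H → a ∈ H := by
    intro H a ha m hm hmem
    have := zp_mem hmem m⁻¹
    rwa [zp_zp ha, mul_inv_cancel₀ hm, zp_one] at this
  by_cases h1 : g * T.B.a1 * g⁻¹ ∈ T.S.Q1
  · have hHN := T.S.mem_HN_of hz T.B.ha1 T.B.a1_not_Zc h1
    have gA : g * A * g⁻¹ ∈ T.S.Q1 := (T.S.conj_half hz).elim (fun hh => hh _ hA) fun hh => absurd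
      (T.S.inf_eq.le ⟨h1, hh _ T.B.ha1⟩) fun hm => T.B.a1_not_Zc (by
        rwa [show T.B.a1 = g⁻¹ * (g * T.B.a1 * g⁻¹) * g by group, (D.comm_Zc hz.inv_left hm).eq,
          inv_mul_cancel_right])
    have gB : g * B * g⁻¹ ∈ T.S.Q2 := T.S.HN_Q2 hHN _ hB
    have e : A⁻¹ * (g * A * g⁻¹) = B * (g * B * g⁻¹)⁻¹ := by
      rw [eq_mul_inv_iff_mul_eq, mul_assoc, hAB', inv_mul_cancel_left]
    have e1 : A⁻¹ * (g * A * g⁻¹) ∈ D.Zc :=
      T.S.inf_eq.le (Subgroup.mem_inf.2 ⟨mul_mem (inv_mem hA) gA, e ▸ mul_mem hB (inv_mem gB)⟩)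
    have f1 : ∀ {a : G}, a ∈ D.Q → a⁻¹ * (g * a * g⁻¹) ∈ D.Zc → a ∈ D.fixMod g hz := fun {a} ha hm => ⟨ha, by
      rw [show ⁅g, a⁆ = a * (a⁻¹ * (g * a * g⁻¹)) * a⁻¹ by rw [commutatorElement_def]; group,
        (D.comm_Q_Zc ha hm).eq, mul_inv_cancel_right]
      exact hm⟩
    have e2 : (g * B * g⁻¹)⁻¹ * B ∈ D.Zc := by
      have := D.comm_Zc (g := B) (D.comm_z _ hB.1) e1
      rw [e] at e1 this
      rwa [show (g * B * g⁻¹)⁻¹ * B = B⁻¹ * (B * (g * B * g⁻¹)⁻¹) * B by group, mul_assoc, ← this.eq,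
        inv_mul_cancel_left]
    have s1 : T.B.a1 ∈ D.fixMod g hz := unzp T.B.a1_cube hi (f1 hA.1 e1)
    have s2 : T.B.a2 ∈ D.fixMod g hz := unzp T.B.a2_cube hj (f1 hB.1 (by
      rw [show B⁻¹ * (g * B * g⁻¹) = ((g * B * g⁻¹)⁻¹ * B)⁻¹ by group]; exact inv_mem e2))
    exact (T.h.mem_cent_J T.B T.hx).2 ⟨⟨hz, s1.2, s2.2⟩, hx⟩
  exfalso
  have hh : ∀ u ∈ T.S.Q1, g * u * g⁻¹ ∈ T.S.Q2 := (T.S.conj_half hz).resolve_left fun hh => h1 (hh _ T.B.ha1)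
  have hh' : ∀ u ∈ T.S.Q2, g * u * g⁻¹ ∈ T.S.Q1 := (T.S.swap.conj_half hz).resolve_left fun hh2 => by
    have hh2' : ∀ u ∈ T.S.Q2, g * u * g⁻¹ ∈ T.S.Q2 := hh2
    have he : T.S.Q2.map (MulAut.conj g).toMonoidHom = T.S.Q2 := Subgroup.eq_of_le_of_card_ge
      (by rintro _ ⟨u, hu, rfl⟩; exact hh2' u hu)
      (le_of_eq (Subgroup.card_map_of_injective (MulAut.conj g).injective).symm)
    obtain ⟨u, hu, eu⟩ := he.ge (hh _ T.B.ha1)
    have e' : u = T.B.a1 := mul_left_cancel (mul_right_cancel eu)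
    exact T.B.a1_not_Zc (T.S.inf_eq.le ⟨T.B.ha1, e' ▸ hu⟩)
  have hBA : A * B = B * A := (T.S.comm12 hA hB).eq
  have e : B⁻¹ * (g * A * g⁻¹) = A * (g * B * g⁻¹)⁻¹ := by
    rw [eq_mul_inv_iff_mul_eq, mul_assoc, hAB', hBA, inv_mul_cancel_left]
  have e1 : B⁻¹ * (g * A * g⁻¹) ∈ D.Zc :=
    T.S.inf_eq.le (Subgroup.mem_inf.2 ⟨e ▸ mul_mem hA (inv_mem (hh' _ hB)), mul_mem (inv_mem hB) (hh _ hA)⟩)
  have hzc : D.Zc ≤ T.J := zpowers_le.2 (T.h.z_mem_J T.B T.hx)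
  have hAJ : A ∈ T.J := zp_mem (T.cv_a1 ▸ T.cv_mem _) i
  have hBJ : B ∈ T.J := zp_mem (T.cv_a2 ▸ T.cv_mem _) j
  have gA : g * A * g⁻¹ ∈ T.J := by
    have := mul_mem hBJ (hzc e1); rwa [mul_inv_cancel_left] at this
  have gB : g * B * g⁻¹ ∈ T.J := by
    have := mul_mem (inv_mem (hzc (e ▸ e1))) hAJ
    rwa [show (A * (g * B * g⁻¹)⁻¹)⁻¹ * A = g * B * g⁻¹ by group] at this
  have hK : T.J ≤ T.J.comap (MulAut.conj g).toMonoidHom := T.J_le_of_points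
    (show g * D.z * g⁻¹ ∈ T.J by rw [hz.eq, mul_inv_cancel_right]; exact T.h.z_mem_J T.B T.hx) fun i' j' => by
    rw [T.cv_ptv, Basis.el]
    exact mul_mem (mul_mem (mul_mem (zp_mem (show D.z ∈ T.J.comap (MulAut.conj g).toMonoidHom by
        show g * D.z * g⁻¹ ∈ T.J; rw [hz.eq, mul_inv_cancel_right]; exact T.h.z_mem_J T.B T.hx) _)
      (zp_mem (unzp T.B.a1_cube hi (show A ∈ T.J.comap (MulAut.conj g).toMonoidHom from gA)) _))
      (zp_mem (unzp T.B.a2_cube hj (show B ∈ T.J.comap (MulAut.conj g).toMonoidHom from gB)) _))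
      (show g * T.x * g⁻¹ ∈ T.J by rw [hx.eq, mul_inv_cancel_right]; exact T.h.x_mem_J T.B T.hx)
  have hgn : g ∈ normalizer (T.J : Set G) := mem_normalizer_set fun u hu => hK hu
  rcases fix_or_inv h hgn with hf | hi'
  · exact swap_not_Fix h hp hq epq hp2 hp1 hgn hz h1 hf
  · refine hyJ ?_
    have := hi' y hy
    rw [hgy.eq, mul_inv_cancel_right, ← pow_two] at this
    have h2 := pow_mem this 2
    rwa [← pow_mul, show 2 * 2 = 3 + 1 from rfl, pow_succ, cube_P h hy, one_mul] at h2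

end Setting

end Cfsg.Lib.U6Three
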