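import Cfsg.Agent.Lib.U6ThreeNine.Elems

/-!
# What the local analysis gives to the coordinates on the four quaternion groups
-/

set_option autoImplicit false
set_option linter.unusedSectionVars false

namespace Cfsg.Lib.U6Three

open Subgroup

namespace Setting

variable {G : Type*} [Group G] [Finite G] {D : Data G} {T : Setting D}

/-- The facts about the product of the four quaternion groups. -/
structure Scalar.Local (E : T.Scalar) : Prop where
  block : IsBlock T.S.t T.Rt
  card : Nat.card T.Rt = 2 ^ 9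
  comm : ∀ g ∈ T.H4, ∀ g' ∈ T.H4, g * T.cv (1, 0, 0, 0) * g⁻¹ ≠ g' * T.cv (1, 0, 0, 0) * g'⁻¹ →
    ∀ a ∈ T.S.L.map (MulAut.conj g).toMonoidHom, ∀ b ∈ T.S.L.map (MulAut.conj g').toMonoidHom, Commute a b
  self : ∀ c : G, Commute c T.S.t → (∀ r ∈ T.Rt, Commute c r) → c ∈ T.Rt
  swapL : ∀ l ∈ T.S.swap.L, l ∈ normalizer (T.Rt : Set G)

end Setting

end Cfsg.Lib.U6Three
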