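import Cfsg.Agent.Lib.U6ThreeNine.Swapper
import Cfsg.Agent.Lib.U6ThreeNine.Frame
import Cfsg.Agent.Lib.U6ThreeEnd.Twisted

/-!
# The case of a Sylow subgroup of order `3⁷`: passage to a normal subgroup with a smaller Sylow subgroup
-/

set_option autoImplicit false
set_option linter.unusedSectionVars false
set_option synthInstance.maxSize 4000

namespace Cfsg.Lib.U6Three

open Subgroup
open Cfsg.Lib.U62Core Cfsg.Lib.U62Type Cfsg.Lib.U6ThreeEnd

namespace Setting

variable {G : Type*} [Group G] [Finite G] {D : Data G} {T : Setting D}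

namespace Scalar

variable (E : T.Scalar) (h : ¬ T.IsThree)
include E h

/-- An involution of the normaliser of the product inverting the fixed element and commuting with no conjugate of
an element of the centraliser of the plane outside it. -/
theorem exists_semilinear {c : G} (hc : c ∈ normalizer (T.J : Set G)) (hcz : Commute c D.z) (hcF : c ∉ T.Fix) :
    ∃ s : G, s * s = 1 ∧ Commute s T.S.t ∧ s ∈ normalizer (T.J : Set G) ∧ s ∈ normalizer (T.Rt : Set G) ∧
      s * E.y * s⁻¹ = E.y⁻¹ ∧ ∀ p ∈ T.P, p ∉ T.J → ∀ a : G, ¬ Commute s (a * p * a⁻¹) := by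
  obtain ⟨h0, h2, hz, hF, hact⟩ := E.exists_h0 h hc hcz hcF
  obtain ⟨qv, hqv, hva⟩ := T.exists_v 1 2
  obtain ⟨qu, hqu, hua⟩ := T.exists_u 1 0
  set g := qv * qu
  have hgF : g ∈ T.Fix := mul_mem (three_mem_Fix h hva.norm ⟨5, T.D'.pow_243 hqv⟩)
    (three_mem_Fix h hua.norm ⟨5, D.pow_243 hqu⟩)
  have hg : T.Act g (cmp (vM 1 2) (uM 1 0)) := T.act_cmp hva hua
  set s0 := g * h0 * g⁻¹
  have hs02 : s0 * s0 = 1 := by
    rw [show s0 * s0 = g * (h0 * h0) * g⁻¹ by simp only [s0]; group, h2]; group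
  have hs0 : T.Act s0 semM := by
    refine ⟨mul_mem (mul_mem hg.norm hact.norm) (inv_mem hg.norm), fun v => ?_⟩
    obtain ⟨u, hu⟩ := T.exists_cv (T.norm_J (inv_mem hg.norm) (T.cv_mem v))
    have hv : app (cmp (vM 1 2) (uM 1 0)) u = v := T.cv_inj (by rw [← hg.eq, hu]; group)
    rw [← hv, ← app_cmp' semM, ← sem_facts.1, app_cmp' _ sigM, ← hg.eq, ← hg.eq, ← hact.eq]
    simp only [s0]; group
  obtain ⟨w, hwP, hs1, hs1t⟩ := exists_centralised9 h hs0 sem_facts.2.1
  set s1 := s0 * w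
  have hsq : s1 * s1 ∈ T.P := by
    have := T.act_of_eq (T.act_cmp hs1 hs1) (sem_facts.2.2.1.symm ▸ T.act_one)
    rwa [inv_one, mul_one] at this
  set s := s1 * (s1 * s1)
  have hss : s * s = 1 := by
    rw [show s * s = (s1 * s1) ^ 3 by simp only [s]; rw [pow_succ, pow_two]; group, cube_P h hsq]
  have hst : Commute s T.S.t := hs1t.mul_left (hs1t.mul_left hs1t)
  have hs : T.Act s semM := T.act_of_P hsq (P_norm hsq) hs1
  obtain ⟨d, hd⟩ : ∃ d, s0 * s⁻¹ = d := ⟨_, rfl⟩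
  have hdP : d ∈ T.P := hd ▸ T.act_of_eq hs0 hs
  have hd3 : d ^ 3 = 1 := cube_P h hdP
  have hsi : s⁻¹ = s := inv_eq_of_mul_eq_one_right hss
  have hs0i : s0⁻¹ = s0 := inv_eq_of_mul_eq_one_right hs02
  have hconj : s = d * s0 * d⁻¹ := by
    rw [← hd, hsi] at hd3 ⊢
    rw [mul_inv_rev, hsi, hs0i]
    calc s = (s0 * s) ^ 3 * s := by rw [hd3, one_mul]
      _ = s0 * s * s0 * (s * s0) * (s * s) := by rw [pow_succ, pow_two]; group
      _ = _ := by rw [hss, mul_one]
  have hsF : s ∉ T.Fix := fun hh => hF (by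
    have hdF := Stab_le_Fix h (T.P_le_Stab hdP)
    have h1 := mul_mem (mul_mem (inv_mem hdF) hh) hdF
    rw [hconj, show d⁻¹ * (d * s0 * d⁻¹) * d = s0 by group] at h1
    have h3 := mul_mem (mul_mem (inv_mem hgF) h1) hgF
    rwa [show g⁻¹ * s0 * g = h0 by simp only [s0]; group] at h3)
  refine ⟨s, hss, hst, hs.norm, ?_, ?_, fun p hp hpJ a hc' => ?_⟩
  · refine mem_normalizer_set fun r hr => ?_
    obtain ⟨hblk, hcard⟩ := E.Rt_block h
    refine E.le_Rt h (U := T.Rt.map (MulAut.conj s).toMonoidHom)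
      (by rw [card_map_of_injective (MulAut.conj s).injective, hcard]; norm_num)
      (E.map_conj_comm (fun u hu => (hblk.comm u hu).symm) hst)
      (E.conj_inv_hyp (fun p hp hpt => T.H4_norm_Rt (E.A_H4 hp hpt)) hs.norm hst) ⟨r, hr, rfl⟩
  · obtain ⟨v, hv⟩ := T.exists_cv (E.inverts h hs.norm hsF E.mem)
    have hv0 : v.2.1 = 0 := T.cv_fixed (hv ▸ ((hst.mul_left E.ct).mul_left hst.inv_left).mul_left E.ct)
    obtain ⟨k, -, hky, hk⟩ := E.gens kM (by simp [gensT])
    obtain ⟨u1, -, hu1y, hu1⟩ := E.gens (uM 0 1) (by simp [gensT])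
    obtain ⟨u2, -, hu2y, hu2⟩ := E.gens (uM 0 2) (by simp [gensT])
    have fixed : ∀ {a b : G} {M M' : Cols}, T.Act a M → Commute a E.y → T.Act b M' → Commute b E.y →
        cmp semM M = cmp M' semM → app M' v = v := by
      intro a b M M' ha hay hb hby e
      have h1 := T.act_of_eq (T.act_cmp hs ha) (e ▸ T.act_cmp hb hs)
      rw [mul_inv_rev, show s * a * (s⁻¹ * b⁻¹) = s * a * s⁻¹ * b⁻¹ by group] at h1
      have hc1 : Commute (s * a * s⁻¹) E.y := by
        have := (comm_of_P h1 E.mem).mul_left hby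
        rwa [inv_mul_cancel_right] at this
      have hc2 : Commute (s * a * s⁻¹) (s * E.y * s⁻¹) := by
        simpa [mul_assoc] using hay.map (MulAut.conj s).toMonoidHom
      have hc3 : Commute (s * a * s⁻¹) (T.cv v) := hv ▸ hc2.mul_right hc1
      have hc4 : Commute b (T.cv v) := by
        have := ((comm_of_P h1 (T.cv_P v)).inv_left).mul_left hc3
        rwa [show (s * a * s⁻¹ * b⁻¹)⁻¹ * (s * a * s⁻¹) = b by group] at this
      exact T.cv_inj (by rw [← hb.eq, hc4.eq, mul_inv_cancel_right])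
    have hv' := sem_fixed v hv0
      (fixed hu1 hu1y (T.act_cmp hu2 hk) (hu2y.mul_left hky) sem_facts.2.2.2.1)
      (fixed hk hky (T.act_cmp hu2 (T.act_cmp hk hu1)) (hu2y.mul_left (hky.mul_left hu1y)) sem_facts.2.2.2.2)
    rw [hv', T.cv_zero] at hv
    exact eq_inv_of_mul_eq_one_left hv.symm
  · refine E.avoid_h0 h h2 hz hF hact hp hpJ ((d * g)⁻¹ * a) ?_
    have h1 := hc'.map (MulAut.conj (d * g)⁻¹).toMonoidHom
    simp only [MulEquiv.toMonoidHom_eq_coe, MonoidHom.coe_coe, MulAut.conj_apply] at h1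
    rw [show (d * g)⁻¹ * s * (d * g)⁻¹⁻¹ = h0 by rw [hconj]; simp only [s0]; group] at h1
    rwa [show (d * g)⁻¹ * a * p * ((d * g)⁻¹ * a)⁻¹ = (d * g)⁻¹ * (a * p * a⁻¹) * (d * g)⁻¹⁻¹ by group]

end Scalar

/-- The sign condition holds. -/
theorem signCondition (h : ¬ T.IsThree) : T.SignCondition := by
  rintro ⟨c, hc, hcz, hcF⟩
  obtain ⟨E⟩ := exists_scalar h
  obtain ⟨s, hss, hst, hsJ, hsR, hsy, havoid⟩ := E.exists_semilinear h hc hcz hcF
  set N : Subgroup G := centralizer ({T.S.t} : Set G) ⊓ normalizer (T.Rt : Set G) with hN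
  have hNm : ∀ g, g ∈ N ↔ Commute g T.S.t ∧ g ∈ normalizer (T.Rt : Set G) := fun g =>
    Subgroup.mem_inf.trans (and_congr mem_centralizer_singleton_iff Iff.rfl)
  obtain ⟨W, hWz, hWJ, hWy, hWp, hWpJ⟩ := Cfsg.Lib.U6ThreeNine.exists_tw h E (E.exists_local h) N hN
  have hRN : T.Rt ≤ N := fun r hr => (hNm r).2 ⟨((E.Rt_block h).1.comm r hr).symm, le_normalizer hr⟩
  set sN : N := ⟨s, (hNm s).2 ⟨hst, hsR⟩⟩
  have hsemi : cm (W.F.κ sN) omC = cm (cm omC omC) (W.F.κ sN) := by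
    rw [← W.y_code, ← W.mul, ← W.mul, ← W.mul]
    congr 1
    refine Subtype.ext ?_
    simp only [coe_mul, sN, hWy]
    have hy3 : E.y ^ 3 = 1 := cube_P h E.mem
    calc s * E.y = (s * E.y * s⁻¹) * s := by group
      _ = E.y ^ 3 * E.y⁻¹ * s := by rw [hsy, hy3, one_mul]
      _ = E.y * E.y * s := by rw [pow_succ, pow_two, mul_inv_cancel_right]
  obtain ⟨f, hf⟩ := exists_sign_of_twisted hNm hRN W hWz hWJ sN (Subtype.ext hss) hsemi
    fun a => havoid _ hWp hWpJ a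
  obtain ⟨r, hr, c', hc'z, hc'n, e⟩ := exists_reduced h f hsJ
  refine ⟨f, c', hc'n, hc'z, ?_⟩
  change f s = -1 at hf
  rw [e, map_mul, show f r = 1 from hr.2, one_mul] at hf
  exact hf

end Setting

end Cfsg.Lib.U6Three

namespace Cfsg.Lib.U6ThreeNine

/-- With a Sylow subgroup of order `3⁷` some normal subgroup has one of order `3⁶`. -/
theorem reduce {G : Type*} [Group G] [Finite G] {D : Cfsg.Lib.U6Three.Data G}
    (T : Cfsg.Lib.U6Three.Setting D) (h : ¬ T.IsThree) :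
    ∃ G0 : Subgroup G, G0.Normal ∧ Subgroup.centralizer (G0 : Set G) ≤ G0 ∧
      ∃ (D0 : Cfsg.Lib.U6Three.Data G0) (T0 : Cfsg.Lib.U6Three.Setting D0), T0.IsThree :=
  Cfsg.Lib.U6Three.Setting.reduce_of_sign h (Cfsg.Lib.U6Three.Setting.signCondition h)

end Cfsg.Lib.U6ThreeNine
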