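import Cfsg.Agent.Lib.U6ThreeNine.Coord

/-!
# The codes of the scalar, of the diagonal elements and of the elements permuting the four points
-/

set_option autoImplicit false
set_option linter.unusedSectionVars false
set_option maxRecDepth 20000

namespace Cfsg.Lib.U6ThreeNine

open Cfsg.Lib.U6Three Cfsg.Lib.U62Type Cfsg.Lib.U6ThreeEnd
open Subgroup

/-- A power of the scalar. -/
def om : ℕ → ℕ → ℕ
  | 0, v => v
  | 1, v => ap omC v
  | _, v => ap omC (ap omC v)

/-- A diagonal code. -/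
def diagC (e : List ℕ) : ℕ := mkc fun i => om (e.getD (i / 2) 0) (2 ^ i)

/-- A monomial code: the point `k` goes to `π k` with the scalar `c k`. -/
def monC (π c : List ℕ) : ℕ := mkc fun i =>
  let x := c.getD (i / 2) 0 * 4 ^ π.getD (i / 2) 0
  if i % 2 = 0 then x else ap omC x

/-- A permutation code. -/
def permC (π : List ℕ) : ℕ := monC π [1, 1, 1, 1]

/-- The code of the diagonal element at a point. -/
def dC (k : ℕ) : ℕ := diagC ((List.range 4).map fun i => if i = k then 1 else 0)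

/-- A power below three. -/
def pw (c : ℕ) : ℕ → ℕ
  | 0 => idc
  | 1 => c
  | _ => cm c c

/-- The exponents clearing the scalars of a monomial code. -/
def clrE (π c : List ℕ) : List ℕ := (List.range 4).map fun j => (4 - c.getD (π.idxOf j) 0) % 3

theorem diag_split : ∀ a < 3, ∀ b < 3, ∀ c < 3, ∀ d < 3,
    cm (cm (pw (dC 0) a) (pw (dC 1) b)) (cm (pw (dC 2) c) (pw (dC 3) d)) = diagC [a, b, c, d] := by decide +kernel

/-- The permutations of the points given by the generators. -/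
def permL : List (List ℕ) := [[0, 2, 3, 1], [1, 2, 0, 3], [0, 1, 3, 2]]

theorem clear_ok : ∀ π ∈ permL, ∀ a ∈ [1, 2, 3], ∀ b ∈ [1, 2, 3], ∀ c ∈ [1, 2, 3], ∀ d ∈ [1, 2, 3],
    cm (diagC (clrE π [a, b, c, d])) (monC π [a, b, c, d]) = permC π := by decide +kernel

theorem perm_act : (∀ k < 4, app (uM 0 1) (pts k) = pts ([0, 2, 3, 1].getD k 0)) ∧
    (∀ k < 4, app kM (pts k) = pts ([1, 2, 0, 3].getD k 0)) ∧
    (∀ k < 4, app sM (pts k) = pts ([0, 1, 3, 2].getD k 0)) := by decide +kernel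

theorem permL_facts : ∀ π ∈ permL,
    (∀ k < 4, π.getD k 0 < 4) ∧ [π.getD 0 0, π.getD 1 0, π.getD 2 0, π.getD 3 0] = π := by decide +kernel

theorem scal_facts : (∀ k < 4, ∀ c < 4, ap omC (c * 4 ^ k) = [0, 2, 3, 1].getD c 0 * 4 ^ k) ∧
    (∀ k < 4, mkc (fun i => if i / 2 = k then ap omC (2 ^ i) else 2 ^ i) = dC k) ∧
    mkc (fun i => ap omC (2 ^ i)) = omC := by decide +kernel

theorem conj_four {G : Type*} [Group G] {a b c d x : G} (hb : Commute b x) (hc : Commute c x) (hd : Commute d x) :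
    a * b * c * d * x * (a * b * c * d)⁻¹ = a * x * a⁻¹ := by
  have hh : Commute (b * c * d) x := (hb.mul_left hc).mul_left hd
  calc a * b * c * d * x * (a * b * c * d)⁻¹ = a * (b * c * d * x * (b * c * d)⁻¹) * a⁻¹ := by group
    _ = a * x * a⁻¹ := by rw [hh.eq, mul_inv_cancel_right]

variable {G : Type*} [Group G] [Finite G] {D : Data G} {T : Setting D} {E : T.Scalar}

namespace Base

variable (B : Base E)

/-- A code realised by an element commuting with the scalar. -/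
def Real (c : ℕ) : Prop := ∃ x ∈ B.NR, Commute x E.y ∧ B.κ x = c

variable (h : ¬ T.IsThree) (hl : E.Local)
include h hl

theorem Real.mul {c c' : ℕ} (a : B.Real c) (a' : B.Real c') : B.Real (cm c c') := by
  obtain ⟨x, hx, hxy, rfl⟩ := a
  obtain ⟨x', hx', hxy', rfl⟩ := a'
  exact ⟨x * x', mul_mem hx hx', hxy.mul_left hxy', B.κ_mul h hl hx hx'⟩

theorem real_one : B.Real idc := ⟨1, one_mem _, Commute.one_left _, B.κ_one h hl⟩

theorem real_pw {c : ℕ} (a : B.Real c) : ∀ n, B.Real (pw c n)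
  | 0 => B.real_one h hl
  | 1 => a
  | _ + 2 => a.mul B h hl a

omit h hl in
theorem y_NR : E.y ∈ B.NR := B.H4_NR (P_mem_H4 E.mem E.ct)

omit h hl in
theorem d_NR {k : ℕ} (hk : k < 4) : E.d (pts k) ∈ B.NR :=
  B.H4_NR (P_mem_H4 (E.d_P _) (E.d_t (pts_fst k hk)))

theorem y_bl {k c : ℕ} (hk : k < 4) (hc : c < 4) :
    B.vc (E.y * B.bl k c * E.y⁻¹) = ap omC (c * 4 ^ k) := by
  have e : E.y * B.bl k c * E.y⁻¹ = B.f k * (E.y * B.el c * E.y⁻¹) * (B.f k)⁻¹ := by
    have hy := (B.fy k hk).symm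
    calc _ = E.y * B.f k * B.el c * (E.y * B.f k)⁻¹ := by simp only [bl]; group
      _ = _ := by rw [hy.eq]; group
  obtain ⟨d, hd, r⟩ := B.cover h (T.S.conj_L E.y_z E.ct (B.el_mem c))
  have hv : B.vc (E.y * B.bl k c * E.y⁻¹) = d * 4 ^ k := by
    refine B.vc_eq h hl ?_ ?_
    · interval_cases k <;> interval_cases d <;> norm_num
    · rw [B.rp_single hk hd, e]
      exact Rel.conj (T.mem_H4.1 (B.fH k hk)).1 r
  rw [hv, scal_facts.1 k hk c hc]
  congr 1
  have heq : ∀ d', d' < 4 → Rel T.S.t (B.el d') (E.y * B.el c * E.y⁻¹) → d = d' := fun d' hd' r' =>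
    B.el_inj h hd hd' (r.trans T.S.t_sq (r'.symm T.S.t_sq))
  have hy3 : Rel T.S.t (B.el 3) (E.y * B.b * E.y⁻¹) := B.y_b h
  have hy1 : Rel T.S.t (B.el 1) (E.y * (B.a * B.b) * E.y⁻¹) := by
    have h2 := Rel.mul T.S.t_sq (T.block_L.comm _ (B.el_mem 3)) (Rel.refl T.S.t B.b) hy3
    rw [show E.y * (B.a * B.b) * E.y⁻¹ = B.b * (E.y * B.b * E.y⁻¹) by simp only [b]; group]
    refine Rel.trans T.S.t_sq ?_ h2
    obtain ⟨-, hb, hba, -⟩ := B.rels h
    refine Or.inl ?_
    show B.b * (B.a * B.b) = B.a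
    rw [← mul_assoc, hba, mul_assoc (B.a * B.b), (T.block_L.comm _ B.bL).eq, ← mul_assoc,
      mul_assoc B.a, hb, mul_assoc, T.S.t_sq, mul_one]
  interval_cases c
  · exact heq 0 (by norm_num) (Or.inl (by simp [el]))
  · exact heq 2 (by norm_num) (Or.inl rfl)
  · exact heq 3 (by norm_num) hy3
  · exact heq 1 (by norm_num) hy1

theorem κ_y : B.κ E.y = omC := by
  rw [B.κ_blocks h hl (f := fun i => ap omC (2 ^ i)) (fun k hk => ?_) fun k hk => ?_]
  · exact scal_facts.2.2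
  · rw [B.y_bl h hl hk (by norm_num), one_mul, pow_mul]; norm_num
  · rw [B.y_bl h hl hk (by norm_num), pow_succ', pow_mul]; norm_num

omit hl in
theorem d_off {i k : ℕ} (hi : i < 4) (hk : k < 4) (hne : k ≠ i) (c : ℕ) :
    Commute (E.d (pts k)) (B.bl i c) := by
  have hf := inv_mem (B.fH i hi)
  obtain ⟨w', hw', e⟩ := H4_pt hf (pts_mem k hk)
  rw [inv_inv] at e
  have hw0 : w' ≠ (1, 0, 0, 0) := by
    rintro rfl
    refine hne (pts_inj k hk i hi (T.cv_inj ?_))
    rw [← B.fe i hi, ← e]; group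
  obtain ⟨j, rfl⟩ := ptsA_facts.2.1 w' hw' hw0
  have hd : E.d (pts k) = B.f i * E.d (ptv 0 j) * (B.f i)⁻¹ :=
    (E.conj_d (B.fy i hi) (by rw [← e]; group)).symm
  rw [hd]
  exact (Commute.conj_iff (B.f i)).2 (E.d_ptv_L j (B.el_mem c))

theorem d_on {k : ℕ} (hk : k < 4) (c : ℕ) :
    E.d (pts k) * B.bl k c * (E.d (pts k))⁻¹ = E.y * B.bl k c * E.y⁻¹ := by
  have hc : ∀ v w, Commute (E.d v) (E.d w) := fun v w => Setting.comm_of_P (E.d_P v) (E.d_P w)
  have hs : E.d (pts 0) * E.d (pts 1) * E.d (pts 2) * E.d (pts 3) = E.y := E.d_sum h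
  have ho : ∀ {j}, j < 4 → j ≠ k → Commute (E.d (pts j)) (B.bl k c) := fun hj hne => B.d_off h hk hj hne c
  rw [← hs]
  interval_cases k
  · rw [conj_four (ho (by norm_num) (by norm_num)) (ho (by norm_num) (by norm_num)) (ho (by norm_num) (by norm_num))]
  · rw [(hc (pts 0) (pts 1)).eq,
      conj_four (ho (by norm_num) (by norm_num)) (ho (by norm_num) (by norm_num)) (ho (by norm_num) (by norm_num))]
  · rw [((hc (pts 0) (pts 2)).mul_left (hc (pts 1) (pts 2))).eq, ← mul_assoc (E.d (pts 2)),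
      conj_four (ho (by norm_num) (by norm_num)) (ho (by norm_num) (by norm_num)) (ho (by norm_num) (by norm_num))]
  · rw [(((hc (pts 0) (pts 3)).mul_left (hc (pts 1) (pts 3))).mul_left (hc (pts 2) (pts 3))).eq,
      ← mul_assoc, ← mul_assoc,
      conj_four (ho (by norm_num) (by norm_num)) (ho (by norm_num) (by norm_num)) (ho (by norm_num) (by norm_num))]

theorem κ_d {k : ℕ} (hk : k < 4) : B.κ (E.d (pts k)) = dC k := by
  have key : ∀ i < 4, ∀ c < 4, B.vc (E.d (pts k) * B.bl i c * (E.d (pts k))⁻¹) =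
      if i = k then ap omC (c * 4 ^ i) else c * 4 ^ i := by
    intro i hi c hc
    split
    · subst i; rw [B.d_on h hl hk, B.y_bl h hl hk hc]
    · rw [(B.d_off h hi hk (Ne.symm ‹_›) c).eq, mul_inv_cancel_right, B.vc_bl h hl hi hc]
  rw [B.κ_blocks h hl (f := fun i => if i / 2 = k then ap omC (2 ^ i) else 2 ^ i) (fun i hi => ?_) fun i hi => ?_]
  · exact scal_facts.2.1 k hk
  · rw [key i hi 1 (by norm_num), show (2 * i) / 2 = i by omega, one_mul, pow_mul]; norm_num
  · rw [key i hi 2 (by norm_num), show (2 * i + 1) / 2 = i by omega, pow_succ', pow_mul]; norm_num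

theorem real_d {k : ℕ} (hk : k < 4) : B.Real (dC k) :=
  ⟨_, B.d_NR hk, Setting.comm_of_P (E.d_P _) E.mem, B.κ_d h hl hk⟩

theorem real_diag {a b c d : ℕ} (ha : a < 3) (hb : b < 3) (hc : c < 3) (hd : d < 3) : B.Real (diagC [a, b, c, d]) := by
  rw [← diag_split a ha b hb c hc d hd]
  exact ((B.real_pw h hl (B.real_d h hl (by norm_num)) a).mul B h hl
    (B.real_pw h hl (B.real_d h hl (by norm_num)) b)).mul B h hl
    ((B.real_pw h hl (B.real_d h hl (by norm_num)) c).mul B h hl (B.real_pw h hl (B.real_d h hl (by norm_num)) d))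

/-- Elements permuting the points have monomial codes. -/
theorem mon_code {x : G} (hx : x ∈ T.H4) (hxy : Commute x E.y) {π : ℕ → ℕ} (hπ : ∀ k < 4, π k < 4)
    (he : ∀ k < 4, x * T.cv (pts k) * x⁻¹ = T.cv (pts (π k))) :
    ∃ c : ℕ → ℕ, (∀ k < 4, c k ∈ [1, 2, 3]) ∧
      B.κ x = monC [π 0, π 1, π 2, π 3] [c 0, c 1, c 2, c 3] := by
  classical
  have hex : ∀ k : ℕ, ∃ c, k < 4 → c ∈ [1, 2, 3] ∧ B.vc (x * B.bl k 1 * x⁻¹) = c * 4 ^ π k := by
    intro k
    by_cases hk : k < 4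
    swap
    · exact ⟨0, fun e => absurd e hk⟩
    have hg : x * B.f k ∈ T.H4 := mul_mem hx (B.fH k hk)
    have hge : x * B.f k * T.cv (1, 0, 0, 0) * (x * B.f k)⁻¹ = T.cv (pts (π k)) := by
      rw [← he k hk, ← B.fe k hk]; group
    obtain ⟨c, hc, r⟩ := B.Lc_cover h (hπ k hk) hg hge B.aL
    have eb : x * B.bl k 1 * x⁻¹ = x * B.f k * B.a * (x * B.f k)⁻¹ := by simp only [bl, el]; group
    refine ⟨c, fun _ => ⟨?_, ?_⟩⟩
    · have hc0 : c ≠ 0 := by
        rintro rfl
        rw [B.bl_zero] at r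
        rcases r with r | r
        · exact B.a_ne.1 (conj_eq_one_iff.1 r)
        · rw [one_mul] at r
          refine B.a_ne.2 ?_
          rw [show B.a = (x * B.f k)⁻¹ * (x * B.f k * B.a * (x * B.f k)⁻¹) * (x * B.f k) by group, r,
            (T.mem_H4.1 hg).1.inv_left.eq, inv_mul_cancel_right]
      simp only [List.mem_cons, List.not_mem_nil, or_false]
      omega
    · rw [eb]
      refine B.vc_eq h hl ?_ ?_
      · have hlt := hπ k hk
        generalize π k = j at hlt ⊢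
        interval_cases j <;> interval_cases c <;> norm_num
      · rw [B.rp_single (hπ k hk) hc]; exact r
  choose c hc using hex
  refine ⟨c, fun k hk => (hc k hk).1, ?_⟩
  have hget : ∀ (g : ℕ → ℕ) (k : ℕ), k < 4 → [g 0, g 1, g 2, g 3].getD k 0 = g k := fun g k hk => by
    interval_cases k <;> rfl
  refine B.κ_blocks h hl (fun k hk => ?_) fun k hk => ?_
  · simp only [show (2 * k) / 2 = k by omega, show (2 * k) % 2 = 0 by omega, if_true, hget _ k hk, (hc k hk).2]
  · have e2 : x * B.bl k 2 * x⁻¹ = E.y * (x * B.bl k 1 * x⁻¹) * E.y⁻¹ := by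
      calc x * B.bl k 2 * x⁻¹ = (x * B.f k) * (E.y * B.a * E.y⁻¹) * (x * B.f k)⁻¹ := by simp only [bl, el, b]; group
        _ = ((x * B.f k) * E.y) * B.a * ((x * B.f k) * E.y)⁻¹ := by group
        _ = (E.y * (x * B.f k)) * B.a * (E.y * (x * B.f k))⁻¹ := by rw [(hxy.mul_left (B.fy k hk)).eq]
        _ = _ := by simp only [bl, el]; group
    rw [e2, B.act h hl B.y_NR (B.conj_mem (B.H4_NR hx) (B.bl_mem hk 1)), B.κ_y h hl, (hc k hk).2]
    simp only [show (2 * k + 1) / 2 = k by omega, show (2 * k + 1) % 2 = 1 by omega, one_ne_zero, if_false,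
      hget _ k hk]

theorem real_perm {m : Cols} (hm : m ∈ gensT) {π : List ℕ} (hπ : π ∈ permL)
    (he : ∀ k < 4, app m (pts k) = pts (π.getD k 0)) : B.Real (permC π) := by
  obtain ⟨x, hx, hxy, hxa⟩ := E.gens m hm
  have hπ4 := permL_facts π hπ
  obtain ⟨c, hc, e⟩ := B.mon_code h hl hx hxy (π := fun k => π.getD k 0) hπ4.1 fun k hk => by
    rw [hxa.eq, he k hk]
  simp only [hπ4.2] at e
  rw [← clear_ok π hπ (c 0) (hc 0 (by norm_num)) (c 1) (hc 1 (by norm_num)) (c 2) (hc 2 (by norm_num)) (c 3)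
    (hc 3 (by norm_num)), ← e]
  refine Real.mul B h hl ?_ ⟨x, B.H4_NR hx, hxy, rfl⟩
  have hlt : ∀ n, (4 - n) % 3 < 3 := fun n => Nat.mod_lt _ (by norm_num)
  exact B.real_diag h hl (hlt _) (hlt _) (hlt _) (hlt _)

/-- The transposition and the cycle of the four points. -/
theorem real_sym : B.Real (permC [1, 0, 2, 3]) ∧ B.Real (permC [1, 2, 3, 0]) ∧ B.Real (permC [0, 1, 3, 2]) ∧
    B.Real (permC [0, 2, 3, 1]) := by
  have h0 := B.real_perm h hl (m := uM 0 1) (π := [0, 2, 3, 1]) (by simp [gensT]) (by simp [permL]) perm_act.1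
  have h1 := B.real_perm h hl (m := kM) (π := [1, 2, 0, 3]) (by simp [gensT]) (by simp [permL]) perm_act.2.1
  have h2 := B.real_perm h hl (m := sM) (π := [0, 1, 3, 2]) (by simp [gensT]) (by simp [permL]) perm_act.2.2
  refine ⟨?_, ?_, h2, h0⟩
  · rw [show permC [1, 0, 2, 3] = cm (permC [0, 1, 3, 2]) (cm (permC [1, 2, 0, 3]) (permC [0, 2, 3, 1])) by
      decide +kernel]
    exact h2.mul B h hl (h1.mul B h hl h0)
  · rw [show permC [1, 2, 3, 0] = cm (permC [1, 2, 0, 3]) (permC [0, 1, 3, 2]) by decide +kernel]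
    exact h1.mul B h hl h2

end Base

end Cfsg.Lib.U6ThreeNine
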