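import Cfsg.Agent.Lib.U6Three.Quat

/-!
# The extraspecial subgroup is determined by its centre; odd quotients of the complement
-/

set_option autoImplicit false
set_option linter.unusedSectionVars false
set_option maxRecDepth 4000

namespace Cfsg.Lib.U6Three

open Subgroup
open scoped commutatorElement

theorem sl_root_comm : ∀ u : SL3, u ^ 3 = 1 → u ≠ 1 → ∀ m : SL3, m ^ 4 = 1 →
    ∃ n : SL3, n ^ 4 = 1 ∧ ∃ k : SL3, k ^ 4 = 1 ∧ m = u * n * u⁻¹ * n⁻¹ * (k * k) := by decide +kernel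

variable {G : Type*} [Group G] [Finite G] {D : Data G}

/-- A normal 3-subgroup of the centraliser of the centre fixes both members of a pair modulo the centre. -/
theorem Basis.fix_both {S : Split D} (A : Basis S) {U : Subgroup G} (hU : U ≤ A.Stab)
    (hn : ∀ g, Commute g D.z → ∀ q ∈ U, g * q * g⁻¹ ∈ U) {q : G} (hq : q ∈ U) : ⁅q, A.b1⁆ ∈ D.Zc := by
  obtain ⟨m, hm, m0, m1⟩ := sl_quat.2.2.1 0 1 (Or.inr (by decide))
  obtain ⟨l, hl, e⟩ := A.exists_L hm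
  have hlz := S.L_z hl
  have hqz := (hU hq).1
  have c0 : A.ci (l * A.a1 * l⁻¹) = 0 := by rw [← m0, ← e]; rfl
  have c1 : A.cj (l * A.a1 * l⁻¹) = 1 := by rw [← m1, ← e]; rfl
  obtain ⟨w, hw, ew⟩ := A.nf_coords (S.conj_Q1 (S.L_HN hl) A.ha1)
  rw [c0, c1, zp_zero, zp_one, mul_one] at ew
  have h1 : l * A.a1 * l⁻¹ ∈ D.fixMod q hqz := by
    refine ⟨D.norm_Q l hlz _ A.ha1.1, ?_⟩
    have h2 := (hU (hn _ hlz.inv_left _ hq)).2.1
    rw [show ⁅q, l * A.a1 * l⁻¹⁆ = l * ⁅l⁻¹ * q * l⁻¹⁻¹, A.a1⁆ * l⁻¹ by simp only [commutatorElement_def]; group,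
      (D.comm_Zc hlz h2).eq, mul_inv_cancel_right]
    exact h2
  have h3 := (D.fixMod q hqz).mul_mem ((D.fixMod q hqz).inv_mem ⟨D.Zc_le hw, by
    rw [commutatorElement_eq_one_iff_commute.2 (D.comm_Zc hqz hw)]; exact D.Zc.one_mem⟩) h1
  rw [ew, inv_mul_cancel_left] at h3
  exact h3.2

/-- The extraspecial subgroup depends on the centre only. -/
theorem Data.Q_eq {D'' : Data G} (hz : D''.z ∈ D.Zc) : D''.Q = D.Q := by
  have hc : ∀ g : G, Commute g D''.z ↔ Commute g D.z := fun g => by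
    rcases D.cases_Zc hz with e | e | e
    · exact absurd e D''.z_ne
    · rw [e]
    · rw [e]; exact Commute.inv_right_iff
  obtain ⟨S⟩ := D.exists_split
  obtain ⟨B, hB⟩ := S.exists_basis_of_three D''.Q_pgroup fun g hg => (hc g).1 (D''.comm_z g hg)
  have hn : ∀ g, Commute g D.z → ∀ q ∈ D''.Q, g * q * g⁻¹ ∈ D''.Q := fun g hg => D''.norm_Q g ((hc g).2 hg)
  refine Subgroup.eq_of_le_of_card_ge (fun q hq => ?_) (by rw [D''.card_Q, D.card_Q])
  exact B.mem_Q_of_fix ((hc q).1 (D''.comm_z q hq)) (hB hq).2.1 (B.fix_both hB hn hq) (hB hq).2.2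
    (B.swap.fix_both (fun g hg => B.swap_Stab (hB hg)) hn hq)

/-- A character of order two kills the complement when a 3-element acts on both halves. -/
theorem Basis.sign_kills_ι {S : Split D} (B : Basis S) {x : G} (hx : x ∈ B.Stab) (h1 : B.k1 ⟨x, hx⟩ ≠ 0)
    (h2 : B.k2 ⟨x, hx⟩ ≠ 0) (hx3 : x ^ 3 = 1) (f : G →* ℤˣ) (p : Quat2) : f (D.ι p) = 1 := by
  have hHN : x ∈ S.HN := S.mem_HN_of hx.1 B.ha1 B.a1_not_Zc (by
    rw [Data.conj_eq]; exact S.Q1.mul_mem (D.Zc_le_fixC S.s_z hx.2.1) B.ha1)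
  set X : S.HN := ⟨x, hHN⟩
  let φ : Quat2 →* S.HN := D.ι.codRestrict S.HN S.ι_mem_HN
  have h4 : ∀ (f : S.HN →* SL3) p, f (φ p) ^ 4 = 1 := fun f p => by
    rw [← map_pow, show φ p ^ 4 = 1 from Subtype.ext (D.ι_pow_four p), map_one]
  have hX : X ^ 3 = 1 := Subtype.ext hx3
  have u1 : B.matHom X ≠ 1 := fun e => h1 (B.k1_eq _ (by simpa [zp_zero] using (B.matHom_eq_one.1 e).2))
  have u2 : B.matHom2 X ≠ 1 := fun e => h2 (B.swap.k1_eq _ (by
    show ⁅x, B.b2⁆ * (zp B.a2 0)⁻¹ ∈ D.Zc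
    simpa [zp_zero] using (B.matHom2_eq_one.1 e).2))
  obtain ⟨n1, hn1, k1, hk1, e1⟩ := sl_root_comm _ (by rw [← map_pow, hX, map_one]) u1 _ (h4 B.matHom p)
  obtain ⟨n2, hn2, k2, hk2, e2⟩ := sl_root_comm _ (by rw [← map_pow, hX, map_one]) u2 _ (h4 B.matHom2 p)
  obtain ⟨pn, en1, en2⟩ := B.exists_ι hn1 hn2
  obtain ⟨pk, ek1, ek2⟩ := B.exists_ι hk1 hk2
  change B.matHom (φ pn) = n1 at en1
  change B.matHom2 (φ pn) = n2 at en2
  change B.matHom (φ pk) = k1 at ek1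
  change B.matHom2 (φ pk) = k2 at ek2
  set c : S.HN := X * φ pn * X⁻¹ * (φ pn)⁻¹ * (φ pk * φ pk)
  have hQ : (D.ι p) * (c : G)⁻¹ ∈ D.Q := B.mem_Q_of_mat (g := φ p * c⁻¹)
    (by simp only [c, map_mul, map_inv, en1, ek1, ← e1, mul_inv_cancel])
    (by simp only [c, map_mul, map_inv, en2, ek2, ← e2, mul_inv_cancel])
  have hf1 : f ((D.ι p) * (c : G)⁻¹) = 1 := by
    have h3 : f ((D.ι p) * (c : G)⁻¹) ^ 243 = 1 := by rw [← map_pow, D.pow_243 hQ, map_one]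
    exact eq_one_of_coprime (by decide : Nat.Coprime 2 243) (Int.units_sq _) h3
  have hfc : f (c : G) = 1 := by
    show f (x * D.ι pn * x⁻¹ * (D.ι pn)⁻¹ * (D.ι pk * D.ι pk)) = 1
    rw [map_mul, map_mul, map_mul, map_mul, map_mul, map_inv, map_inv, Int.units_mul_self, mul_one,
      mul_comm (f x) (f (D.ι pn)), mul_inv_cancel_right, mul_inv_cancel]
  rwa [map_mul, map_inv, hfc, inv_one, mul_one] at hf1

end Cfsg.Lib.U6Three
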