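import Cfsg.Agent.Lib.U6ThreeNine.Transfer
import Cfsg.Agent.Lib.U6ThreeNine.Unique
import Cfsg.Agent.Lib.U6Three.Words

/-!
# A normal subgroup with a Sylow 3-subgroup of order `3⁶`, given the sign of an exchanging element
-/

set_option autoImplicit false
set_option linter.unusedSectionVars false
set_option linter.style.haveILetI false

namespace Cfsg.Lib.U6Three

open Subgroup
open scoped commutatorElement

theorem sign_of_odd {G : Type*} [Group G] (f : G →* ℤˣ) {g : G} {n : ℕ} (hn : g ^ n = 1) (ho : n.Coprime 2) :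
    f g = 1 :=
  eq_one_of_coprime ho (by rw [← map_pow, hn, map_one]) (Int.units_sq _)

namespace Setting

variable {G : Type*} [Group G] [Finite G] {D : Data G} (T : Setting D)

/-- There is an element exchanging the halves that some character of order two negates, whenever the
normaliser of the plane moves its centraliser modulo the plane. -/
def SignCondition : Prop :=
  (∃ g ∈ normalizer (T.J : Set G), Commute g D.z ∧ g ∉ T.Fix) →
    ∃ f : G →* ℤˣ, ∃ g ∈ normalizer (T.J : Set G), Commute g D.z ∧ f g = -1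

theorem Q'_eq : ∃ g, T.D'.Q = D.Q.map (MulAut.conj g).toMonoidHom := by
  obtain ⟨g, hg⟩ := T.h.pt
  refine ⟨g, Data.Q_eq (D := D.conjBy g) ?_⟩
  show T.D'.z ∈ zpowers (g * D.z * g⁻¹)
  rcases hg with e | e <;> rw [e]
  · exact mem_zpowers _
  · exact inv_mem_iff.1 (mem_zpowers _)

variable {T} (h : ¬ T.IsThree)
include h

/-- Reduction of an element of the normaliser of the plane to the centraliser of the centre. -/
theorem exists_reduced (f : G →* ℤˣ) {g : G} (hg : g ∈ normalizer (T.J : Set G)) :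
    ∃ r ∈ T.Fix ⊓ f.ker, ∃ c, Commute c D.z ∧ c ∈ normalizer (T.J : Set G) ∧ g = r * c := by
  set K := T.Fix ⊓ f.ker
  have hK : ∀ {a : G} {m : Cols}, T.Act a m → a ^ 243 = 1 → a ∈ K := fun {a m} ha h3 =>
    ⟨three_mem_Fix h ha.norm ⟨5, h3⟩, sign_of_odd f h3 (by decide)⟩
  have hu : ∀ i j, ∃ q ∈ K, T.Act q (uM i j) := fun i j => by
    obtain ⟨q, hq, ha⟩ := T.exists_u i j
    exact ⟨q, hK ha (D.pow_243 hq), ha⟩
  have hv : ∀ i j, ∃ q ∈ K, T.Act q (vM i j) := fun i j => by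
    obtain ⟨q, hq, ha⟩ := T.exists_v i j
    exact ⟨q, hK ha (T.D'.pow_243 hq), ha⟩
  obtain ⟨w, hw, hwa⟩ : ∃ w ∈ K, T.Act w wM := by
    obtain ⟨a, ka, ha⟩ := hu 1 0
    obtain ⟨b, kb, hb⟩ := hv 0 1
    obtain ⟨c, kc, hc⟩ := hv 1 0
    obtain ⟨d, kd, hd⟩ := hu 0 1
    have h := T.act_cmp ha (T.act_cmp hb (T.act_cmp hc (T.act_cmp hd (T.act_cmp hc ha))))
    rw [word_wM.1] at h
    exact ⟨_, mul_mem ka (mul_mem kb (mul_mem kc (mul_mem kd (mul_mem kc ka)))), h⟩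
  obtain ⟨k, hk, hka⟩ : ∃ k ∈ K, T.Act k kM := by
    obtain ⟨a, ka, ha⟩ := hu 0 1
    obtain ⟨b, kb, hb⟩ := hv 0 2
    have h := T.act_cmp ha hb
    rw [word_kM.1] at h
    exact ⟨_, mul_mem ka kb, h⟩
  set z' := T.cv (1, 0, 0, 0)
  obtain ⟨r, hr, hrJ, e⟩ : ∃ r ∈ K, r ∈ normalizer (T.J : Set G) ∧
      (g * z' * g⁻¹ = r * z' * r⁻¹ ∨ g * z' * g⁻¹ = (r * z' * r⁻¹)⁻¹) := by
    rcases T.pt_cases (T.norm_J hg (T.cv_mem _)) (T.cv_z_pt.conj g) with e | e | ⟨i, j, e⟩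
    · exact ⟨1, one_mem _, one_mem _, Or.inl (by simpa [z'] using e)⟩
    · exact ⟨1, one_mem _, one_mem _, Or.inr (by simpa [z'] using e)⟩
    · obtain ⟨u, hu', hua⟩ := hu i j
      refine ⟨u * k, mul_mem hu' hk, mul_mem hua.norm hka.norm, ?_⟩
      rwa [show u * k * z' * (u * k)⁻¹ = T.cv (ptv i j) by
        rw [show u * k * z' * (u * k)⁻¹ = u * (k * z' * k⁻¹) * u⁻¹ by group, hka.eq, hua.eq]
        congr 1
        simp [app, kM, uM, ptv]]
  have hcomm : ∀ {c : G}, c * z' * c⁻¹ = z' → Commute c D.z := fun {c} hc => by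
    have h1 : Commute c z' := mul_inv_eq_iff_eq_mul.1 hc
    have h2 : Commute c (zp z' T.ε⁻¹) := h1.pow_right _
    rwa [show z' = zp D.z T.ε from T.cv_z, zp_zp D.z_cube, mul_inv_cancel₀ T.ε_ne, zp_one] at h2
  have hwz : w * z' * w⁻¹ = z'⁻¹ := by
    rw [hwa.eq]
    refine eq_inv_of_mul_eq_one_left ?_
    rw [← T.cv_add, show app wM (1, 0, 0, 0) + (1, 0, 0, 0) = (0 : V4) by decide +kernel, T.cv_zero]
  rcases e with e | e
  · refine ⟨r, hr, r⁻¹ * g, hcomm ?_, mul_mem (inv_mem hrJ) hg, (mul_inv_cancel_left r g).symm⟩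
    rw [show r⁻¹ * g * z' * (r⁻¹ * g)⁻¹ = r⁻¹ * (g * z' * g⁻¹) * r by group, e]
    group
  · refine ⟨r * w, mul_mem hr hw, (r * w)⁻¹ * g, hcomm ?_, mul_mem (inv_mem (mul_mem hrJ hwa.norm)) hg,
      (mul_inv_cancel_left _ g).symm⟩
    rw [show (r * w)⁻¹ * g * z' * ((r * w)⁻¹ * g)⁻¹ = w⁻¹ * (r⁻¹ * (g * z' * g⁻¹) * r) * w by group, e,
      show r⁻¹ * (r * z' * r⁻¹)⁻¹ * r = z'⁻¹ by group, ← hwz]
    group

theorem sign_nonswap (f : G →* ℤˣ) {c : G} (hc : c ∈ normalizer (T.J : Set G)) (hz : Commute c D.z)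
    (h1 : c * T.B.a1 * c⁻¹ ∈ T.S.Q1) : f c = 1 := by
  obtain ⟨a, b, hm⟩ := nonswap_decomp h hc hz h1
  have hd := T.h.diag T.B T.hx
  have hι := fun p => T.B.sign_kills_ι T.hx hd.1 hd.2 T.D'.z_cube f p
  have ht : f T.S.t = 1 := by obtain ⟨p, hp⟩ := T.S.t_mem; rw [← hp]; exact hι p
  have hs : f T.S.s = 1 := by obtain ⟨p, hp⟩ := T.S.s_mem; rw [← hp]; exact hι p
  obtain ⟨n, hn⟩ := T.B.Stab_pgroup ⟨_, hm⟩
  have he := sign_of_odd f (congrArg Subtype.val hn) (Nat.Coprime.pow_left n (by decide))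
  rw [map_mul, map_mul, show f (bif a then T.S.t else 1) = 1 by cases a <;> [exact map_one f; exact ht],
    show f (bif b then T.S.s else 1) = 1 by cases b <;> [exact map_one f; exact hs], one_mul, one_mul] at he
  exact he

/-- The generated normal subgroup does not contain the whole centraliser of the plane. -/
theorem not_mem_normalClosure (hsign : T.SignCondition) {y : G} (hy : y ∈ T.P)
    (h1 : T.B.k1 ⟨y, T.P_le_Stab hy⟩ = 0) (h2 : T.B.k2 ⟨y, T.P_le_Stab hy⟩ ≠ 0) :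
    y ∉ normalClosure (insert D.z (Set.range D.ι) : Set G) := by
  classical
  set G0 := normalClosure (insert D.z (Set.range D.ι) : Set G)
  have hd := T.h.diag T.B T.hx
  obtain ⟨M, hle, hG0, hM⟩ : ∃ M : Subgroup G, T.B.Stab ≤ M ∧ G0 ≤ M ∧
      ∀ g ∈ M, g ∈ normalizer (T.J : Set G) → g ∈ T.Fix := by
    by_cases hA : ∀ g ∈ normalizer (T.J : Set G), g ∈ T.Fix
    · exact ⟨⊤, le_top, le_top, fun g _ hg => hA g hg⟩
    push Not at hA
    obtain ⟨g0, hg0, hg0F⟩ := hA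
    obtain ⟨r, hr, c, hcz, hcn, rfl⟩ := exists_reduced h 1 hg0
    obtain ⟨f, d, hdn, hdz, hfd⟩ := hsign ⟨c, hcn, hcz, fun hc => hg0F (mul_mem hr.1 hc)⟩
    refine ⟨f.ker, fun g hg => ?_, normalClosure_le_normal ?_, fun g hg hgn => ?_⟩
    · obtain ⟨n, hn⟩ := T.B.Stab_pgroup ⟨g, hg⟩
      exact sign_of_odd f (congrArg Subtype.val hn) (Nat.Coprime.pow_left n (by decide))
    · rintro g (rfl | ⟨p, rfl⟩)
      · exact sign_of_odd f D.z_cube (by decide)
      · exact T.B.sign_kills_ι T.hx hd.1 hd.2 T.D'.z_cube f p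
    obtain ⟨r', hr', c', hc'z, hc'n, rfl⟩ := exists_reduced h f hgn
    refine mul_mem hr'.1 ?_
    by_cases hsw : c' * T.B.a1 * c'⁻¹ ∈ T.S.Q1
    · exact nonswap_Fix h hc'n hc'z hsw
    exfalso
    have hdsw : d * T.B.a1 * d⁻¹ ∉ T.S.Q1 := fun hh => by
      rw [sign_nonswap h f hdn hdz hh] at hfd
      exact absurd hfd (by decide)
    have hcd := sign_nonswap h f (mul_mem hc'n hdn) (hc'z.mul_left hdz)
      (swap_swap hc'z hdz hsw hdsw)
    have hc1 : f c' = 1 := by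
      have := MonoidHom.mem_ker.1 hg
      rwa [map_mul, MonoidHom.mem_ker.1 hr'.2, one_mul] at this
    rw [map_mul, hc1, hfd, one_mul] at hcd
    exact absurd hcd (by decide)
  obtain ⟨f, hf⟩ := exists_hom_three h hle hM hy h1 h2
  intro hyG
  refine hf ?_
  have hι : ∀ p, D.ι p ∈ G0 := fun p => subset_normalClosure (Set.mem_insert_of_mem _ ⟨p, rfl⟩)
  have hz : D.z ∈ G0 := subset_normalClosure (Set.mem_insert _ _)
  have hn : G0.Normal := normalClosure_normal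
  have hQ : ∀ q ∈ D.Q, q ∈ G0 := by
    intro q hq
    obtain ⟨c, hc, m, hm, rfl⟩ := T.S.decomp q hq
    have half : ∀ {j : G}, j ∈ G0 → ∀ {q : G}, q ∈ D.Q → j * q * j⁻¹ * q ∈ D.Zc → q ∈ G0 := fun {j} hj {q} hq hw => by
      refine D.mem_of_sq_mem hq ?_
      have h1 : q * j * q⁻¹ * j⁻¹ ∈ G0 := mul_mem (hn.conj_mem j hj q) (inv_mem hj)
      have h2 := mul_mem h1 (zpowers_le.2 hz hw)
      rwa [show q * j * q⁻¹ * j⁻¹ * (j * q * j⁻¹ * q) = q * q by group] at h2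
    refine mul_mem (half (j := T.S.t) ?_ hc.1 (T.S.t_neg c hc)) (half (j := T.S.s) ?_ hm.1 (T.S.s_neg m hm))
    · obtain ⟨p, hp⟩ := T.S.t_mem; rw [← hp]; exact hι p
    · obtain ⟨p, hp⟩ := T.S.s_mem; rw [← hp]; exact hι p
  have key : G0 ≤ f.ker.map M.subtype := by
    refine (closure_le _).2 fun w hw => ?_
    obtain ⟨a, ha, hc⟩ := Group.mem_conjugatesOfSet_iff.1 hw
    obtain ⟨g, rfl⟩ := isConj_iff.1 hc
    have hmem : g * a * g⁻¹ ∈ M := hG0 (hn.conj_mem a (subset_normalClosure ha) g)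
    refine ⟨⟨_, hmem⟩, ?_, rfl⟩
    show f ⟨_, hmem⟩ = 1
    rcases ha with rfl | ⟨p, rfl⟩
    · have hA := hG0 (hn.conj_mem _ (hQ _ T.B.ha1.1) g)
      have hB := hG0 (hn.conj_mem _ (hQ _ T.B.hb1.1) g)
      rw [show (⟨g * D.z * g⁻¹, hmem⟩ : M) = ⁅(⟨_, hB⟩ : M), ⟨_, hA⟩⁆ from Subtype.ext (by
        show g * D.z * g⁻¹ = ⁅g * T.B.b1 * g⁻¹, g * T.B.a1 * g⁻¹⁆
        rw [← T.B.h1]; simp only [commutatorElement_def]; group),
        map_commutatorElement, commutatorElement_eq_one_iff_commute]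
      exact Commute.all _ _
    · refine eq_one_of_coprime (by decide : Nat.Coprime 4 3) ?_ (zmod_three_cube _)
      rw [← map_pow, show (⟨g * D.ι p * g⁻¹, hmem⟩ : M) ^ 4 = 1 from Subtype.ext (by
        show (g * D.ι p * g⁻¹) ^ 4 = 1
        rw [conj_pow, D.ι_pow_four]; group), map_one]
  obtain ⟨w, hw, e⟩ := key hyG
  exact (show w = ⟨y, hle (T.P_le_Stab hy)⟩ from Subtype.ext e) ▸ hw

end Setting

/-- The data on a normal subgroup containing the centre, the subgroup and a moved conjugate. -/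
def Data.restrict {G : Type*} [Group G] [Finite G] (D : Data G) (G0 : Subgroup G) (hQ : D.Q ≤ G0)
    (hι : ∀ p, D.ι p ∈ G0)
    (hw : ∃ g ∈ G0, Commute (g * D.z * g⁻¹) D.z ∧ g * D.z * g⁻¹ ∉ zpowers D.z) : Data G0 where
  z := ⟨D.z, hQ D.z_mem⟩
  hz := (Subgroup.orderOf_mk D.z _).trans D.hz
  Q := D.Q.subgroupOf G0
  card_Q := (Nat.card_congr (subgroupOfEquivOfLe hQ).toEquiv).trans D.card_Q
  z_mem := mem_subgroupOf.2 D.z_mem
  comm_z := fun q hq => Subtype.ext (D.comm_z q (mem_subgroupOf.1 hq)).eq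
  norm_Q := fun g hg q hq => mem_subgroupOf.2 (D.norm_Q g (congrArg Subtype.val hg.eq) q (mem_subgroupOf.1 hq))
  center_Q := fun x hx hc => by
    obtain ⟨k, hk⟩ := mem_zpowers_iff.1 (D.center_Q x (mem_subgroupOf.1 hx) fun y hy =>
      congrArg Subtype.val (hc ⟨y, hQ hy⟩ (mem_subgroupOf.2 hy)).eq)
    exact mem_zpowers_iff.2 ⟨k, Subtype.ext (by simpa using hk)⟩
  comm_Q := fun x hx y hy => by
    obtain ⟨k, hk⟩ := mem_zpowers_iff.1 (D.comm_Q x (mem_subgroupOf.1 hx) y (mem_subgroupOf.1 hy))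
    exact mem_zpowers_iff.2 ⟨k, Subtype.ext (by simpa [commutatorElement_def] using hk)⟩
  cube_Q := fun x hx => by
    obtain ⟨k, hk⟩ := mem_zpowers_iff.1 (D.cube_Q x (mem_subgroupOf.1 hx))
    exact mem_zpowers_iff.2 ⟨k, Subtype.ext (by simpa using hk)⟩
  cent_Q := fun g hg hc => by
    obtain ⟨k, hk⟩ := mem_zpowers_iff.1 (D.cent_Q g (congrArg Subtype.val hg.eq) fun q hq =>
      congrArg Subtype.val (hc ⟨q, hQ hq⟩ (mem_subgroupOf.2 hq)).eq)
    exact mem_zpowers_iff.2 ⟨k, Subtype.ext (by simpa using hk)⟩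
  ι := D.ι.codRestrict G0 hι
  ι_inj := fun a b e => D.ι_inj (congrArg Subtype.val e)
  ι_z := fun p => Subtype.ext (D.ι_z p).eq
  ι_normal := fun g hg p => by
    obtain ⟨p', hp⟩ := D.ι_normal g (congrArg Subtype.val hg.eq) p
    exact ⟨p', mem_subgroupOf.2 hp⟩
  wc := fun g hg => by
    obtain ⟨k, hk⟩ := mem_zpowers_iff.1 (D.wc g (mem_subgroupOf.1 hg))
    exact mem_zpowers_iff.2 ⟨k, Subtype.ext (by simpa using hk)⟩
  nwc := by
    obtain ⟨g, hg, h1, h2⟩ := hw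
    refine ⟨⟨g, hg⟩, Subtype.ext h1.eq, fun hh => h2 ?_⟩
    obtain ⟨k, hk⟩ := mem_zpowers_iff.1 hh
    exact mem_zpowers_iff.2 ⟨k, by simpa using congrArg Subtype.val hk⟩

namespace Setting

variable {G : Type*} [Group G] [Finite G] {D : Data G} {T : Setting D}

/-- The reduction, given the sign. -/
theorem reduce_of_sign (h : ¬ T.IsThree) (hsign : T.SignCondition) :
    ∃ G0 : Subgroup G, G0.Normal ∧ centralizer (G0 : Set G) ≤ G0 ∧
      ∃ (D0 : Data G0) (T0 : Setting D0), T0.IsThree := by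
  haveI : Fact (Nat.Prime 3) := ⟨Nat.prime_three⟩
  set G0 := normalClosure (insert D.z (Set.range D.ι) : Set G) with hG0
  have hn : G0.Normal := normalClosure_normal
  have hι : ∀ p, D.ι p ∈ G0 := fun p => subset_normalClosure (Set.mem_insert_of_mem _ ⟨p, rfl⟩)
  have hz : D.z ∈ G0 := subset_normalClosure (Set.mem_insert _ _)
  have hQ : D.Q ≤ G0 := by
    intro q hq
    obtain ⟨c, hc, m, hm, rfl⟩ := T.S.decomp q hq
    have half : ∀ {j : G}, j ∈ G0 → ∀ {q : G}, q ∈ D.Q → j * q * j⁻¹ * q ∈ D.Zc → q ∈ G0 := fun {j} hj {q} hq hw => by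
      refine D.mem_of_sq_mem hq ?_
      have h1 : q * j * q⁻¹ * j⁻¹ ∈ G0 := mul_mem (hn.conj_mem j hj q) (inv_mem hj)
      have h2 := mul_mem h1 (zpowers_le.2 hz hw)
      rwa [show q * j * q⁻¹ * j⁻¹ * (j * q * j⁻¹ * q) = q * q by group] at h2
    refine mul_mem (half (j := T.S.t) ?_ hc.1 (T.S.t_neg c hc)) (half (j := T.S.s) ?_ hm.1 (T.S.s_neg m hm))
    · obtain ⟨p, hp⟩ := T.S.t_mem; rw [← hp]; exact hι p
    · obtain ⟨p, hp⟩ := T.S.s_mem; rw [← hp]; exact hι p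
  have hQ' : T.D'.Q ≤ G0 := by
    obtain ⟨g, hg⟩ := T.Q'_eq
    rw [hg]
    rintro _ ⟨q, hq, rfl⟩
    exact hn.conj_mem q (hQ hq) g
  have hw : ∃ g ∈ G0, Commute (g * D.z * g⁻¹) D.z ∧ g * D.z * g⁻¹ ∉ zpowers D.z := by
    obtain ⟨a, ha, hA⟩ := T.exists_u 0 1
    obtain ⟨b, hb, hB⟩ := T.exists_v 0 2
    have hk := T.act_cmp hA hB
    rw [word_kM.1] at hk
    have e : a * b * T.cv (1, 0, 0, 0) * (a * b)⁻¹ = T.x := by
      rw [hk.eq, ← T.cv_x]; rfl
    rw [T.cv_z, zp, ← conj_pow] at e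
    have e' : a * b * D.z * (a * b)⁻¹ = zp T.x T.ε⁻¹ := by
      have h3 : (a * b * D.z * (a * b)⁻¹) ^ 3 = 1 := by rw [conj_pow, D.z_cube]; group
      rw [← e, ← zp, zp_zp h3, mul_inv_cancel₀ T.ε_ne, zp_one]
    refine ⟨a * b, mul_mem (hQ ha) (hQ' hb), ?_, ?_⟩ <;> rw [e']
    · exact zp_comm T.h.comm _
    · exact fun hm => T.h.zp_not_mem (inv_ne_zero T.ε_ne) (D.Zc_le hm)
  refine ⟨G0, hn, fun g hg => ?_, D.restrict G0 hQ hι hw, ?_⟩
  · have hc := fun q (hq : q ∈ G0) => (mem_centralizer_iff.1 hg q hq).symm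
    exact zpowers_le.2 hz (D.cent_Q g (hc _ hz) fun q hq => hc q (hQ hq))
  obtain ⟨T0⟩ := (D.restrict G0 hQ hι hw).exists_setting
  refine ⟨T0, ?_⟩
  by_contra h0
  obtain ⟨y, hy, h1, h2⟩ := exists_y h
  refine not_mem_normalClosure h hsign hy h1 h2 ?_
  obtain ⟨S, hS⟩ := T.exists_sylow
  have hW : IsPGroup 3 (T0.B.Stab.map G0.subtype) := T0.B.Stab_pgroup.map _
  obtain ⟨S', hS'⟩ := hW.exists_le_sylow
  have hS'W : (S' : Subgroup G) = T0.B.Stab.map G0.subtype := (Subgroup.eq_of_le_of_card_ge hS' (by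
    rw [card_map_of_injective G0.subtype_injective, card_Stab h0,
      ← Nat.card_congr (S.equiv S').toEquiv, hS, card_Stab h])).symm
  obtain ⟨g, hg⟩ := MulAction.exists_smul_eq G S' S
  have : y ∈ ((g • S' : Sylow 3 G) : Subgroup G) := by rw [hg, hS]; exact T.P_le_Stab hy
  obtain ⟨u, hu, rfl⟩ := this
  obtain ⟨v, -, rfl⟩ := hS'W.le hu
  exact hn.conj_mem _ v.2 g

end Setting

end Cfsg.Lib.U6Three
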