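import Cfsg.Agent.Lib.U6ThreeNine.Monomial

/-!
# The code of the element exchanging two kinds of triples, and the four generators
-/

set_option autoImplicit false
set_option linter.unusedSectionVars false
set_option maxRecDepth 20000

namespace Cfsg.Lib.U6ThreeNine

open Cfsg.Lib.U6Three Cfsg.Lib.U62Type Cfsg.Lib.U6ThreeEnd
open Subgroup
open scoped commutatorElement

/-- The three eigenvectors of the cycle on the last three points. -/
def fV : List ℕ := [0, 84, 108, 120]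

/-- The code with these columns. -/
def fC : ℕ := mkc fun i =>
  let x := [1, 84, 108, 120].getD (i / 2) 0
  if i % 2 = 0 then x else ap omC x

/-- The diagonal code of the point of the second line. -/
def aC : ℕ := diagC [0, 0, 1, 2]

theorem swap_m : (!![0, -1; 1, 0] : Matrix (Fin 2) (Fin 2) (ZMod 3)).det = 1 := by decide +kernel

/-- A quarter turn. -/
def turnM : SL3 := ⟨!![0, -1; 1, 0], swap_m⟩

theorem turnM_pow : turnM ^ 4 = 1 := by decide +kernel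

theorem cols_hom : ∀ s ∈ [[0, 1, 2, 3], [0, 1, 3, 2]], ∀ j < 4,
    ap (cm fC (permC s)) (2 * 4 ^ j) = ap omC (ap (cm fC (permC s)) (4 ^ j)) := by decide +kernel

theorem cyc_clear : ∀ a ∈ [1, 2, 3], ∀ b ∈ [1, 2, 3], ∀ c ∈ [1, 2, 3],
    let M := monC [0, 2, 3, 1] [1, a, b, c]
    cm M (cm M M) = idc → ∃ x < 3, ∃ y < 3, ∃ z < 3,
      cm (diagC [0, x, y, z]) M = cm (permC [0, 2, 3, 1]) (diagC [0, x, y, z]) := by decide +kernel

theorem cyc_flip : ∀ a ∈ [1, 2, 3], ∀ b ∈ [1, 2, 3], ∀ c ∈ [1, 2, 3],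
    let M := monC [0, 3, 1, 2] [1, a, b, c]
    ∃ a' ∈ [1, 2, 3], ∃ b' ∈ [1, 2, 3], ∃ c' ∈ [1, 2, 3],
      cm M M = monC [0, 2, 3, 1] [1, a', b', c'] := by decide +kernel

theorem col_ok : ∀ s ∈ [[0, 1, 2, 3], [0, 1, 3, 2]], ∀ j ∈ [1, 2, 3],
    ∀ v < 256, v ≠ 0 → cform cfgU v 1 = 0 → cform cfgU v 2 = 0 →
      ap (permC [0, 2, 3, 1]) v = om (s.getD j 0 - 1) v →
        ∃ k < 3, v = om k (fV.getD (s.getD j 0) 0) := by decide +kernel

theorem a_scal : ∀ j ∈ [1, 2, 3], ap aC (4 ^ j) = om ([0, 1, 2, 3].getD j 0 - 1) (4 ^ j) ∧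
    ap (cm aC aC) (4 ^ j) = om ([0, 1, 3, 2].getD j 0 - 1) (4 ^ j) ∧ 4 ^ j < 256 ∧
    cform cfgU (4 ^ j) 1 = 0 ∧ cform cfgU (4 ^ j) 2 = 0 := by decide +kernel

theorem fC_perm : cm (cm fC (permC [0, 1, 3, 2])) (permC [0, 1, 3, 2]) = fC := by decide +kernel

theorem cols_eq : ∀ s ∈ [[0, 1, 2, 3], [0, 1, 3, 2]], permC s < 2 ^ 64 ∧
    ∀ j < 4, ap (cm fC (permC s)) (4 ^ j) = if j = 0 then 1 else fV.getD (s.getD j 0) 0 := by decide +kernel

theorem word_gens : gensU.getD 0 0 = diagC [1, 2, 0, 0] ∧ gensU.getD 1 0 = permC [1, 0, 2, 3] ∧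
    gensU.getD 2 0 = permC [1, 2, 3, 0] ∧
    gensU.getD 3 0 = cm fC (cm (permC [1, 0, 2, 3]) (cm fC (cm (permC [1, 2, 3, 0])
      (cm fC (cm fC (permC [1, 2, 3, 0])))))) := by decide +kernel

theorem om_add : ∀ a < 3, ∀ b < 3, ∀ v < 256, om a (om b v) = om ((a + b) % 3) v := by decide +kernel

theorem diag_col : ∀ a < 3, ∀ b < 3, ∀ c < 3, ∀ j < 4,
    ap (diagC [0, a, b, c]) (4 ^ j) = om ([0, a, b, c].getD j 0) (4 ^ j) ∧
    ap (diagC [0, a, b, c]) (2 * 4 ^ j) = ap omC (om ([0, a, b, c].getD j 0) (4 ^ j)) := by decide +kernel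

theorem ap_om {u : ℕ} (hu : ∀ v, ap u (ap omC v) = ap omC (ap u v)) : ∀ k v, ap u (om k v) = om k (ap u v)
  | 0, _ => rfl
  | 1, v => hu v
  | _ + 2, v => by show ap u (ap omC (ap omC v)) = _; rw [hu, hu]; rfl

theorem omC_sq : aC < 2 ^ 64 ∧ cm aC (cm aC aC) = idc ∧
    cm (cm (cm (dC 3) (dC 3)) (dC 2)) idc = aC := by decide +kernel

variable {G : Type*} [Group G] [Finite G] {D : Data G} {T : Setting D} {E : T.Scalar}

theorem pts_move {X M : G} {w : G} (hw : Commute X w) {c : G} (hc : Commute X c) {b : G} (e : M = w * c * b)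
    (hX : Commute X M) : Commute X b := by
  subst e
  have := (hw.mul_right hc).inv_right.mul_right hX
  rwa [inv_mul_cancel_left] at this

namespace Base

variable (B : Base E) (h : ¬ T.IsThree) (hl : E.Local)
include h hl

theorem bl_zero_L (c : ℕ) : B.bl 0 c ∈ T.S.L := by
  have e : T.S.L.map (MulAut.conj (B.f 0)).toMonoidHom = T.S.L.map (MulAut.conj (1 : G)).toMonoidHom := by
    refine T.L_conj_eq (B.fH 0 (by norm_num)) (one_mem _) ?_
    rw [B.fe 0 (by norm_num), show pts 0 = (1, 0, 0, 0) from rfl]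
    group
  obtain ⟨l, hl', el'⟩ := e.le (B.bl_Lc 0 c)
  rw [← el']
  simpa using hl'

theorem κ_q (x : G) (hx : x ∈ B.NR) {v : ℕ} (hv : v < 256) : qU (ap (B.κ x) v) = qU v := by
  have hr := B.rp_mem v
  have e1 := B.vc_sq h hl (B.conj_mem hx hr)
  rw [show x * B.rp v * x⁻¹ * (x * B.rp v * x⁻¹) = x * (B.rp v * B.rp v) * x⁻¹ by group, B.vc_sq h hl hr,
    B.act h hl hx hr, B.vc_rp h hl hv] at e1
  have h1 : ∀ w < 256, qU w = 0 ∨ qU w = 1 := fun w hw => by have := (qU_lt w hw).1; omega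
  have hxt := (B.mem_NR.1 hx).1
  rcases h1 v hv with a | a <;> rcases h1 (ap (B.κ x) v) (ap_lt _ _) with b | b <;>
    simp only [a, b, if_true, zero_ne_one, if_false] at e1 ⊢
  · rw [mul_one, mul_inv_cancel] at e1; exact absurd e1.symm t_ne_one
  · rw [hxt.eq, mul_inv_cancel_right] at e1; exact absurd e1 t_ne_one

theorem κ_form (x : G) (hx : x ∈ B.NR) {u v : ℕ} (hu : u < 256) (hv : v < 256) :
    cform cfgU (ap (B.κ x) u) (ap (B.κ x) v) = cform cfgU u v := by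
  show qU (ap (B.κ x) u ^^^ ap (B.κ x) v) ^^^ qU (ap (B.κ x) u) ^^^ qU (ap (B.κ x) v) = qU (u ^^^ v) ^^^ qU u ^^^ qU v
  rw [← ap_xor, B.κ_q h hl x hx (xor_lt hu hv), B.κ_q h hl x hx hu, B.κ_q h hl x hx hv]

theorem κ_omega {x : G} (hx : x ∈ B.NR) (hxy : Commute x E.y) (v : ℕ) :
    ap (B.κ x) (ap omC v) = ap omC (ap (B.κ x) v) := by
  rw [← ap_cm, ← ap_cm, ← B.κ_y h hl, ← B.κ_mul h hl hx B.y_NR, ← B.κ_mul h hl B.y_NR hx, hxy.eq]

theorem κ_inj {x : G} (hx : x ∈ B.NR) {v : ℕ} (hv : v < 256) (e : ap (B.κ x) v = 0) : v = 0 := by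
  have := congrArg (ap (B.κ x⁻¹)) e
  rwa [← ap_cm, ← B.κ_mul h hl (inv_mem hx) hx, inv_mul_cancel, B.κ_one h hl, ap_idc hv, ap_zero] at this

theorem κ_a2 : B.κ T.B.a2 = aC := by
  have e : T.B.a2 = (E.d (pts 3))⁻¹ * E.d (pts 2) := by
    rw [E.d_div, ← T.cv_a2]; congr 1
  have e2 : (E.d (pts 3))⁻¹ = E.d (pts 3) * E.d (pts 3) := inv_eq_of_mul_eq_one_right (by
    have := E.d_cube h (pts 3)
    rwa [pow_three] at this)
  rw [e, e2, B.κ_mul h hl (mul_mem (B.d_NR (by norm_num)) (B.d_NR (by norm_num))) (B.d_NR (by norm_num)),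
    B.κ_mul h hl (B.d_NR (by norm_num)) (B.d_NR (by norm_num)), B.κ_d h hl (by norm_num), B.κ_d h hl (by norm_num)]
  conv_rhs => rw [← omC_sq.2.2, cm_idc (cm_lt _ _)]

/-- An element of the second quaternion group moving the second line. -/
theorem exists_turn : ∃ l, ∃ M, l ∈ B.NR ∧ Commute l E.y ∧ (∀ c, Commute l (B.bl 0 c)) ∧
    M = l * T.B.a2 * l⁻¹ ∧ M ^ 3 = 1 ∧ M ∈ B.NR ∧
    ∃ π ∈ [[0, 2, 3, 1], [0, 3, 1, 2]], ∃ a ∈ [1, 2, 3], ∃ b ∈ [1, 2, 3], ∃ c ∈ [1, 2, 3],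
      B.κ M = monC π [1, a, b, c] := by
  obtain ⟨l, hlL, hm⟩ := T.B.swap.exists_L turnM_pow
  have hlt : Commute l T.S.t := T.S.swap.L_s hlL
  have hlz : Commute l D.z := T.S.swap.L_z hlL
  have hlQ1 : ∀ u ∈ T.S.Q1, Commute l u := fun u hu => ((T.S.swap.mem_L.1 hlL).2 u hu).symm
  have hly : Commute l E.y := (Setting.cent_L_of (T := T.swap) E.y_z E.cs E.q2 hlL).symm
  obtain ⟨M, hM⟩ : ∃ M, M = l * T.B.a2 * l⁻¹ := ⟨_, rfl⟩
  have hMQ : M ∈ T.S.Q2 := hM ▸ T.S.swap.conj_Q1 (T.S.swap.L_HN hlL) T.B.ha2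
  have hcj : T.B.swap.cj M = 1 := by
    have := congrArg (fun m : SL3 => m.1 1 0) hm
    rw [hM]
    simpa [Basis.matHom, Basis.mat, Basis.swap, turnM] using this
  obtain ⟨w, hw, ew⟩ := T.B.swap.nf_coords (show M ∈ T.S.swap.Q1 from hMQ)
  rw [hcj, zp_one] at ew
  change M = w * zp T.B.a2 (T.B.swap.ci M) * T.B.b2 at ew
  have hMH : M ∈ T.H4 := T.Q2_le_H4 hMQ
  have hMy : Commute M E.y := (E.q2 M hMQ).symm
  have hM0 : M * T.cv (pts 0) * M⁻¹ = T.cv (pts 0) := by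
    rw [show pts 0 = (1, 0, 0, 0) from rfl, T.cv_z, ((zp_comm (D.comm_z M hMQ.1).symm T.ε).symm).eq,
      mul_inv_cancel_right]
  have hmove : ∀ k < 4, k ≠ 0 → M * T.cv (pts k) * M⁻¹ ≠ T.cv (pts k) := by
    intro k hk hk0 e
    have hw0 : pts k ≠ (1, 0, 0, 0) := fun e' => hk0 (pts_inj k hk 0 (by norm_num) e')
    obtain ⟨j, ej⟩ := ptsA_facts.2.1 _ (pts_mem k hk) hw0
    rw [ej] at e
    have hXS : T.cv (ptv 0 j) ∈ T.B.Stab := T.J_le_Stab (T.cv_mem _)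
    have hXb : Commute (T.cv (ptv 0 j)) T.B.b2 := pts_move (D.comm_Zc hXS.1 hw)
      ((zp_comm ((T.cv_a2 ▸ T.h.comm_P T.B T.hx (T.cv_P (ptv 0 j)) (T.cv_mem _)) :
        Commute (T.cv (ptv 0 j)) T.B.a2).symm _).symm) ew (mul_inv_eq_iff_eq_mul.1 e).symm
    have h0 : T.B.k2 ⟨_, hXS⟩ = 0 := T.B.swap.k1_eq ⟨_, T.B.swap_Stab hXS⟩ (by
      show ⁅T.cv (ptv 0 j), T.B.b2⁆ * (zp T.B.a2 0)⁻¹ ∈ D.Zc
      rw [zp_zero, inv_one, mul_one, commutatorElement_eq_one_iff_commute.2 hXb]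
      exact D.Zc.one_mem)
    exact (T.h.diag T.B T.hx).2 ((T.kappa_ptv 0 j).2 ▸ h0)
  have hex : ∀ k : {k : ℕ // k < 4}, ∃ i, i < 4 ∧ M * T.cv (pts k.1) * M⁻¹ = T.cv (pts i) := fun k => by
    obtain ⟨w', hw', e⟩ := H4_pt hMH (pts_mem k.1 k.2)
    obtain ⟨i, hi, rfl⟩ := pts_cases hw'
    exact ⟨i, hi, e⟩
  choose π hπ4 hπe using hex
  obtain ⟨p, hp⟩ : ∃ p : ℕ → ℕ, p = fun k => if hk : k < 4 then π ⟨k, hk⟩ else 0 := ⟨_, rfl⟩
  have hp4 : ∀ k < 4, p k < 4 := fun k hk => by simp only [hp, dif_pos hk]; exact hπ4 _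
  have hpe : ∀ k < 4, M * T.cv (pts k) * M⁻¹ = T.cv (pts (p k)) := fun k hk => by
    simp only [hp, dif_pos hk]; exact hπe ⟨k, hk⟩
  have hpi : ∀ i < 4, ∀ j < 4, p i = p j → i = j := fun i hi j hj e =>
    pts_inj i hi j hj (T.cv_inj (mul_left_cancel (mul_right_cancel ((hpe i hi).trans (e ▸ (hpe j hj).symm)))))
  have hp0 : p 0 = 0 :=
    pts_inj _ (hp4 0 (by norm_num)) 0 (by norm_num) (T.cv_inj ((hpe 0 (by norm_num)).symm.trans hM0))
  have hpk : ∀ k < 4, k ≠ 0 → p k ≠ k ∧ p k ≠ 0 := fun k hk hk0 =>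
    ⟨fun e => hmove k hk hk0 (by rw [hpe k hk, e]), fun e => hk0 (hpi k hk 0 (by norm_num) (e.trans hp0.symm))⟩
  have hcases : [p 0, p 1, p 2, p 3] ∈ [[0, 2, 3, 1], [0, 3, 1, 2]] := by
    have := hp4 1 (by norm_num); have := hp4 2 (by norm_num); have := hp4 3 (by norm_num)
    obtain ⟨a1, b1⟩ := hpk 1 (by norm_num) (by norm_num)
    obtain ⟨a2, b2⟩ := hpk 2 (by norm_num) (by norm_num)
    obtain ⟨a3, b3⟩ := hpk 3 (by norm_num) (by norm_num)
    have n12 : p 1 ≠ p 2 := fun e => absurd (hpi 1 (by norm_num) 2 (by norm_num) e) (by norm_num)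
    have n13 : p 1 ≠ p 3 := fun e => absurd (hpi 1 (by norm_num) 3 (by norm_num) e) (by norm_num)
    have n23 : p 2 ≠ p 3 := fun e => absurd (hpi 2 (by norm_num) 3 (by norm_num) e) (by norm_num)
    simp only [List.mem_cons, List.not_mem_nil, or_false, List.cons.injEq, and_true, hp0, true_and]
    omega
  obtain ⟨c, hc, eκ⟩ := B.mon_code h hl hMH hMy hp4 hpe
  have hc0 : c 0 = 1 := by
    have hfix : Commute M (B.bl 0 1) := (T.S.mem_L.1 (B.bl_zero_L h hl 1)).2 M hMQ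
    have e1 : B.vc (M * B.bl 0 1 * M⁻¹) = ap (B.κ M) 1 := by
      rw [B.act h hl (B.H4_NR hMH) (B.bl_mem (by norm_num) 1), B.vc_bl h hl (by norm_num) (by norm_num)]
      norm_num
    have h0 : ap (monC [p 0, p 1, p 2, p 3] [c 0, c 1, c 2, c 3]) (2 ^ 0) = c 0 := by
      rw [ap_pow (by norm_num : 0 < 8), monC, byte_mkc ?_ (by norm_num)]
      · simp [hp0]
      intro i hi
      have hi4 : i / 2 < 4 := by omega
      split
      · have hb := hc _ hi4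
        have hb' := hp4 _ hi4
        have e4 : ∀ (g : ℕ → ℕ) (k : ℕ), k < 4 → [g 0, g 1, g 2, g 3].getD k 0 = g k := fun g k hk => by
          interval_cases k <;> rfl
        rw [e4 c _ hi4, e4 p _ hi4]
        simp only [List.mem_cons, List.not_mem_nil, or_false] at hb
        generalize p (i / 2) = q at hb' ⊢
        rcases hb with r | r | r <;> rw [r] <;> interval_cases q <;> norm_num
      · exact ap_lt _ _
    rw [hfix.eq, mul_inv_cancel_right, B.vc_bl h hl (by norm_num) (by norm_num), eκ] at e1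
    rw [pow_zero] at h0
    simpa [h0] using e1.symm
  refine ⟨l, M, B.mem_NR.2 ⟨hlt, hl.swapL l hlL⟩, hly, fun c => Setting.cent_L_of hlz hlt hlQ1 (B.bl_zero_L h hl c),
    hM, ?_, B.H4_NR hMH, _, hcases, c 1, hc 1 (by norm_num), c 2, hc 2 (by norm_num), c 3, hc 3 (by norm_num), ?_⟩
  · rw [hM, conj_pow, T.B.a2_cube, mul_one, mul_inv_cancel]
  · rw [eκ, hc0]

theorem real_turn : B.Real fC := by
  obtain ⟨l, M, hlN, hly, hlL, hM, hM3, hMN, π, hπ, a, ha, b, hb, c, hc, eM⟩ := B.exists_turn h hl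
  have ha2N : T.B.a2 ∈ B.NR := by
    have := mul_mem (mul_mem (inv_mem hlN) hMN) hlN
    rwa [hM, show l⁻¹ * (l * T.B.a2 * l⁻¹) * l = T.B.a2 by group] at this
  have hcomm : cm (B.κ l) aC = cm (B.κ M) (B.κ l) := by
    rw [← B.κ_a2 h hl, ← B.κ_mul h hl hlN ha2N, ← B.κ_mul h hl hMN hlN, hM]
    congr 1; group
  have hcube : cm (B.κ M) (cm (B.κ M) (B.κ M)) = idc := by
    rw [← B.κ_mul h hl hMN hMN, ← B.κ_mul h hl hMN (mul_mem hMN hMN), ← pow_three, hM3, B.κ_one h hl]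
  -- the permutation is the standard cycle, for one of the two diagonal codes
  obtain ⟨s, hs, A, hA, a', ha', b', hb', c', hc', e, hcube'⟩ : ∃ s ∈ [[0, 1, 2, 3], [0, 1, 3, 2]], ∃ A,
      (∀ j ∈ [1, 2, 3], ap A (4 ^ j) = om (s.getD j 0 - 1) (4 ^ j)) ∧
      ∃ a ∈ [1, 2, 3], ∃ b ∈ [1, 2, 3], ∃ c ∈ [1, 2, 3],
        cm (B.κ l) A = cm (monC [0, 2, 3, 1] [1, a, b, c]) (B.κ l) ∧
        (let M := monC [0, 2, 3, 1] [1, a, b, c]; cm M (cm M M) = idc) := by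
    simp only [List.mem_cons, List.not_mem_nil, or_false] at hπ
    rcases hπ with rfl | rfl
    · exact ⟨_, List.mem_cons_self, aC, fun j hj => (a_scal j hj).1, a, ha, b, hb, c, hc, eM ▸ hcomm, eM ▸ hcube⟩
    · obtain ⟨a', ha', b', hb', c', hc', e'⟩ := cyc_flip a ha b hb c hc
      rw [← eM] at e'
      refine ⟨[0, 1, 3, 2], by simp, cm aC aC, fun j hj => (a_scal j hj).2.1, a', ha', b', hb', c', hc', ?_, ?_⟩
      · rw [← e', ← cm_assoc, hcomm, cm_assoc, hcomm, ← cm_assoc]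
      · show cm _ (cm _ _) = idc
        rw [← e']
        have : cm (cm (B.κ M) (B.κ M)) (cm (cm (B.κ M) (B.κ M)) (cm (B.κ M) (B.κ M))) =
            cm (cm (B.κ M) (cm (B.κ M) (B.κ M))) (cm (B.κ M) (cm (B.κ M) (B.κ M))) := by simp only [cm_assoc]
        rw [this, hcube, idc_cm (show idc < 2 ^ 64 by decide +kernel)]
  obtain ⟨x, hx, y, hy, z, hz, eD⟩ := cyc_clear a' ha' b' hb' c' hc' hcube'
  obtain ⟨u, hu⟩ : ∃ u, u = cm (diagC [0, x, y, z]) (B.κ l) := ⟨_, rfl⟩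
  obtain ⟨g, hgN, hgy, hgκ⟩ := (B.real_diag h hl (by norm_num : 0 < 3) hx hy hz).mul B h hl ⟨l, hlN, hly, rfl⟩
  rw [← hu] at hgκ
  have heq : cm u A = cm (permC [0, 2, 3, 1]) u := by rw [hu, cm_assoc, e, ← cm_assoc, eD, cm_assoc]
  have h1 : ap u 1 = 1 := by
    have : B.vc (l * B.bl 0 1 * l⁻¹) = ap (B.κ l) (4 ^ 0) := by
      rw [B.act h hl hlN (B.bl_mem (by norm_num) 1), B.vc_bl h hl (by norm_num) (by norm_num), one_mul]
    rw [(hlL 1).eq, mul_inv_cancel_right, B.vc_bl h hl (by norm_num) (by norm_num)] at this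
    norm_num at this
    rw [hu, ap_cm, ← this, show (1 : ℕ) = 4 ^ 0 by norm_num, (diag_col x hx y hy z hz 0 (by norm_num)).1]
    rfl
  have hom : ∀ v, ap u (ap omC v) = ap omC (ap u v) := hgκ ▸ B.κ_omega h hl hgN hgy
  have h2 : ap u 2 = 2 := by rw [show 2 = ap omC 1 by decide +kernel, hom, h1]
  have hcol : ∀ j ∈ [1, 2, 3], ∃ k < 3, ap u (4 ^ j) = om k (fV.getD (s.getD j 0) 0) := by
    intro j hj
    obtain ⟨-, -, hlt, f1, f2⟩ := a_scal j hj
    have hform : ∀ {v}, v < 256 → ap u v = v → cform cfgU (4 ^ j) v = 0 → cform cfgU (ap u (4 ^ j)) v = 0 := by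
      intro v hv e1 e2
      have := B.κ_form h hl g hgN hlt hv
      rwa [hgκ, e1, e2] at this
    refine col_ok s hs j hj _ (ap_lt _ _) (fun e0 => ?_) (hform (by norm_num) h1 f1) (hform (by norm_num) h2 f2) ?_
    · have := B.κ_inj h hl hgN hlt (hgκ ▸ e0)
      exact absurd this (pow_ne_zero j (by norm_num))
    · rw [← ap_cm, ← heq, ap_cm, hA j hj, ap_om hom]
  obtain ⟨k1, hk1, e1⟩ := hcol 1 (by simp)
  obtain ⟨k2, hk2, e2⟩ := hcol 2 (by simp)
  obtain ⟨k3, hk3, e3⟩ := hcol 3 (by simp)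
  obtain ⟨n, hn⟩ : ∃ n : ℕ → ℕ, n = fun k => (3 - k) % 3 := ⟨_, rfl⟩
  have hn3 : ∀ k, n k < 3 := fun k => hn ▸ Nat.mod_lt _ (by norm_num)
  have key : cm u (diagC [0, n k1, n k2, n k3]) = cm fC (permC s) := by
    have hcols : ∀ j < 4, ap (cm u (diagC [0, n k1, n k2, n k3])) (4 ^ j) = ap (cm fC (permC s)) (4 ^ j) := by
      intro j hj
      rw [ap_cm, (diag_col _ (hn3 k1) _ (hn3 k2) _ (hn3 k3) j hj).1, ap_om hom, (cols_eq s hs).2 j hj]
      have hfin : ∀ k < 3, ∀ v < 256, om (n k) (om k v) = v := fun k hk v hv => by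
        rw [om_add _ (hn3 k) k hk v hv, show (n k + k) % 3 = 0 by simp only [hn]; omega]; rfl
      have hfV : ∀ i, fV.getD i 0 < 256 := fun i => by
        rcases i with _ | _ | _ | _ | i <;> norm_num [fV]
      interval_cases j
      · simpa [om] using h1
      · simp only [if_neg (show (1 : ℕ) ≠ 0 by norm_num), e1]; exact hfin k1 hk1 _ (hfV _)
      · simp only [if_neg (show (2 : ℕ) ≠ 0 by norm_num), e2]; exact hfin k2 hk2 _ (hfV _)
      · simp only [if_neg (show (3 : ℕ) ≠ 0 by norm_num), e3]; exact hfin k3 hk3 _ (hfV _)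
    have homF := cols_hom s hs
    rw [← mkc_byte (cm_lt u _), ← mkc_byte (cm_lt fC (permC s))]
    refine mkc_congr fun i hi => ?_
    rw [← ap_pow hi, ← ap_pow hi]
    have hj : i / 2 < 4 := by omega
    rcases Nat.mod_two_eq_zero_or_one i with e | e
    · rw [show 2 ^ i = 4 ^ (i / 2) by interval_cases i <;> simp_all]
      exact hcols _ hj
    · rw [show 2 ^ i = 2 * 4 ^ (i / 2) by interval_cases i <;> simp_all, homF _ hj, ap_cm,
        (diag_col _ (hn3 k1) _ (hn3 k2) _ (hn3 k3) _ hj).2, hom, ← (diag_col _ (hn3 k1) _ (hn3 k2) _ (hn3 k3) _ hj).1,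
        ← ap_cm u, hcols _ hj]
  have hR : B.Real (cm fC (permC s)) := key ▸ Real.mul B h hl ⟨g, hgN, hgy, hgκ⟩
    (B.real_diag h hl (by norm_num) (hn3 k1) (hn3 k2) (hn3 k3))
  simp only [List.mem_cons, List.not_mem_nil, or_false] at hs
  rcases hs with rfl | rfl
  · rwa [show cm fC (permC [0, 1, 2, 3]) = fC by decide +kernel] at hR
  · rw [← fC_perm]
    exact hR.mul B h hl (B.real_sym h hl).2.2.1

/-- All four generators are realised. -/
theorem real_gens : ∀ i < 4, B.Real (gensU.getD i 0) := by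
  obtain ⟨hs, hc, -, -⟩ := B.real_sym h hl
  have hF := B.real_turn h hl
  intro i hi
  interval_cases i
  · rw [word_gens.1]; exact B.real_diag h hl (by norm_num) (by norm_num) (by norm_num) (by norm_num)
  · rw [word_gens.2.1]; exact hs
  · rw [word_gens.2.2.1]; exact hc
  · rw [word_gens.2.2.2]
    exact hF.mul B h hl (hs.mul B h hl (hF.mul B h hl (hc.mul B h hl (hF.mul B h hl (hF.mul B h hl hc)))))

end Base

end Cfsg.Lib.U6ThreeNine
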