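import Cfsg.Agent.Lib.U6ThreeNine.Local
import Cfsg.Agent.Lib.U6ThreeNine.LeRt

/-!
# The self-centralising product and the second quaternion group: the case of a Sylow subgroup of order `3⁷`
-/

set_option autoImplicit false
set_option linter.unusedSectionVars false
set_option linter.style.haveILetI false
set_option synthInstance.maxSize 4000
set_option maxRecDepth 8000

namespace Cfsg.Lib.U6Three

open Subgroup
open scoped commutatorElement

/-- The vectors of the points fixed by the first involution. -/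
abbrev IsPtA (v : V4) : Prop := v = (1, 0, 0, 0) ∨ v = -(1, 0, 0, 0) ∨ ∃ j : ZMod 3, v = ptv 0 j ∨ v = -ptv 0 j

theorem pt_line : ∀ c : ZMod 3, ∀ v : V4, c ≠ 0 → IsPtA v → IsPtA (c • (1, 0, 0, 0) + (0, 0, 1, 0) + v) →
    IsPtA (c • (1, 0, 0, 0) + (0, 0, 2, 0) + v) → v = c • (0, 0, 0, 1) := by decide +kernel

theorem sl_three_conj : ∀ u v : SL3, u ^ 3 = 1 → u ≠ 1 → v ^ 3 = 1 →
    ∃ n : SL3, n ^ 4 = 1 ∧ (n * v = n ∨ n * v = u * n ∨ n * v = u * u * n) := by decide +kernel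

theorem orderOf_dvd_of_mem {G : Type*} [Group G] {H : Subgroup G} {u : G} (hu : u ∈ H) :
    orderOf u ∣ Nat.card H := by
  rw [show orderOf u = orderOf (⟨u, hu⟩ : H) from (Subgroup.orderOf_mk u hu).symm]
  exact orderOf_dvd_natCard _

theorem eps_cases : ∀ c : ZMod 3, c ≠ 0 → c = 1 ∨ c = -1 := by decide

theorem ptv_orbit : ∀ j : ZMod 3, ptv 0 j = app (uM 0 j) (0, 0, 0, 1) := by decide +kernel

theorem self_kernel : ∀ v : V4, ∀ m : ZMod 3, v.2.1 = 0 → v.2.2.2 + m = 0 → (app kM v).2.2.2 + m = 0 →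
    (app (cmp kM kM) v).2.2.2 + m = 0 → (app (cmp kM (uM 0 1)) v).2.2.2 + m = 0 →
    (app (cmp kM (uM 0 2)) v).2.2.2 + m = 0 → v = 0 ∧ m = 0 := by decide +kernel

namespace Setting

variable {G : Type*} [Group G] [Finite G] {D : Data G} {T : Setting D}

/-- An element centralising the first quaternion group commutes with the involution. -/
theorem commute_t_of_L {g : G} (hL : ∀ l ∈ T.S.L, Commute g l) : Commute g T.S.t := hL _ T.S.t_mem_L

theorem not_L_x (h : ∀ l ∈ T.S.L, Commute l T.x) : False := by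
  have h1 := card_dvd_of_le (show T.S.L ≤ zpowers T.S.t from fun l hl => T.fix_x_L hl (h l hl))
  rw [T.S.card_L, Nat.card_zpowers] at h1
  have := (Nat.le_of_dvd (orderOf_pos (T.S.t)) h1).trans
    (orderOf_le_of_pow_eq_one (n := 2) (by norm_num) (by rw [pow_two]; exact T.S.t_sq))
  norm_num at this

theorem isPtA_of_pt {v : V4} (hv : v.2.1 = 0) (hp : Pt D.z (T.cv v)) : IsPtA v := by
  rcases T.pt_cases (T.cv_mem v) hp with e | e | ⟨i, j, e | e⟩
  · exact Or.inl (T.cv_inj e)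
  · exact Or.inr (Or.inl (T.cv_inj (e.trans (T.cv_inv _))))
  · obtain rfl := T.cv_inj e
    obtain rfl : i = 0 := hv
    exact Or.inr (Or.inr ⟨j, Or.inl rfl⟩)
  · have e' := T.cv_inj (e.trans (T.cv_inv _))
    obtain rfl : i = 0 := by
      rw [e'] at hv
      simpa [ptv] using hv
    exact Or.inr (Or.inr ⟨j, Or.inr e'⟩)

/-- The image of the second point is determined by the image of the centre. -/
theorem x_image {g : G} (ht : Commute g T.S.t) (ha : Commute g T.B.a2) {c : ZMod 3} (hc : c ≠ 0)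
    (hz : g * T.cv (1, 0, 0, 0) * g⁻¹ = T.cv (c • (1, 0, 0, 0))) (hJ : g * T.x * g⁻¹ ∈ T.J) :
    g * T.x * g⁻¹ = T.cv (c • (0, 0, 0, 1)) := by
  obtain ⟨v, hv⟩ := T.exists_cv hJ
  have fixed : ∀ u w : V4, u.2.1 = 0 → g * T.cv u * g⁻¹ = T.cv w → w.2.1 = 0 := fun u w hu e =>
    T.cv_fixed (e ▸ (ht.mul_left (T.cv_t hu)).mul_left ht.inv_left)
  have hx0 : g * T.cv (0, 0, 0, 1) * g⁻¹ = T.cv v := by rw [T.cv_x, hv]
  have hv0 := fixed _ _ rfl hx0
  have hab : ∀ b : ZMod 3, g * T.cv (0, 0, b, 0) * g⁻¹ = T.cv (0, 0, b, 0) := fun b => by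
    rw [show ((0, 0, b, 0) : V4) = b • (0, 0, 1, 0) by simp [Prod.ext_iff], T.cv_smul, T.cv_a2,
      ((zp_comm ha.symm b).symm).eq, mul_inv_cancel_right]
  have hpt : ∀ j : ZMod 3, j ≠ 0 → IsPtA (c • (1, 0, 0, 0) + (0, 0, j, 0) + v) := fun j hj => by
    have e : g * T.cv (ptv 0 j) * g⁻¹ = T.cv (c • (1, 0, 0, 0) + (0, 0, j, 0) + v) := by
      rw [show ptv 0 j = (1, 0, 0, 0) + (0, 0, j, 0) + (0, 0, 0, 1) from
        (show ∀ j : ZMod 3, j ≠ 0 → ptv 0 j = (1, 0, 0, 0) + (0, 0, j, 0) + (0, 0, 0, 1) by decide +kernel) j hj,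
        T.cv_add, T.cv_add, T.cv_add, T.cv_add, ← hx0, ← hz]
      conv_rhs => rw [← hab j]
      group
    exact isPtA_of_pt (fixed _ _ rfl e) (e ▸ (T.pt_ptv 0 j).conj g)
  rw [← hv, pt_line c v hc (isPtA_of_pt hv0 (by rw [hv]; exact T.h.pt.conj g)) (hpt 1 (by decide)) (hpt 2 (by decide))]

/-- The centraliser of the centre, the second line and the quaternion group. -/
theorem cent_zL {g : G} (hz : Commute g D.z) (ha : Commute g T.B.a2) (hL : ∀ l ∈ T.S.L, Commute g l) :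
    ∃ p ∈ T.P, (∀ l ∈ T.S.L, Commute p l) ∧ (g = p ∨ g = p * T.S.t) := by
  have main : ∀ g : G, Commute g D.z → Commute g T.B.a2 → (∀ l ∈ T.S.L, Commute g l) →
      (∀ hg : g ∈ T.S.HN, T.B.matHom ⟨g, hg⟩ = 1) → g ∈ T.P := by
    intro g hz ha hL hm
    have hgt : Commute g T.S.t := commute_t_of_L hL
    have hgH := T.HN_of_tz hgt hz
    have hgS : g ∈ T.B.Stab := ⟨hz, (T.B.matHom_eq_one.1 (hm hgH)).1,
      by rw [commutatorElement_eq_one_iff_commute.2 ha]; exact D.Zc.one_mem⟩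
    have hJ := T.h.pt_mem_J T.B T.hx (T.B.Stab.mul_mem (T.B.Stab.mul_mem hgS T.hx) (T.B.Stab.inv_mem hgS))
      (T.h.pt.conj g)
    have e := x_image hgt ha one_ne_zero (by
      rw [one_smul, T.cv_z, ((zp_comm hz.symm T.ε).symm).eq, mul_inv_cancel_right]) hJ
    rw [one_smul, T.cv_x] at e
    exact (T.h.mem_cent_J T.B T.hx).2 ⟨hgS, mul_inv_eq_iff_eq_mul.1 e⟩
  have hgt : Commute g T.S.t := commute_t_of_L hL
  have hgH := T.HN_of_tz hgt hz
  rcases sl_quat.2.2.2.2.1 (T.B.matHom ⟨g, hgH⟩) (fun n hn => by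
    obtain ⟨l, hl, el⟩ := T.B.exists_L hn
    rw [← el]
    exact (show Commute (⟨g, hgH⟩ : T.S.HN) ⟨l, T.S.L_HN hl⟩ from Subtype.ext (hL l hl).eq).map T.B.matHom) with e | e
  · exact ⟨g, main g hz ha hL (fun _ => e), hL, Or.inl rfl⟩
  · have hLt : ∀ l ∈ T.S.L, Commute (g * T.S.t) l := fun l hl => (hL l hl).mul_left (T.S.L_t hl).symm
    refine ⟨g * T.S.t, main _ (hz.mul_left T.S.t_z) (ha.mul_left (D.mem_fixC.1 T.B.ha2).2.symm) hLt (fun hg => ?_),
      hLt, Or.inr (by rw [mul_assoc, T.S.t_sq, mul_one])⟩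
    rw [show (⟨g * T.S.t, hg⟩ : T.S.HN) = ⟨g, hgH⟩ * ⟨T.S.t, T.S.L_HN T.S.t_mem_L⟩ from rfl, map_mul, e,
      T.B.matHom_t T.ta]
    simp

/-- No element centralising the quaternion group and the second line inverts the centre. -/
theorem no_inv_zL {g : G} (ha : Commute g T.B.a2) (hL : ∀ l ∈ T.S.L, Commute g l) :
    g * D.z * g⁻¹ ≠ D.z⁻¹ := by
  intro hgz
  have hgt : Commute g T.S.t := commute_t_of_L hL
  have hxa : Commute T.x T.B.a2 :=
    T.h.comm_P T.B T.hx (T.J_le_P (T.h.x_mem_J T.B T.hx)) (T.cv_a2 ▸ T.cv_mem _)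
  obtain ⟨hat, haz⟩ : Commute T.B.a2 T.S.t ∧ Commute T.B.a2 D.z :=
    ⟨(D.mem_fixC.1 T.B.ha2).2, D.comm_z _ T.B.ha2.1⟩
  set y1 := g * T.x * g⁻¹ with hy1
  have hy1z : Commute y1 D.z := by
    have h1 : Commute y1 (g * D.z * g⁻¹) := by
      simpa [hy1, mul_assoc] using (show Commute T.x D.z from T.hx.1).map (MulAut.conj g).toMonoidHom
    rw [hgz] at h1
    simpa using h1.inv_right
  have hy1t : Commute y1 T.S.t := (hgt.mul_left T.tx.symm).mul_left hgt.inv_left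
  have hy1a : Commute y1 T.B.a2 := (ha.mul_left hxa).mul_left ha.inv_left
  have hy1H := T.HN_of_tz hy1t hy1z
  have hxH : T.x ∈ T.S.HN := T.HN_of_Ca (T.J_le_Ca (T.h.x_mem_J T.B T.hx)) T.hx.1
  set u := T.B.matHom ⟨T.x, hxH⟩
  have hu3 : u ^ 3 = 1 := by
    rw [← map_pow, show (⟨T.x, hxH⟩ : T.S.HN) ^ 3 = 1 from Subtype.ext T.D'.z_cube, map_one]
  have hu1 : u ≠ 1 := fun e => (T.h.diag T.B T.hx).1
    (T.B.k1_eq _ (by simpa [zp_zero] using (T.B.matHom_eq_one.1 e).2))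
  have hv3 : T.B.matHom ⟨y1, hy1H⟩ ^ 3 = 1 := by
    rw [← map_pow, show (⟨y1, hy1H⟩ : T.S.HN) ^ 3 = 1 from Subtype.ext (by
      show (g * T.x * g⁻¹) ^ 3 = 1
      rw [conj_pow, show T.x ^ 3 = 1 from T.D'.z_cube]; group), map_one]
  obtain ⟨n, hn, hcase⟩ := sl_three_conj u _ hu3 hu1 hv3
  obtain ⟨i, hi⟩ : ∃ i : ℕ, n * T.B.matHom ⟨y1, hy1H⟩ = u ^ i * n := by
    rcases hcase with e | e | e
    exacts [⟨0, by rw [pow_zero, one_mul, e]⟩, ⟨1, by rw [pow_one, e]⟩, ⟨2, by rw [pow_two, e]⟩]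
  obtain ⟨l0, hl0, el0⟩ := T.B.exists_L hn
  have hl0t : Commute l0 T.S.t := T.S.L_t hl0
  have hl0z : Commute l0 D.z := T.S.L_z hl0
  have hl0a : Commute l0 T.B.a2 := ((T.S.mem_L.1 hl0).2 _ T.B.ha2).symm
  set y2 := l0 * y1 * l0⁻¹ with hy2
  have hy2H : y2 ∈ T.S.HN := mul_mem (mul_mem (T.S.L_HN hl0) hy1H) (inv_mem (T.S.L_HN hl0))
  have hm2 : T.B.matHom ⟨y2, hy2H⟩ = u ^ i := by
    rw [show (⟨y2, hy2H⟩ : T.S.HN) = ⟨l0, T.S.L_HN hl0⟩ * ⟨y1, hy1H⟩ * ⟨l0, T.S.L_HN hl0⟩⁻¹ from rfl, map_mul,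
      map_mul, map_inv, el0, hi, mul_inv_cancel_right]
  have hy2z : Commute y2 D.z := (hl0z.mul_left hy1z).mul_left hl0z.inv_left
  have hy2a : Commute y2 T.B.a2 := (hl0a.mul_left hy1a).mul_left hl0a.inv_left
  set w : T.S.HN := ⟨y2, hy2H⟩ * (⟨T.x, hxH⟩ ^ i)⁻¹
  have hw : T.B.matHom w = 1 := by rw [map_mul, map_inv, map_pow, hm2, mul_inv_cancel]
  have hwv : (w : G) = y2 * (T.x ^ i)⁻¹ := by simp [w]
  have hwS : y2 * (T.x ^ i)⁻¹ ∈ T.B.Stab := ⟨hy2z.mul_left (T.hx.1.pow_left i).inv_left,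
    hwv ▸ (T.B.matHom_eq_one.1 hw).1,
    by rw [commutatorElement_eq_one_iff_commute.2 (hy2a.mul_left (hxa.pow_left i).inv_left)]; exact D.Zc.one_mem⟩
  have hy2S : y2 ∈ T.B.Stab := by
    have := T.B.Stab.mul_mem hwS (T.B.Stab.pow_mem T.hx i)
    rwa [show y2 * (T.x ^ i)⁻¹ * T.D'.z ^ i = y2 from inv_mul_cancel_right _ _] at this
  set g' := l0 * g
  have hg'x : g' * T.x * g'⁻¹ = y2 := by simp only [g']; rw [hy2, hy1]; group
  have hJ : g' * T.x * g'⁻¹ ∈ T.J := by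
    refine T.h.pt_mem_J T.B T.hx ?_ (T.h.pt.conj g')
    rw [hg'x]; exact hy2S
  have hg'z : g' * T.cv (1, 0, 0, 0) * g'⁻¹ = T.cv ((2 : ZMod 3) • (1, 0, 0, 0)) := by
    rw [show (2 : ZMod 3) • ((1, 0, 0, 0) : V4) = -(1, 0, 0, 0) by decide +kernel, ← T.cv_inv, T.cv_z, zp, ← conj_pow,
      show g' * D.z * g'⁻¹ = D.z⁻¹ by
        rw [show g' * D.z * g'⁻¹ = l0 * (g * D.z * g⁻¹) * l0⁻¹ by simp only [g']; group, hgz, hl0z.inv_right.eq,
          mul_inv_cancel_right], inv_pow]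
  have hxi := x_image (hl0t.mul_left hgt) (hl0a.mul_left ha) (by decide : (2 : ZMod 3) ≠ 0) hg'z hJ
  rw [show (2 : ZMod 3) • ((0, 0, 0, 1) : V4) = -(0, 0, 0, 1) by decide +kernel, ← T.cv_inv, T.cv_x] at hxi
  refine not_L_x (T := T) fun l hl => ?_
  have htc : Commute T.x T.S.t := T.tx.symm
  have hinner : ∀ a ∈ T.S.L, l0 * a * l0⁻¹ * a⁻¹ ∈ zpowers T.S.t := by
    intro a ha
    have sq : ∀ b ∈ T.S.L, b * b ∈ zpowers T.S.t := fun b hb => T.mem_zt (T.block_L.sq b hb)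
    rw [show l0 * a * l0⁻¹ * a⁻¹ = l0 * l0 * (l0⁻¹ * a * (l0⁻¹ * a)) * (a⁻¹ * a⁻¹) by group]
    exact mul_mem (mul_mem (sq _ hl0) (sq _ (mul_mem (inv_mem hl0) ha))) (sq _ (inv_mem ha))
  have hct : ∀ τ ∈ zpowers T.S.t, ∀ {a : G}, Commute a T.S.t → Commute a τ := fun τ hτ a hat' => by
    obtain ⟨k, rfl⟩ := mem_zpowers_iff.1 hτ
    exact hat'.zpow_right k
  obtain ⟨a, ha'⟩ : ∃ a, T.x * l * T.x⁻¹ = a := ⟨_, rfl⟩
  have haL : a ∈ T.S.L := ha' ▸ T.S.conj_L T.hx.1 htc hl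
  obtain ⟨τ1, hτ1, e1⟩ : ∃ τ ∈ zpowers T.S.t, l0 * a * l0⁻¹ = τ * a :=
    ⟨_, hinner a haL, (inv_mul_cancel_right _ _).symm⟩
  obtain ⟨τ2, hτ2, e2⟩ : ∃ τ ∈ zpowers T.S.t, l0 * l * l0⁻¹ = τ * l :=
    ⟨_, hinner l hl, (inv_mul_cancel_right _ _).symm⟩
  have key : l0 * a * l0⁻¹ = T.x⁻¹ * (l0 * l * l0⁻¹) * T.x := by
    have hga : ∀ b ∈ T.S.L, g' * b * g'⁻¹ = l0 * b * l0⁻¹ := fun b hb => by
      rw [show g' * b * g'⁻¹ = l0 * (g * b * g⁻¹) * l0⁻¹ by simp only [g']; group, (hL b hb).eq, mul_inv_cancel_right]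
    rw [← hga a haL, ← hga l hl, ← ha',
      show g' * (T.x * l * T.x⁻¹) * g'⁻¹ = g' * T.x * g'⁻¹ * (g' * l * g'⁻¹) * (g' * T.x * g'⁻¹)⁻¹ by group, hxi,
      inv_inv]
  have hτ : τ1 * a = τ2 * (T.x⁻¹ * l * T.x) := by
    rw [← e1, key, e2, show T.x⁻¹ * (τ2 * l) * T.x = (T.x⁻¹ * τ2) * l * T.x by group,
      (hct τ2 hτ2 htc.inv_left).eq]
    group
  obtain ⟨τ, hτm, hτe⟩ : ∃ τ ∈ zpowers T.S.t, a = τ * (T.x⁻¹ * l * T.x) :=
    ⟨τ1⁻¹ * τ2, mul_mem (inv_mem hτ1) hτ2, by rw [mul_assoc, ← hτ, inv_mul_cancel_left]⟩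
  have hx3 : T.x ^ 3 = 1 := T.D'.z_cube
  have h2 : T.x⁻¹ * l * T.x = τ * l := by
    have hx2 : T.x * T.x = T.x⁻¹ := eq_inv_of_mul_eq_one_left (by rw [← pow_two, ← pow_succ, hx3])
    calc T.x⁻¹ * l * T.x = T.x * (T.x * l * T.x⁻¹) * T.x⁻¹ := by
          rw [show T.x * (T.x * l * T.x⁻¹) * T.x⁻¹ = (T.x * T.x) * l * (T.x * T.x)⁻¹ by group, hx2, inv_inv]
      _ = (T.x * τ) * (T.x⁻¹ * l) := by rw [ha', hτe]; group
      _ = τ * l := by rw [(hct τ hτm htc).eq]; group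
  have hτc : Commute T.x⁻¹ τ := hct τ hτm htc.inv_left
  have h3 : l = τ * τ * τ * l := by
    have e : ∀ b, T.x⁻¹ * (τ * b) * T.x = τ * (T.x⁻¹ * b * T.x) := fun b => by
      rw [← mul_assoc, hτc.eq]; group
    calc l = (T.x ^ 3)⁻¹ * l * T.x ^ 3 := by rw [hx3]; group
      _ = T.x⁻¹ * (T.x⁻¹ * (T.x⁻¹ * l * T.x) * T.x) * T.x := by rw [pow_succ, pow_two]; group
      _ = τ * τ * τ * l := by rw [h2, e, h2, e, e, h2]; group
  have hτ1' : τ = 1 := by
    have hsq : τ * τ = 1 := by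
      obtain ⟨k, rfl⟩ := mem_zpowers_iff.1 hτm
      rw [← (Commute.refl T.S.t).mul_zpow, T.S.t_sq, one_zpow]
    rw [hsq, one_mul] at h3
    exact right_eq_mul.1 h3
  rw [hτ1', one_mul, mul_assoc, inv_mul_eq_iff_eq_mul] at h2
  exact h2

theorem gen_le9 (h : ¬ T.IsThree) {U W : Subgroup G} (hU : (Nat.card U).Coprime 3)
    (hUz : D.z ∈ normalizer (U : Set G)) (hUa : T.B.a2 ∈ normalizer (U : Set G))
    (h1 : ∀ u ∈ U, Commute u D.z → u ∈ W)
    (h2 : ∀ j, ∀ q ∈ T.S.Q2, T.Act q (uM 0 j) → ∀ u ∈ U, Commute (q⁻¹ * u * q) T.B.a2 → u ∈ W) : U ≤ W := by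
  set B0 := zpowers D.z ⊔ zpowers T.B.a2 with hB0
  have hcomm : ∀ a ∈ B0, ∀ b ∈ B0, Commute a b := by
    have hle : B0 ≤ T.J := sup_le (zpowers_le.2 (T.h.z_mem_J T.B T.hx)) (zpowers_le.2 (T.cv_a2 ▸ T.cv_mem _))
    exact fun a ha b hb => T.h.comm_P T.B T.hx (T.h.J_le_P T.B T.hx (hle ha)) (hle hb)
  haveI : IsMulCommutative B0 := ⟨⟨fun a b => Subtype.ext (hcomm a a.2 b b.2).eq⟩⟩
  have hform : ∀ e ∈ B0, ∃ k c : ZMod 3, e = T.cv (k, 0, c, 0) := by
    have hle : B0 ≤ T.J ⊓ centralizer ({T.S.t} : Set G) ⊓ D.Q := sup_le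
      (zpowers_le.2 ⟨⟨T.h.z_mem_J T.B T.hx, mem_centralizer_singleton_iff.2 T.S.t_z.symm⟩, D.z_mem⟩)
      (zpowers_le.2 ⟨⟨T.cv_a2 ▸ T.cv_mem _, mem_centralizer_singleton_iff.2 (D.mem_fixC.1 T.B.ha2).2⟩, T.B.ha2.1⟩)
    intro e he
    obtain ⟨⟨hJ, ht⟩, hQ⟩ := hle he
    obtain ⟨v, rfl⟩ := T.exists_cv hJ
    exact ⟨v.1, v.2.2.1, congrArg T.cv (by
      simp [Prod.ext_iff, T.cv_fixed (mem_centralizer_singleton_iff.1 ht), T.last_zero_of_Q hQ])⟩
  have hB9 : 3 < Nat.card B0 := by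
    have hi : Function.Injective (fun p : ZMod 3 × ZMod 3 => (⟨T.cv (p.1, 0, p.2, 0), by
        rw [show ((p.1, 0, p.2, 0) : V4) = p.1 • (1, 0, 0, 0) + p.2 • (0, 0, 1, 0) by simp [Prod.ext_iff],
          T.cv_add, T.cv_smul, T.cv_smul, T.cv_z, T.cv_a2]
        exact mul_mem (mem_sup_left (zp_mem (zp_mem (mem_zpowers _) _) _)) (mem_sup_right (zp_mem (mem_zpowers _) _))⟩ : B0)) :=
      fun p p' e => by
        have := T.cv_inj (congrArg Subtype.val e)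
        simp only [Prod.mk.injEq, true_and, and_true] at this
        exact Prod.ext this.1 this.2
    have := Nat.card_le_card_of_injective _ hi
    rw [Nat.card_prod, Nat.card_zmod] at this
    omega
  have hcop : (Nat.card B0).Coprime (Nat.card U) := by
    have h27 : Nat.card B0 ∣ 3 ^ 3 := by
      rw [show (3 : ℕ) ^ 3 = 27 by norm_num, ← T.S.card₂]; exact card_dvd_of_le T.B0_le
    exact Nat.Coprime.coprime_dvd_left h27 (hU.symm.pow_left 3)
  refine (Cfsg.Lib.Coprime.le_iSup_centralizer_cocyclic U (sup_le (zpowers_le.2 hUz) (zpowers_le.2 hUa)) hcop).trans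
    (iSup₂_le fun Bc hBc => ?_)
  obtain ⟨hBB, c, hcB, hsup⟩ := hBc
  obtain ⟨e, heB, he1⟩ : ∃ e ∈ Bc, e ≠ 1 := by
    by_contra hh
    push Not at hh
    rw [(eq_bot_iff_forall Bc).2 hh, bot_sup_eq] at hsup
    rw [hB0, ← hsup, Nat.card_zpowers] at hB9
    have : c ^ 3 = 1 := T.S.exp_two (T.B0_le hcB)
    have := orderOf_le_of_pow_eq_one (by norm_num) this
    omega
  intro u hu
  obtain ⟨huU, huB⟩ := mem_inf.1 hu
  have hue : Commute u e := (mem_centralizer_iff.1 huB e heB).symm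
  obtain ⟨k, c', rfl⟩ := hform e (hBB heB)
  rcases B0_cases k c' (fun hh => he1 (by
    simp only [Prod.mk.injEq] at hh
    rw [hh.1, hh.2, show ((0, 0, 0, 0) : V4) = 0 from rfl, T.cv_zero])) with ⟨rfl, hk⟩ | ⟨hc, j, hj⟩
  · rw [T.cv_el, Basis.el, zp_zero, zp_zero, mul_one, mul_one] at hue
    exact h1 u huU (commute_zp_z (mul_ne_zero T.ε_ne hk) hue)
  · obtain ⟨q, hq, hqa⟩ := exists_u_Q2' h j
    refine h2 j q hq hqa u huU ?_
    rw [hj, T.cv_smul, ← hqa.eq, T.cv_a2] at hue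
    have h4 := hue.pow_right (c'⁻¹).val
    have ha3 : (q * T.B.a2 * q⁻¹) ^ 3 = 1 := by rw [conj_pow, T.B.a2_cube]; group
    rw [show zp (q * T.B.a2 * q⁻¹) c' ^ (c'⁻¹).val = zp (zp (q * T.B.a2 * q⁻¹) c') c'⁻¹ from rfl, zp_zp ha3,
      mul_inv_cancel₀ hc, zp_one] at h4
    simpa [mul_assoc] using h4.map (MulAut.conj q⁻¹).toMonoidHom

/-- The centraliser of the quaternion group and the second line has a normal subgroup with all three-regular
elements and of order prime to three. -/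
theorem exists_complement (h : ¬ T.IsThree) : ∃ O : Subgroup G,
    O ≤ centralizer (T.S.L : Set G) ⊓ centralizer ({T.B.a2} : Set G) ∧ (Nat.card O).Coprime 3 ∧
    ∀ u ∈ centralizer (T.S.L : Set G) ⊓ centralizer ({T.B.a2} : Set G), (orderOf u).Coprime 3 → u ∈ O := by
  classical
  haveI : Fact (Nat.Prime 3) := ⟨Nat.prime_three⟩
  set X : Subgroup G := centralizer (T.S.L : Set G) ⊓ centralizer ({T.B.a2} : Set G) with hX
  have hXm : ∀ {g}, g ∈ X ↔ (∀ l ∈ T.S.L, Commute g l) ∧ Commute g T.B.a2 := fun {g} =>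
    Subgroup.mem_inf.trans (and_congr ⟨fun hg l hl => (mem_centralizer_iff.1 hg l hl).symm,
      fun hg => mem_centralizer_iff.2 fun l hl => (hg l hl).symm⟩ mem_centralizer_singleton_iff)
  set W : Subgroup X := (T.P ⊓ centralizer (T.S.L : Set G)).subgroupOf X
  have hWm : ∀ {g : X}, g ∈ W ↔ (g : G) ∈ T.P := fun {g} => mem_subgroupOf.trans
    (Subgroup.mem_inf.trans (and_iff_left (Subgroup.mem_inf.1 g.2).1))
  have hzX : D.z ∈ X := hXm.2 ⟨fun l hl => (T.S.L_z hl).symm, (D.comm_z _ T.B.ha2.1).symm⟩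
  have hzW : (⟨D.z, hzX⟩ : X) ∈ W := hWm.2 (T.J_le_P (T.h.z_mem_J T.B T.hx))
  have hW3 : ∀ g ∈ W, g ^ 3 = 1 := fun g hg => Subtype.ext (by simpa using cube_P h (hWm.1 hg))
  have hnorm : ∀ g : X, g ∈ normalizer (W : Set X) → Commute (g : G) D.z := by
    intro g hg
    obtain ⟨hL, ha⟩ := hXm.1 g.2
    have hm := hWm.1 ((mem_normalizer_iff.1 hg _).1 hzW)
    simp only [coe_mul, coe_inv] at hm
    have hzt : Commute ((g : G) * D.z * (g : G)⁻¹) T.S.t :=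
      ((commute_t_of_L hL).mul_left T.S.t_z.symm).mul_left (commute_t_of_L hL).inv_left
    obtain ⟨v, hv⟩ := T.exists_cv (T.h.pt_mem_J T.B T.hx (T.P_le_Stab hm) ((Pt.self _).conj _))
    have hv0 : v.2.1 = 0 := T.cv_fixed (hv ▸ hzt)
    have hvL : ∀ l ∈ T.S.L, Commute (T.cv v) l := fun l hl => hv ▸
      ((hL l hl).mul_left (T.S.L_z hl).symm).mul_left (hL l hl).inv_left
    rcases isPtA_of_pt hv0 (hv ▸ (Pt.self _).conj _) with rfl | rfl | ⟨j, hj⟩
    · rw [T.cv_z] at hv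
      rcases eps_cases T.ε T.ε_ne with e | e <;> rw [e] at hv
      · rw [zp_one] at hv
        exact mul_inv_eq_iff_eq_mul.1 hv.symm
      · rw [← zp_inv D.z_cube, zp_one] at hv
        exact absurd hv.symm (no_inv_zL ha hL)
    · rw [← T.cv_inv, T.cv_z] at hv
      rcases eps_cases T.ε T.ε_ne with e | e <;> rw [e] at hv
      · rw [zp_one] at hv
        exact absurd hv.symm (no_inv_zL ha hL)
      · rw [← zp_inv D.z_cube, zp_one, inv_inv] at hv
        exact mul_inv_eq_iff_eq_mul.1 hv.symm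
    · exfalso
      have hpL : ∀ l ∈ T.S.L, Commute (T.cv (ptv 0 j)) l := fun l hl => by
        rcases hj with rfl | rfl
        · exact hvL l hl
        · have := hvL l hl
          rw [← T.cv_inv] at this
          simpa using this.inv_left
      obtain ⟨q, hq, hqa⟩ := exists_u_Q2' h j
      refine not_L_x (T := T) fun l hl => ?_
      have hql : Commute q l := (T.S.mem_L.1 hl).2 q hq
      have e : T.x = q⁻¹ * T.cv (ptv 0 j) * q := by
        rw [show ptv 0 j = app (uM 0 j) (0, 0, 0, 1) from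
          ptv_orbit j, ← hqa.eq, T.cv_x]
        group
      rw [e]
      exact ((hql.inv_left.mul_left (hpL l hl)).mul_left hql).symm
  have hcent : ∀ g : X, g ∈ normalizer (W : Set X) → ∀ w ∈ W, Commute g w := by
    intro g hg w hw
    obtain ⟨hL, ha⟩ := hXm.1 g.2
    obtain ⟨p, hp, -, e | e⟩ := cent_zL (hnorm g hg) ha hL
    · exact Subtype.ext (by rw [coe_mul, coe_mul, e]; exact (comm_of_P hp (hWm.1 hw)).eq)
    · exact Subtype.ext (by
        rw [coe_mul, coe_mul, e]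
        exact ((comm_of_P hp (hWm.1 hw)).mul_left (commute_t_of_L (hXm.1 w.2).1).symm).eq)
  have hp3 : IsPGroup 3 W := fun w => ⟨1, Subtype.ext (by simpa using hW3 w w.2)⟩
  obtain ⟨S, hS⟩ := hp3.exists_le_sylow
  have hSW : (S : Subgroup X) = W := by
    refine le_antisymm ?_ hS
    by_contra hne
    haveI : Group.IsNilpotent (S : Subgroup X) := IsPGroup.isNilpotent S.2
    have hlt : W.subgroupOf (S : Subgroup X) < ⊤ := lt_top_iff_ne_top.2 fun hh => hne (subgroupOf_eq_top.1 hh)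
    obtain ⟨g, hgn, hgW⟩ := SetLike.exists_of_lt (Group.normalizerCondition_of_isNilpotent _ hlt)
    have hgN : (g : X) ∈ normalizer (W : Set X) := mem_normalizer_set fun w hw => by
      have := (mem_normalizer_iff.1 hgn ⟨w, hS hw⟩).1 (mem_subgroupOf.2 hw)
      simpa [mem_subgroupOf] using this
    obtain ⟨hL, ha⟩ := hXm.1 (g : X).2
    obtain ⟨p, hp, hpL, e | e⟩ := cent_zL (hnorm _ hgN) ha hL
    · exact hgW (mem_subgroupOf.2 (hWm.2 (e ▸ hp)))
    · obtain ⟨n, hn⟩ := S.2 g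
      have hn' : ((g : X) : G) ^ 3 ^ n = 1 := by
        simpa using congrArg (fun a : (S : Subgroup X) => ((a : X) : G)) hn
      have hpc : Commute p T.S.t := commute_t_of_L hpL
      have h6 : T.S.t ^ (3 ^ (n + 1)) = 1 := by
        rw [e] at hn'
        have h7 : (p * T.S.t) ^ (3 ^ (n + 1)) = 1 := by rw [pow_succ, pow_mul, hn', one_pow]
        rwa [hpc.mul_pow, show p ^ (3 ^ (n + 1)) = 1 by rw [pow_succ', pow_mul, cube_P h hp, one_pow], one_mul] at h7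
      exact T.t_ne (eq_one_of_coprime (Nat.Coprime.pow_right (n + 1) (by norm_num : Nat.Coprime 2 3))
        (by rw [pow_two]; exact T.S.t_sq) h6)
  have hN : normalizer ((S : Subgroup X) : Set X) ≤ centralizer ((S : Subgroup X) : Set X) := by
    intro g hg
    rw [hSW] at hg ⊢
    exact mem_centralizer_iff.2 fun w hw => (hcent g hg w hw).symm.eq
  refine ⟨(MonoidHom.transferSylow S hN).ker.map X.subtype, map_subtype_le _, ?_, fun u hu ho => ?_⟩
  · rw [card_map_of_injective X.subtype_injective]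
    exact ((Nat.prime_three.coprime_iff_not_dvd).2 (MonoidHom.not_dvd_card_ker_transferSylow S hN)).symm
  · refine ⟨⟨u, hu⟩, MonoidHom.mem_ker.2 ?_, rfl⟩
    set y := MonoidHom.transferSylow S hN ⟨u, hu⟩
    refine eq_one_of_coprime ho ?_ (Subtype.ext (by simpa using hW3 _ (hSW.le y.2)) : y ^ 3 = 1)
    rw [← map_pow, show (⟨u, hu⟩ : X) ^ orderOf u = 1 from Subtype.ext (pow_orderOf_eq_one u), map_one]

namespace Scalar

variable (E : T.Scalar)
include E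

/-- The second quaternion group commutes with the first. -/
theorem L_swap_comm {l m : G} (hl : l ∈ T.S.swap.L) (hm : m ∈ T.S.L) : Commute l m := by
  have hlH : l ∈ T.S.HN := T.S.swap.HN_swap (T.S.swap.L_HN hl)
  have hlm : l * m * l⁻¹ ∈ T.S.L := T.S.conj_L (T.S.swap.L_z hl) (T.S.swap.L_s hl) hm
  refine mul_inv_eq_iff_eq_mul.1 (T.S.L_inj T.B hlm hm ?_)
  rw [show (⟨l * m * l⁻¹, T.S.L_HN hlm⟩ : T.S.HN) = ⟨l, hlH⟩ * ⟨m, T.S.L_HN hm⟩ * ⟨l, hlH⟩⁻¹ from rfl, map_mul,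
    map_mul, map_inv, show T.B.matHom ⟨l, hlH⟩ = 1 from T.B.swap.mat_L hl, one_mul, inv_one, mul_one]

theorem A_H4 {p : G} (hp : p ∈ T.P) (ht : Commute p T.S.t) : p ∈ T.H4 :=
  T.mem_H4.2 ⟨ht, P_norm hp, mem_normalizer_set (by
    rintro _ ⟨w, hw, rfl⟩
    rw [(T.h.comm_P T.B T.hx hp (T.cv_mem w)).eq, mul_inv_cancel_right]
    exact ⟨w, hw, rfl⟩)⟩

/-- The second quaternion group normalises the product. -/
theorem swapL_norm (h : ¬ T.IsThree) {l : G} (hl : l ∈ T.S.swap.L) : l ∈ normalizer (T.Rt : Set G) := by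
  obtain ⟨-, hcard⟩ := E.Rt_block h
  set R' : Subgroup G := T.Rt ⊓ centralizer (T.S.L : Set G)
  have hlz : Commute l D.z := T.S.swap.L_z hl
  have hlt : Commute l T.S.t := T.S.swap.L_s hl
  have hlH : l ∈ T.S.HN := T.S.swap.HN_swap (T.S.swap.L_HN hl)
  have hlL : ∀ m ∈ T.S.L, Commute l m := fun m hm => E.L_swap_comm hl hm
  have hgen : T.Rt ≤ T.S.L ⊔ R' := iSup_le fun g => by
    by_cases e : (g : G) * T.cv (1, 0, 0, 0) * (g : G)⁻¹ = 1 * T.cv (1, 0, 0, 0) * 1⁻¹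
    · rw [T.L_conj_eq g.2 T.H4.one_mem e]
      refine le_trans ?_ le_sup_left
      rintro _ ⟨m, hm, rfl⟩
      simpa using hm
    · refine le_trans ?_ le_sup_right
      rintro a ha
      exact ⟨mem_iSup_of_mem g ha, mem_centralizer_iff.2 fun m hm =>
        (E.Lc_commute h g.2 T.H4.one_mem e a ha m ⟨m, hm, by simp⟩).symm.eq⟩
  set U := R'.map (MulAut.conj l).toMonoidHom
  have hUL : ∀ u ∈ U, ∀ m ∈ T.S.L, Commute u m := by
    rintro _ ⟨b, hb, rfl⟩ m hm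
    exact ((hlL m hm).mul_left (mem_centralizer_iff.1 hb.2 m hm).symm).mul_left (hlL m hm).inv_left
  have hUt : ∀ u ∈ U, Commute u T.S.t := fun u hu => hUL u hu _ T.S.t_mem_L
  have hU3 : (Nat.card U).Coprime 3 := by
    rw [card_map_of_injective (MulAut.conj l).injective]
    refine Nat.Coprime.coprime_dvd_left (card_dvd_of_le inf_le_left) ?_
    rw [hcard]; norm_num
  have hUn : ∀ {e : G}, e ∈ T.H4 → (∀ m ∈ T.S.L, Commute (l⁻¹ * e * l) m) → l⁻¹ * e * l ∈ T.H4 →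
      e ∈ normalizer (U : Set G) := fun {e} _ hem he => mem_normalizer_set (by
    rintro _ ⟨b, hb, rfl⟩
    refine ⟨(l⁻¹ * e * l) * b * (l⁻¹ * e * l)⁻¹, ⟨T.H4_conj_Rt he hb.1, mem_centralizer_iff.2 fun m hm =>
      (((hem m hm).mul_left (mem_centralizer_iff.1 hb.2 m hm).symm).mul_left (hem m hm).inv_left).symm.eq⟩, ?_⟩
    show l * (l⁻¹ * e * l * b * (l⁻¹ * e * l)⁻¹) * l⁻¹ = e * (l * b * l⁻¹) * e⁻¹
    group)
  have hUq : ∀ q ∈ T.S.Q2, q ∈ normalizer (U : Set G) := fun q hq => by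
    have hq' : l⁻¹ * q * l ∈ T.S.Q2 := by
      simpa using T.S.HN_Q2 (inv_mem hlH) q hq
    exact hUn (T.Q2_le_H4 hq) (fun m hm => (T.S.mem_L.1 hm).2 _ hq') (T.Q2_le_H4 hq')
  have hUz : D.z ∈ normalizer (U : Set G) := hUq _ (D.Zc_le_fixC T.S.t_z (mem_zpowers _))
  have hUa := hUq _ T.B.ha2
  obtain ⟨O, hOX, hO3, hOm⟩ := exists_complement h
  have hO : O ≤ T.Rt := by
    refine E.le_Rt h hO3 (fun u hu => commute_t_of_L fun m hm =>
      (mem_centralizer_iff.1 (hOX hu).1 m hm).symm) fun p hp hpt => mem_normalizer_set fun u hu => ?_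
    obtain ⟨huL, hua⟩ := Subgroup.mem_inf.1 (hOX hu)
    have hpa : Commute p T.B.a2 := T.cv_a2 ▸ T.h.comm_P T.B T.hx hp (T.cv_mem _)
    have hzp : Commute p D.z := (T.P_le_Stab hp).1
    refine hOm _ (Subgroup.mem_inf.2 ⟨mem_centralizer_iff.2 fun m hm => ?_, mem_centralizer_singleton_iff.2
      ((hpa.mul_left (mem_centralizer_singleton_iff.1 hua)).mul_left hpa.inv_left)⟩) ?_
    · have hm' : p⁻¹ * m * p ∈ T.S.L := by simpa using T.S.conj_L hzp.inv_left hpt.inv_left hm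
      have := Commute.map (show Commute (p⁻¹ * m * p) u from mem_centralizer_iff.1 huL _ hm') (MulAut.conj p).toMonoidHom
      simp only [MulEquiv.toMonoidHom_eq_coe, MonoidHom.coe_coe, MulAut.conj_apply] at this
      rw [show p * (p⁻¹ * m * p) * p⁻¹ = m by group] at this
      exact this.eq
    · refine Nat.Coprime.coprime_dvd_left ?_ hO3
      rw [show p * u * p⁻¹ = (MulAut.conj p).toMonoidHom u from rfl,
        orderOf_injective _ (MulAut.conj p).injective]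
      exact orderOf_dvd_of_mem hu
  have hUR : U ≤ T.Rt := gen_le9 h hU3 hUz hUa (fun u hu huz => T.L_le_Rt (T.fix_in_L hU3 hUt hUa hu huz))
    fun j q hq _ u hu hua => by
    have hu' : q⁻¹ * u * q ∈ U := by simpa using (mem_normalizer_iff.1 (inv_mem (hUq q hq)) u).1 hu
    have h1 := T.H4_conj_Rt (T.Q2_le_H4 hq) (hO (hOm _ (Subgroup.mem_inf.2
      ⟨mem_centralizer_iff.2 fun m hm => (hUL _ hu' m hm).symm.eq, mem_centralizer_singleton_iff.2 hua⟩)
      (Nat.Coprime.coprime_dvd_left (orderOf_dvd_of_mem hu') hU3)))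
    rwa [show q * (q⁻¹ * u * q) * q⁻¹ = u by group] at h1
  refine mem_normalizer_set fun r hr => ?_
  have hle : T.Rt ≤ T.Rt.comap (MulAut.conj l).toMonoidHom := hgen.trans (sup_le
    (fun m hm => by
      show l * m * l⁻¹ ∈ T.Rt
      rw [(hlL m hm).eq, mul_inv_cancel_right]
      exact T.L_le_Rt hm)
    fun b hb => hUR ⟨b, hb, rfl⟩)
  exact hle hr

/-- The product is self-centralising in the centraliser of the involution. -/
theorem self_cent (h : ¬ T.IsThree) {c : G} (hct : Commute c T.S.t) (hc : ∀ r ∈ T.Rt, Commute c r) : c ∈ T.Rt := by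
  classical
  haveI : Fact (Nat.Prime 3) := ⟨Nat.prime_three⟩
  set K : Subgroup G := centralizer (T.Rt : Set G) with hK
  have hKm : ∀ {g}, g ∈ K ↔ ∀ r ∈ T.Rt, Commute g r := fun {g} =>
    ⟨fun hg r hr => (mem_centralizer_iff.1 hg r hr).symm, fun hg => mem_centralizer_iff.2 fun r hr => (hg r hr).symm⟩
  have hKt : ∀ g ∈ K, Commute g T.S.t := fun g hg => hKm.1 hg _ (T.L_le_Rt T.S.t_mem_L)
  have hKA : ∀ p ∈ T.P, Commute p T.S.t → p ∈ normalizer (K : Set G) := fun p hp hpt =>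
    mem_normalizer_set fun g hg => hKm.2 fun r hr => by
      have h1 := T.H4_conj_Rt (inv_mem (E.A_H4 hp hpt)) hr
      rw [inv_inv] at h1
      have := (hKm.1 hg _ h1).map (MulAut.conj p).toMonoidHom
      simpa [mul_assoc] using this
  refine E.le_Rt h ?_ hKt hKA (hKm.2 hc)
  refine ((Nat.prime_three.coprime_iff_not_dvd).2 fun hd => ?_).symm
  set A : Subgroup G := T.P ⊓ centralizer ({T.S.t} : Set G)
  have hAm : ∀ {p}, p ∈ A ↔ p ∈ T.P ∧ Commute p T.S.t := fun {p} =>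
    Subgroup.mem_inf.trans (and_congr Iff.rfl mem_centralizer_singleton_iff)
  have hA3 : IsPGroup 3 A := fun a => ⟨1, Subtype.ext (by simpa using cube_P h (hAm.1 a.2).1)⟩
  letI : MulAction A K :=
    { smul := fun a g => ⟨(a : G) * g * (a : G)⁻¹,
        (mem_normalizer_iff.1 (hKA _ (hAm.1 a.2).1 (hAm.1 a.2).2) g).1 g.2⟩
      one_smul := fun g => Subtype.ext (by show (1 : G) * g * (1 : G)⁻¹ = g; group)
      mul_smul := fun a b g => Subtype.ext (by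
        show (a : G) * b * g * ((a : G) * b)⁻¹ = (a : G) * ((b : G) * g * (b : G)⁻¹) * (a : G)⁻¹
        group) }
  have hmod := hA3.card_modEq_card_fixedPoints K
  set C : Subgroup G := K ⊓ centralizer (A : Set G)
  have hcardC : Nat.card (MulAction.fixedPoints A K) = Nat.card C := Nat.card_congr
    { toFun := fun g => ⟨(g : K), (g : K).2, mem_centralizer_iff.2 fun a ha =>
        mul_inv_eq_iff_eq_mul.1 (congrArg Subtype.val (g.2 ⟨a, ha⟩))⟩
      invFun := fun g => ⟨⟨g, g.2.1⟩, fun a => Subtype.ext (mul_inv_eq_iff_eq_mul.2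
        (mem_centralizer_iff.1 g.2.2 (a : G) a.2))⟩
      left_inv := fun g => Subtype.ext (Subtype.ext rfl)
      right_inv := fun g => Subtype.ext rfl }
  rw [hcardC] at hmod
  have hdC : 3 ∣ Nat.card C := Nat.modEq_zero_iff_dvd.1 (hmod.symm.trans (Nat.modEq_zero_iff_dvd.2 hd))
  obtain ⟨⟨g, hgC⟩, ho⟩ := exists_prime_orderOf_dvd_card' 3 hdC
  rw [← Subgroup.orderOf_coe] at ho
  change orderOf g = 3 at ho
  obtain ⟨hgK, hgA⟩ := Subgroup.mem_inf.1 hgC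
  have hgw : ∀ w ∈ A, Commute g w := fun w hw => (mem_centralizer_iff.1 hgA w hw).symm
  have hgz : Commute g D.z := hgw _ (hAm.2 ⟨T.J_le_P (T.h.z_mem_J T.B T.hx), T.S.t_z.symm⟩)
  have hga : Commute g T.B.a2 := hgw _ (hAm.2 ⟨T.cv_a2 ▸ T.cv_P _, (D.mem_fixC.1 T.B.ha2).2⟩)
  have hgL : ∀ l ∈ T.S.L, Commute g l := fun l hl => hKm.1 hgK l (T.L_le_Rt hl)
  have hg3 : g ^ 3 = 1 := ho ▸ pow_orderOf_eq_one g
  obtain ⟨p, hp, hpL, hcase⟩ := cent_zL hgz hga hgL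
  have hgP : g ∈ T.P := by
    rcases hcase with e | e
    · exact e ▸ hp
    exfalso
    rw [e, (commute_t_of_L hpL).mul_pow, cube_P h hp, one_mul, pow_succ, pow_two, T.S.t_sq, one_mul] at hg3
    exact T.t_ne hg3
  obtain ⟨v, m, rfl⟩ := E.P_form h E.mem E.y_not_J hgP
  have hym : Commute (zp E.y m) T.S.t := zp_comm E.ct m
  have hv0 : v.2.1 = 0 := T.cv_fixed (by
    have := (hKt _ hgK).mul_left hym.inv_left
    rwa [mul_inv_cancel_right] at this)
  have base : ∀ w : V4, w.2.1 = 0 → (∀ l ∈ T.S.L, Commute (T.cv w * zp E.y m) l) → w.2.2.2 + m = 0 := by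
    intro w hw hwL
    have ey : zp E.y m = zp (E.d (ptv 0 0)) m * zp T.x m := by
      have ed : E.y = E.d (ptv 0 0) * T.x := by
        rw [← T.cv_x, show ptv 0 0 = (0, 0, 0, 1) from (show ptv (0 : ZMod 3) 0 = (0, 0, 0, 1) by simp [ptv]), d, inv_mul_cancel_right]
      conv_lhs => rw [ed]
      exact (comm_of_P (E.d_P _) (T.J_le_P (T.h.x_mem_J T.B T.hx))).mul_pow _
    have hx' : ∀ l ∈ T.S.L, Commute (T.cv (w + m • (0, 0, 0, 1))) l := fun l hl => by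
      have hdl : Commute (zp (E.d (ptv 0 0)) m) l := zp_comm (E.d_ptv_L 0 hl) m
      have e : T.cv (w + m • (0, 0, 0, 1)) = T.cv w * zp E.y m * (zp (E.d (ptv 0 0)) m)⁻¹ := by
        rw [T.cv_add, T.cv_smul, T.cv_x, ey, mul_assoc,
          (comm_of_P (zp_mem (E.d_P _) m) (zp_mem (T.J_le_P (T.h.x_mem_J T.B T.hx)) m)).eq, mul_inv_cancel_right]
      rw [e]
      exact (hwL l hl).mul_left hdl.inv_left
    obtain ⟨a, -, b, k, hk, hu⟩ : ∃ a i b k : ZMod 3, k = w.2.2.2 + m ∧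
        w + m • ((0, 0, 0, 1) : V4) = (a, 0, b, 0) + k • (0, 0, 0, 1) :=
      ⟨w.1, 0, w.2.2.1, _, rfl, by simp [Prod.ext_iff, hw]⟩
    by_contra hne
    refine not_L_x (T := T) fun l hl => ?_
    have hQ : Commute (T.cv (a, 0, b, 0)) l := by
      rw [show ((a, 0, b, 0) : V4) = a • (1, 0, 0, 0) + b • (0, 0, 1, 0) by simp [Prod.ext_iff], T.cv_add, T.cv_smul,
        T.cv_smul, T.cv_z, T.cv_a2]
      exact (zp_comm (zp_comm (T.S.L_z hl).symm _) a).mul_left (zp_comm ((T.S.mem_L.1 hl).2 _ T.B.ha2) b)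
    have h1 := hQ.inv_left.mul_left (hx' l hl)
    rw [hu, T.cv_add, inv_mul_cancel_left, T.cv_smul, T.cv_x, hk] at h1
    have h2 := zp_comm h1 (w.2.2.2 + m)⁻¹
    rw [zp_zp T.D'.z_cube, mul_inv_cancel₀ hne, zp_one] at h2
    exact h2.symm
  have hmove : ∀ {k : G} {M : Cols}, k ∈ T.H4 → Commute k E.y → T.Act k M → (app M v).2.2.2 + m = 0 := by
    intro k M hk hky hkM
    have e : k * (T.cv v * zp E.y m) * k⁻¹ = T.cv (app M v) * zp E.y m := by
      rw [← hkM.eq, show k * (T.cv v * zp E.y m) * k⁻¹ = k * T.cv v * k⁻¹ * (k * zp E.y m * k⁻¹) by group,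
        ((zp_comm hky.symm m).symm).eq, mul_inv_cancel_right]
    have hkt := (T.mem_H4.1 hk).1
    refine base _ (T.cv_fixed (hkM.eq v ▸ (hkt.mul_left (T.cv_t hv0)).mul_left hkt.inv_left)) fun l hl => ?_
    have h1 := T.H4_conj_Rt (inv_mem hk) (T.L_le_Rt hl)
    rw [inv_inv] at h1
    have := (hKm.1 hgK _ h1).map (MulAut.conj k).toMonoidHom
    rw [← e]
    simpa [mul_assoc] using this
  obtain ⟨k, hk, hky, hkM⟩ := E.gens kM (by simp [gensT])
  obtain ⟨u1, hu1, hu1y, hu1M⟩ := E.gens (uM 0 1) (by simp [gensT])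
  obtain ⟨u2, hu2, hu2y, hu2M⟩ := E.gens (uM 0 2) (by simp [gensT])
  obtain ⟨ev, em⟩ := self_kernel v m hv0 (base v hv0 hgL) (hmove hk hky hkM)
    (hmove (mul_mem hk hk) (hky.mul_left hky) (T.act_cmp hkM hkM))
    (hmove (mul_mem hk hu1) (hky.mul_left hu1y) (T.act_cmp hkM hu1M))
    (hmove (mul_mem hk hu2) (hky.mul_left hu2y) (T.act_cmp hkM hu2M))
  rw [ev, em, T.cv_zero, zp_zero, mul_one, orderOf_one] at ho
  norm_num at ho

/-- The facts about the product of the four quaternion groups. -/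
theorem exists_local (h : ¬ T.IsThree) : E.Local where
  block := (E.Rt_block h).1
  card := (E.Rt_block h).2
  comm := fun _ hg _ hg' hne => E.Lc_commute h hg hg' hne
  self := fun _ hct hc => E.self_cent h hct hc
  swapL := fun _ hl => E.swapL_norm h hl

end Scalar

end Setting

end Cfsg.Lib.U6Three
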