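import Cfsg.Agent.Lib.U6ThreeNine.SwapL
import Cfsg.Agent.Lib.U6ThreeNine.Reduce

/-!
# An involution exchanging the halves and commuting with no outer element of the centraliser of the plane
-/

set_option autoImplicit false
set_option linter.unusedSectionVars false
set_option linter.style.haveILetI false
set_option synthInstance.maxSize 4000
set_option maxRecDepth 8000

namespace Cfsg.Lib.U6Three

open Subgroup
open scoped commutatorElement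

/-- The exchange of the two lines. -/
def sigM : Cols := ((1, 0, 0, 0), (0, 0, 1, 0), (0, 1, 0, 0), (0, 0, 0, 1))

/-- The conjugate of the exchange commuting with the first involution. -/
def semM : Cols := ((0, 0, 0, 2), (0, 1, 0, 0), (0, 0, 1, 0), (2, 0, 0, 0))

/-- The identity map. -/
def oneM : Cols := ((1, 0, 0, 0), (0, 1, 0, 0), (0, 0, 1, 0), (0, 0, 0, 1))

theorem app_oneM : ∀ v : V4, app oneM v = v := by decide +kernel

theorem app_cmp' : ∀ (m n : Cols) (v : V4), app (cmp m n) v = app m (app n v) := fun m n v => by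
  simp only [app, cmp, Prod.ext_iff]
  refine ⟨?_, ?_, ?_, ?_⟩ <;> ring

theorem sig_facts : cmp sigM sigM = oneM ∧ cmp sM sM = oneM ∧ cmp sigM (uM 1 1) = cmp (uM 1 1) sigM ∧
    cmp tM (cmp sM sigM) = cmp sM (cmp tM sigM) ∧ app sigM (0, 1, 0, 0) = (0, 0, 1, 0) ∧
    app sigM (0, 0, 0, 1) = (0, 0, 0, 1) ∧ app sigM (1, 0, 0, 0) = (1, 0, 0, 0) := by decide +kernel

theorem sem_facts : cmp (cmp (vM 1 2) (uM 1 0)) sigM = cmp semM (cmp (vM 1 2) (uM 1 0)) ∧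
    cmp tM semM = cmp semM tM ∧ cmp semM semM = oneM ∧
    cmp semM (uM 0 1) = cmp (cmp (uM 0 2) kM) semM ∧
    cmp semM kM = cmp (cmp (uM 0 2) (cmp kM (uM 0 1))) semM := by decide +kernel

theorem neg_z : ((2, 0, 0, 0) : V4) = -(1, 0, 0, 0) := by decide +kernel

theorem one_u11 : cmp oneM (uM 1 1) = uM 1 1 := by decide +kernel

theorem sem_fixed : ∀ v : V4, v.2.1 = 0 → app (cmp (uM 0 2) kM) v = v → app (cmp (uM 0 2) (cmp kM (uM 0 1))) v = v →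
    v = 0 := by decide +kernel

set_option synthInstance.maxHeartbeats 200000 in
theorem sig_unique : ∀ a e a' i' j' : ZMod 3, e ≠ 0 →
    (∀ i j : ZMod 3, nrm (app ((1, 0, 0, 0), (a, 0, e, 0), (a', i', j', 0), (0, 0, 0, 1)) (ptv i j)) = 0) →
    cmp ((1, 0, 0, 0), (a, 0, e, 0), (a', i', j', 0), (0, 0, 0, 1)) oneM = sigM ∨
      cmp ((1, 0, 0, 0), (a, 0, e, 0), (a', i', j', 0), (0, 0, 0, 1)) tM = sigM ∨
      cmp ((1, 0, 0, 0), (a, 0, e, 0), (a', i', j', 0), (0, 0, 0, 1)) sM = sigM ∨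
      cmp ((1, 0, 0, 0), (a, 0, e, 0), (a', i', j', 0), (0, 0, 0, 1)) (cmp tM sM) = sigM := by decide +kernel

theorem moved_pt : ∀ v : V4, IsPtv v → app sigM v = v → app (uM 1 1) v = v → v = (1, 0, 0, 0) ∨ v = (2, 0, 0, 0) := by
  decide +kernel

theorem sl_fix_first : ∀ u m : SL3, u ^ 3 = 1 → u ≠ 1 → m ^ 3 = 1 → (u.1 0 0 = 1 ∧ u.1 1 0 = 0) →
    ((m * u * m * m).1 0 0 = 1 ∧ (m * u * m * m).1 1 0 = 0) → m.1 0 0 = 1 ∧ m.1 1 0 = 0 := by decide +kernel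

theorem sl_three_pow : ∀ m : SL3, m ^ 8 ≠ 1 ∨ m = 1 ∨ m ^ 3 ≠ 1 := by decide +kernel

theorem sl_order_three : ∀ m : SL3, m ^ 9 = 1 → m ^ 3 = 1 := by decide +kernel

namespace Setting

variable {G : Type*} [Group G] [Finite G] {D : Data G} {T : Setting D}

theorem act_one (T : Setting D) : T.Act 1 oneM := ⟨one_mem _, fun v => by rw [app_oneM]; group⟩

namespace Scalar

variable (E : T.Scalar) (h : ¬ T.IsThree)
include E h

/-- An involution exchanging the halves with the standard action. -/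
theorem exists_h0 {c : G} (hc : c ∈ normalizer (T.J : Set G)) (hcz : Commute c D.z) (hcF : c ∉ T.Fix) :
    ∃ h0, h0 * h0 = 1 ∧ Commute h0 D.z ∧ h0 ∉ T.Fix ∧ T.Act h0 sigM := by
  have h1 : c * T.B.a1 * c⁻¹ ∉ T.S.Q1 := fun e => hcF (nonswap_Fix h hc hcz e)
  obtain ⟨i, j, hx⟩ := T.swap_pt hc hcz h1
  obtain ⟨q, hq, hqa⟩ := T.exists_u i j
  have hqF : q ∈ T.Fix := three_mem_Fix h hqa.norm ⟨5, D.pow_243 hq⟩
  set c1 := q⁻¹ * c
  have hc1n : c1 ∈ normalizer (T.J : Set G) := mul_mem (inv_mem hqa.norm) hc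
  have hc1z : Commute c1 D.z := (D.comm_z q hq).inv_left.mul_left hcz
  have hc1F : c1 ∉ T.Fix := fun e => hcF (by have := mul_mem hqF e; rwa [mul_inv_cancel_left] at this)
  have hc1x : c1 * T.cv (0, 0, 0, 1) * c1⁻¹ = T.cv (0, 0, 0, 1) := by
    have e : q * T.cv (0, 0, 0, 1) * q⁻¹ = T.cv (ptv i j) := by
      rw [hqa.eq]; congr 1; simp [app, uM, ptv]
    rw [show c1 * T.cv (0, 0, 0, 1) * c1⁻¹ = q⁻¹ * (c * T.cv (0, 0, 0, 1) * c⁻¹) * q by simp only [c1]; group, T.cv_x, hx, ← e,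
      T.cv_x]
    group
  have hc1' : c1 * T.B.a1 * c1⁻¹ ∉ T.S.Q1 := fun e => hc1F (nonswap_Fix h hc1n hc1z e)
  have hQ2 : c1 * T.B.a1 * c1⁻¹ ∈ T.S.Q2 :=
    (T.S.conj_half hc1z).resolve_left (fun hh => hc1' (hh _ T.B.ha1)) _ T.B.ha1
  obtain ⟨v, hv⟩ := T.exists_cv (T.norm_J hc1n (T.cv_a1 ▸ T.cv_mem _))
  obtain ⟨w, hw⟩ := T.exists_cv (T.norm_J hc1n (T.cv_a2 ▸ T.cv_mem _))
  obtain ⟨a, e, rfl⟩ : ∃ a e, v = (a, 0, e, 0) := ⟨v.1, v.2.2.1, Prod.ext rfl (Prod.ext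
    (T.cv_fixed (hv ▸ (D.mem_fixC.1 hQ2).2)) (Prod.ext rfl (T.last_zero_of_Q (hv ▸ hQ2.1))))⟩
  obtain ⟨a', i', j', rfl⟩ : ∃ a' i' j', w = (a', i', j', 0) := ⟨w.1, w.2.1, w.2.2.1, Prod.ext rfl (Prod.ext rfl
    (Prod.ext rfl (T.last_zero_of_Q (hw ▸ D.norm_Q c1 hc1z _ T.B.ha2.1))))⟩
  have he : e ≠ 0 := fun e0 => hc1' (by
    rw [← hv, e0, T.cv_el, Basis.el, zp_zero, zp_zero, mul_one, mul_one]
    exact D.Zc_le_fixC T.S.s_z (zp_mem (mem_zpowers _) _))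
  set M : Cols := ((1, 0, 0, 0), (a, 0, e, 0), (a', i', j', 0), (0, 0, 0, 1))
  have hM : T.Act c1 M := T.act_of_basis hc1n
    (by rw [T.cv_z, ((zp_comm hc1z.symm T.ε).symm).eq, mul_inv_cancel_right])
    (by rw [T.cv_a1, hv]) (by rw [T.cv_a2, hw]) hc1x
  have hnrm : ∀ i j : ZMod 3, nrm (app M (ptv i j)) = 0 := fun i j =>
    nrm_facts.1 _ (T.isPtv_of_conj (T.pt_ptv i j) (hM.eq _))
  obtain ⟨u, N, huF, huz, hu, hN⟩ : ∃ u N, u ∈ T.Fix ∧ Commute u D.z ∧ T.Act u N ∧ cmp M N = sigM := by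
    rcases sig_unique a e a' i' j' he hnrm with e1 | e1 | e1 | e1
    · exact ⟨1, _, one_mem _, Commute.one_left _, T.act_one, e1⟩
    · exact ⟨T.S.t, _, t_Fix h, T.S.t_z, T.act_t, e1⟩
    · exact ⟨T.S.s, _, s_Fix h, T.S.s_z, T.act_s, e1⟩
    · exact ⟨T.S.t * T.S.s, _, mul_mem (t_Fix h) (s_Fix h), T.S.t_z.mul_left T.S.s_z, T.act_cmp T.act_t T.act_s, e1⟩
  set c2 := c1 * u
  have hc2 : T.Act c2 sigM := hN ▸ T.act_cmp hM hu
  have hc2z : Commute c2 D.z := hc1z.mul_left huz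
  have hc2F : c2 ∉ T.Fix := fun e => hc1F (by
    have := mul_mem e (inv_mem huF); rwa [mul_inv_cancel_right] at this)
  have hsq : c2 * c2 ∈ T.P := by
    have := T.act_of_eq (T.act_cmp hc2 hc2) (sig_facts.1.symm ▸ T.act_one)
    rwa [inv_one, mul_one] at this
  refine ⟨c2 * (c2 * c2), ?_, hc2z.mul_left (hc2z.mul_left hc2z), fun hh => hc2F ?_,
    T.act_of_P hsq (P_norm hsq) hc2⟩
  · rw [show c2 * (c2 * c2) * (c2 * (c2 * c2)) = (c2 * c2) ^ 3 by rw [pow_succ, pow_two]; group, cube_P h hsq]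
  · have := mul_mem hh (inv_mem (Stab_le_Fix h (T.P_le_Stab hsq)))
    rwa [mul_inv_cancel_right] at this

/-- An element of the centraliser of the plane is inverted modulo the plane outside the fixed subgroup. -/
theorem inverts {g : G} (hg : g ∈ normalizer (T.J : Set G)) (hgF : g ∉ T.Fix) {p : G} (hp : p ∈ T.P) :
    g * p * g⁻¹ * p ∈ T.J := ((fix_or_inv h hg).resolve_left hgF) p hp

/-- No element of the centraliser of the plane outside it is conjugate into the plane. -/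
theorem not_conj_J {p : G} (hp : p ∈ T.P) (hpJ : p ∉ T.J) (a : G) : a * p * a⁻¹ ∉ T.J := by
  classical
  haveI : Fact (Nat.Prime 3) := ⟨Nat.prime_three⟩
  intro hb
  set b := a * p * a⁻¹ with hb'
  set K : Subgroup G := centralizer ({b} : Set G)
  have hK : ∀ {g}, Commute g b → g ∈ K := fun hg => mem_centralizer_singleton_iff.2 hg
  have hPK : T.P ≤ K := fun g hg => hK (T.h.comm_P T.B T.hx hg hb)
  set P' := T.P.map (MulAut.conj a).toMonoidHom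
  have hP'K : P' ≤ K := by
    rintro _ ⟨g, hg, rfl⟩
    refine hK ?_
    simpa [hb', mul_assoc] using (comm_of_P hg hp).map (MulAut.conj a).toMonoidHom
  have h3 : IsPGroup 3 T.P := fun w => ⟨1, Subtype.ext (by simpa using cube_P h w.2)⟩
  obtain ⟨S1, hS1⟩ := (h3.comap_of_injective K.subtype K.subtype_injective).exists_le_sylow
  obtain ⟨S2, hS2⟩ := ((h3.map (MulAut.conj a).toMonoidHom).comap_of_injective K.subtype
    K.subtype_injective).exists_le_sylow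
  obtain ⟨c, hc⟩ := MulAction.exists_smul_eq K S2 S1
  obtain ⟨S3, hS3⟩ := (S1.2.map K.subtype).exists_le_sylow
  obtain ⟨S, hS⟩ := T.exists_sylow
  obtain ⟨d, hd⟩ := MulAction.exists_smul_eq G S3 S
  have hdS : ∀ g ∈ (S1 : Subgroup K), d * (g : G) * d⁻¹ ∈ T.B.Stab := fun g hg => by
    rw [← hS, ← hd]
    exact ⟨_, hS3 ⟨g, hg, rfl⟩, by simp [MulAut.conj_apply]⟩
  have hdn : d ∈ normalizer (T.J : Set G) := T.weakly_closed fun w hw =>
    hdS ⟨w, hPK (T.J_le_P hw)⟩ (hS1 (mem_comap.2 (T.J_le_P hw)))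
  have hgn : d * ((c : G) * a) ∈ normalizer (T.J : Set G) := T.weakly_closed fun w hw => by
    have hwa : a * w * a⁻¹ ∈ P' := ⟨w, T.J_le_P hw, rfl⟩
    have h1 : c * ⟨_, hP'K hwa⟩ * c⁻¹ ∈ (S1 : Subgroup K) := by
      rw [← hc]
      exact ⟨⟨_, hP'K hwa⟩, hS2 (mem_comap.2 (by exact hwa)), by simp [MulAut.conj_apply]⟩
    have h2 := hdS _ h1
    simp only [coe_mul, coe_inv] at h2
    rwa [show d * ((c : G) * a) * w * (d * ((c : G) * a))⁻¹ = d * ((c : G) * (a * w * a⁻¹) * (c : G)⁻¹) * d⁻¹ by group]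
  have hga : (c : G) * a ∈ normalizer (T.J : Set G) := by
    have := mul_mem (inv_mem hdn) hgn; rwa [inv_mul_cancel_left] at this
  refine hpJ ?_
  have hcb : (c : G) * b * (c : G)⁻¹ = b := by
    rw [(mem_centralizer_singleton_iff.1 c.2 : (c : G) * b = b * c), mul_inv_cancel_right]
  have := T.norm_J (inv_mem hga) hb
  rw [← hcb] at this
  rwa [show ((c : G) * a)⁻¹ * ((c : G) * b * (c : G)⁻¹) * ((c : G) * a)⁻¹⁻¹ = p by rw [hb']; group] at this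

variable {h0 : G} (h2 : h0 * h0 = 1) (hz : Commute h0 D.z) (hF : h0 ∉ T.Fix) (hact : T.Act h0 sigM)
include h2 hz hF hact

theorem h0_inv : h0⁻¹ = h0 := inv_eq_of_mul_eq_one_right h2

theorem h0_x : Commute h0 T.x := by
  have := hact.eq (0, 0, 0, 1)
  rw [sig_facts.2.2.2.2.2.1, T.cv_x] at this
  exact mul_inv_eq_iff_eq_mul.1 this

theorem h0_a1 : h0 * T.B.a1 * h0⁻¹ = T.B.a2 := by
  rw [← T.cv_a1, hact.eq, sig_facts.2.2.2.2.1, T.cv_a2]

theorem h0_Q {q : G} (hq : q ∈ T.S.Q1) : h0 * q * h0⁻¹ ∈ T.S.Q2 := by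
  refine (T.S.conj_half hz).resolve_left (fun hh => ?_) q hq
  exact hF (nonswap_Fix h hact.norm hz (hh _ T.B.ha1))

/-- The elements of order three of the stabiliser commuting with the involution are conjugate into the plane. -/
theorem conj_into_J {w : G} (hw : w ∈ T.B.Stab) (hw3 : w ^ 3 = 1) (hwh : Commute h0 w) :
    ∃ g : G, g * w * g⁻¹ ∈ T.J := by
  obtain ⟨q0, hq0, p, hp, rfl⟩ := T.stab_split hw
  have hQJ : ∀ j ∈ T.J, ∃ q ∈ D.Q, ∃ i : ℕ, j = q * T.x ^ i := fun j hj => by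
    obtain ⟨v, rfl⟩ := T.exists_cv hj
    exact ⟨_, T.B.el_mem _ _ _, v.2.2.2.val, rfl⟩
  have hpJ : p ∈ T.J := by
    have hq1 : h0 * q0 * h0⁻¹ ∈ D.Q := D.norm_Q h0 hz q0 hq0
    have hp1 := T.norm_P hact.norm hp
    have e : h0 * q0 * h0⁻¹ * (h0 * p * h0⁻¹) = q0 * p := by
      rw [show h0 * q0 * h0⁻¹ * (h0 * p * h0⁻¹) = h0 * (q0 * p) * h0⁻¹ by group, hwh.eq, mul_inv_cancel_right]
    have hm : h0 * p * h0⁻¹ * p⁻¹ ∈ T.J := T.h.mem_J_of_P_Q T.B T.hx (mul_mem hp1 (inv_mem hp)) (by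
      rw [show h0 * p * h0⁻¹ * p⁻¹ = (h0 * q0 * h0⁻¹)⁻¹ * q0 by
        rw [eq_inv_mul_iff_mul_eq, ← mul_assoc, e]; group]
      exact D.Q.mul_mem (D.Q.inv_mem hq1) hq0)
    have hpp := mul_mem (inv_mem hm) (E.inverts h hact.norm hF hp)
    rw [show (h0 * p * h0⁻¹ * p⁻¹)⁻¹ * (h0 * p * h0⁻¹ * p) = p * p by group] at hpp
    have := pow_mem hpp 2
    rwa [show (p * p) ^ 2 = p ^ 3 * p by rw [pow_succ p 2, pow_two, pow_two]; group, cube_P h hp, one_mul] at this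
  obtain ⟨q', hq', i, rfl⟩ := hQJ p hpJ
  obtain ⟨q, hq, hqe⟩ : ∃ q ∈ D.Q, q0 * (q' * T.x ^ i) = q * T.x ^ i := ⟨_, D.Q.mul_mem hq0 hq', (mul_assoc _ _ _).symm⟩
  rw [hqe] at hw3 hwh ⊢
  have hxh := (E.h0_x h h2 hz hF hact).pow_right i
  have hqh : Commute h0 q := by
    have := hwh.mul_right hxh.inv_right
    rwa [mul_inv_cancel_right] at this
  obtain ⟨m, hm, c, hc, e⟩ : ∃ m ∈ T.S.Q1, ∃ c ∈ T.S.Q2, q = m * c := by
    exact T.S.decomp q hq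
  obtain ⟨c', hc', ec⟩ : ∃ c' ∈ T.S.Q1, q = c' * (h0 * c' * h0⁻¹) := by
    obtain ⟨ω, hω⟩ : ∃ ω, (h0 * m * h0⁻¹)⁻¹ * c = ω := ⟨_, rfl⟩
    have hi := E.h0_inv h h2 hz hF hact
    have hmQ2 := E.h0_Q h h2 hz hF hact hm
    have hω2 : ω ∈ T.S.Q2 := hω ▸ T.S.Q2.mul_mem (T.S.Q2.inv_mem hmQ2) hc
    have hcQ1 : h0 * c * h0⁻¹ ∈ T.S.Q1 := by
      refine (T.S.swap.conj_half hz).resolve_left (fun hh => ?_) c hc
      have ha2 : h0 * T.B.a2 * h0⁻¹ ∈ T.S.Q2 := hh _ T.B.ha2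
      rw [← E.h0_a1 h h2 hz hF hact, show h0 * (h0 * T.B.a1 * h0⁻¹) * h0⁻¹ = (h0 * h0) * T.B.a1 * (h0 * h0)⁻¹ by group,
        h2, one_mul, inv_one, mul_one] at ha2
      exact T.B.a1_not_Zc (T.S.inf_eq.le ⟨T.B.ha1, ha2⟩)
    have hωZ : ω ∈ D.Zc := by
      have h3 : h0 * q * h0⁻¹ = q := by rw [hqh.eq, mul_inv_cancel_right]
      rw [e, show h0 * (m * c) * h0⁻¹ = h0 * m * h0⁻¹ * (h0 * c * h0⁻¹) by group] at h3
      have h4 : ω = (h0 * c * h0⁻¹) * m⁻¹ := by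
        rw [← hω, inv_mul_eq_iff_eq_mul, ← mul_assoc, h3, (T.S.comm12 hm hc).eq, mul_inv_cancel_right]
      exact T.S.inf_eq.le ⟨h4 ▸ T.S.Q1.mul_mem hcQ1 (T.S.Q1.inv_mem hm), hω2⟩
    have hωh : Commute h0 ω⁻¹ := (D.comm_Zc hz (D.Zc.inv_mem hωZ))
    refine ⟨m * ω⁻¹, T.S.Q1.mul_mem hm (D.Zc_le_fixC T.S.s_z (D.Zc.inv_mem hωZ)), ?_⟩
    have hω3 := D.cube_Zc hωZ
    have hωm : Commute (h0 * m * h0⁻¹) ω⁻¹ := D.comm_Q_Zc hmQ2.1 (D.Zc.inv_mem hωZ)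
    rw [e, show h0 * (m * ω⁻¹) * h0⁻¹ = h0 * m * h0⁻¹ * (h0 * ω⁻¹ * h0⁻¹) by group, hωh.eq, mul_inv_cancel_right,
      show c = h0 * m * h0⁻¹ * ω by rw [← hω, mul_inv_cancel_left], mul_assoc m ω⁻¹, ← mul_assoc ω⁻¹, ← hωm.eq,
      mul_assoc (h0 * m * h0⁻¹), show ω⁻¹ * ω⁻¹ = ω by
        rw [← mul_inv_rev, inv_eq_iff_mul_eq_one, ← pow_two, ← pow_succ, hω3]]
  by_cases hX : T.x ^ i = 1
  · rw [hX, mul_one] at hw3 ⊢
    have move : ∀ {T' : Setting D} {u : G}, u ∈ T'.S.Q2 → ∃ l ∈ T'.S.swap.L, ∃ k a : ZMod 3,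
        l * u * l⁻¹ = zp D.z k * zp T'.B.a2 a := by
      intro T' u hu
      by_cases huZ : u ∈ D.Zc
      · obtain ⟨k, rfl⟩ := D.exists_zp huZ
        exact ⟨1, one_mem _, k, 0, by rw [zp_zero, mul_one]; group⟩
      have hu' : u ∈ T'.S.swap.Q1 := hu
      obtain ⟨c, hc, ec⟩ := T'.B.swap.nf_coords hu'
      obtain ⟨n, hn, hn1, hn2⟩ := trans_facts.1 (T'.B.swap.ci u) (T'.B.swap.cj u) (by
        by_contra hcon
        push Not at hcon
        rw [hcon.1, hcon.2, zp_zero, zp_zero, mul_one, mul_one] at ec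
        exact huZ (ec ▸ hc))
      obtain ⟨l, hl, el⟩ := T'.B.swap.exists_L hn
      have hlH := T'.S.swap.L_HN hl
      obtain ⟨c1, c2⟩ := T'.B.swap.conj_coords hlH hu'
      obtain ⟨c', hc', ec'⟩ := T'.B.swap.nf_coords (T'.S.swap.conj_Q1 hlH hu')
      rw [c1, c2] at ec'
      have ee : ∀ r s, (T'.B.swap.matHom ⟨l, hlH⟩).1 r s = n.1 r s := fun r s => by rw [el]
      rw [show T'.B.swap.ci (l * T'.B.swap.a1 * l⁻¹) = n.1 0 0 from ee 0 0,
        show T'.B.swap.ci (l * T'.B.swap.b1 * l⁻¹) = n.1 0 1 from ee 0 1,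
        show T'.B.swap.cj (l * T'.B.swap.a1 * l⁻¹) = n.1 1 0 from ee 1 0,
        show T'.B.swap.cj (l * T'.B.swap.b1 * l⁻¹) = n.1 1 1 from ee 1 1, hn1, hn2, zp_one, zp_zero, mul_one] at ec'
      obtain ⟨k, rfl⟩ := D.exists_zp hc'
      exact ⟨l, hl, k, 1, by rw [zp_one]; exact ec'⟩
    have hcQ2 : h0 * c' * h0⁻¹ ∈ T.S.Q2 := E.h0_Q h h2 hz hF hact hc'
    obtain ⟨l, hl, k, a, el⟩ := move (T' := T) hcQ2
    obtain ⟨l', hl', k', a', el'⟩ := move (T' := T.swap) (show c' ∈ T.swap.S.Q2 from hc')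
    change l' * c' * l'⁻¹ = zp D.z k' * zp T.B.a1 a' at el'
    replace hl' : l' ∈ T.S.L := hl'
    have hlc : Commute l (zp D.z k' * zp T.B.a1 a') :=
      (zp_comm (T.S.swap.L_z hl).symm k').symm.mul_right (zp_comm ((T.S.swap.mem_L.1 hl).2 _ T.B.ha1) a').symm
    have hl'c : Commute l' (h0 * c' * h0⁻¹) := ((T.S.mem_L.1 hl').2 _ hcQ2).symm
    refine ⟨l * l', ?_⟩
    rw [show l * l' * q * (l * l')⁻¹ = l * (l' * c' * l'⁻¹) * l⁻¹ * (l * (l' * (h0 * c' * h0⁻¹) * l'⁻¹) * l⁻¹) by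
      rw [ec]; group, el', hlc.eq, mul_inv_cancel_right, hl'c.eq, mul_inv_cancel_right, el]
    exact mul_mem (mul_mem (zp_mem (T.h.z_mem_J T.B T.hx) _) (zp_mem (T.cv_a1 ▸ T.cv_mem _) _))
      (mul_mem (zp_mem (T.h.z_mem_J T.B T.hx) _) (zp_mem (T.cv_a2 ▸ T.cv_mem _) _))
  · obtain ⟨X, hXe⟩ : ∃ X, T.x ^ i = X := ⟨_, rfl⟩
    rw [hXe] at hw3 hwh hxh hX ⊢
    have hXJ : X ∈ T.J := hXe ▸ pow_mem (T.h.x_mem_J T.B T.hx) i
    have hXz : Commute X D.z := hXe ▸ T.hx.1.pow_left i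
    have hXt : Commute X T.S.t := hXe ▸ T.tx.symm.pow_left i
    have hXs : Commute X T.S.s := hXe ▸ T.sx.symm.pow_left i
    have hX3 : X ^ 3 = 1 := T.cube_J hXJ
    set d := h0 * c' * h0⁻¹
    have hd : d ∈ T.S.Q2 := E.h0_Q h h2 hz hF hact hc'
    have hXd : X * d * X⁻¹ ∈ T.S.Q2 := D.mem_fixC.2
      ⟨D.norm_Q X hXz d hd.1, (hXt.mul_left (D.mem_fixC.1 hd).2).mul_left hXt.inv_left⟩
    have hXX : X * X * d * (X * X)⁻¹ ∈ T.S.Q2 := D.mem_fixC.2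
      ⟨D.norm_Q _ (hXz.mul_left hXz) d hd.1, ((hXt.mul_left hXt).mul_left (D.mem_fixC.1 hd).2).mul_left
        (hXt.mul_left hXt).inv_left⟩
    have hXc : X * c' * X⁻¹ ∈ T.S.Q1 := D.mem_fixC.2
      ⟨D.norm_Q X hXz c' hc'.1, (hXs.mul_left (D.mem_fixC.1 hc').2).mul_left hXs.inv_left⟩
    have hXXc : X * X * c' * (X * X)⁻¹ ∈ T.S.Q1 := D.mem_fixC.2
      ⟨D.norm_Q _ (hXz.mul_left hXz) c' hc'.1, ((hXs.mul_left hXs).mul_left (D.mem_fixC.1 hc').2).mul_left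
        (hXs.mul_left hXs).inv_left⟩
    have cube : ∀ u : G, (u * X) ^ 3 = u * (X * u * X⁻¹) * (X * X * u * (X * X)⁻¹) * X ^ 3 := fun u => by
      simp only [pow_succ, pow_zero, one_mul]; group
    obtain ⟨A, hA⟩ : ∃ A, c' * (X * c' * X⁻¹) * (X * X * c' * (X * X)⁻¹) = A := ⟨_, rfl⟩
    obtain ⟨B, hB⟩ : ∃ B, d * (X * d * X⁻¹) * (X * X * d * (X * X)⁻¹) = B := ⟨_, rfl⟩
    have hAB : A * B = 1 := by
      rw [cube, hX3, mul_one, ec] at hw3
      rw [← hA, ← hB, ← hw3]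
      calc c' * (X * c' * X⁻¹) * (X * X * c' * (X * X)⁻¹) * (d * (X * d * X⁻¹) * (X * X * d * (X * X)⁻¹))
          = c' * (X * c' * X⁻¹) * ((X * X * c' * (X * X)⁻¹) * d) * ((X * d * X⁻¹) * (X * X * d * (X * X)⁻¹)) := by group
        _ = c' * ((X * c' * X⁻¹) * d) * ((X * X * c' * (X * X)⁻¹) * (X * d * X⁻¹)) * (X * X * d * (X * X)⁻¹) := by
          rw [(T.S.comm12 hXXc hd).eq]; group
        _ = _ := by rw [(T.S.comm12 hXc hd).eq, (T.S.comm12 hXXc hXd).eq]; group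
    have hAh : h0 * A * h0⁻¹ = B := by
      have hhX : h0 * X * h0⁻¹ = X := by rw [hxh.eq, mul_inv_cancel_right]
      rw [← hA, ← hB]
      calc h0 * (c' * (X * c' * X⁻¹) * (X * X * c' * (X * X)⁻¹)) * h0⁻¹
          = (h0 * c' * h0⁻¹) * ((h0 * X * h0⁻¹) * (h0 * c' * h0⁻¹) * (h0 * X * h0⁻¹)⁻¹) *
            ((h0 * X * h0⁻¹) * (h0 * X * h0⁻¹) * (h0 * c' * h0⁻¹) * ((h0 * X * h0⁻¹) * (h0 * X * h0⁻¹))⁻¹) := by group
        _ = _ := by rw [hhX]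
    have hA1 : A ∈ T.S.Q1 := hA ▸ mul_mem (mul_mem hc' hXc) hXXc
    have hB2 : B ∈ T.S.Q2 := hB ▸ mul_mem (mul_mem hd hXd) hXX
    have hAZ : A ∈ D.Zc := T.S.inf_eq.le ⟨hA1, by
      rw [eq_inv_of_mul_eq_one_left hAB]; exact T.S.Q2.inv_mem hB2⟩
    rw [(D.comm_Zc hz hAZ).eq, mul_inv_cancel_right] at hAh
    have hA0 : A = 1 := eq_one_of_sq_cube (show A * A = 1 by nth_rewrite 2 [hAh]; exact hAB) (D.cube_Zc hAZ)
    have hB0 : (d * X) ^ 3 = 1 := by rw [cube, hX3, mul_one, hB, ← hAh, hA0]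
    obtain ⟨v, hv1, hv⟩ := T.apl_of_cube hd (i := i) (by rw [hXe]; exact hB0) (by rw [hXe]; exact hX)
    rw [hXe] at hv
    have hdJ : d ∈ T.J := by
      have := mul_mem (hv ▸ T.cv_mem v : d * X ∈ T.J) (inv_mem hXJ)
      rwa [mul_inv_cancel_right] at this
    have hcJ : c' ∈ T.J := by
      have := T.norm_J (inv_mem hact.norm) hdJ
      rwa [show h0⁻¹ * d * h0⁻¹⁻¹ = c' by simp only [d]; group] at this
    refine ⟨1, ?_⟩
    rw [one_mul, inv_one, mul_one, ec]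
    exact mul_mem (mul_mem hcJ hdJ) hXJ

/-- The involution commutes with no conjugate of an element of the centraliser of the plane outside it. -/
theorem avoid_h0 {p : G} (hp : p ∈ T.P) (hpJ : p ∉ T.J) (a : G) : ¬ Commute h0 (a * p * a⁻¹) := by
  classical
  haveI : Fact (Nat.Prime 3) := ⟨Nat.prime_three⟩
  intro hpa
  set W0 : Subgroup G := T.B.Stab ⊓ centralizer ({h0} : Set G)
  have hW0m : ∀ {w}, w ∈ W0 ↔ w ∈ T.B.Stab ∧ Commute h0 w := fun {w} => Subgroup.mem_inf.trans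
    (and_congr Iff.rfl (mem_centralizer_singleton_iff.trans ⟨Eq.symm, Eq.symm⟩))
  set K : Subgroup G := centralizer ({h0} : Set G)
  have hW0K : W0 ≤ K := inf_le_right
  have hW0p : IsPGroup 3 (W0.subgroupOf K) := by
    intro w
    obtain ⟨n, hn⟩ := T.B.Stab_pgroup ⟨(w : K), (hW0m.1 (mem_subgroupOf.1 w.2)).1⟩
    exact ⟨n, Subtype.ext (Subtype.ext (by simpa using congrArg Subtype.val hn))⟩
  have hzW : D.z ∈ W0 := hW0m.2 ⟨T.P_le_Stab (T.J_le_P (T.h.z_mem_J T.B T.hx)), hz⟩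
  have hxW : T.x ∈ W0 := hW0m.2 ⟨T.hx, E.h0_x h h2 hz hF hact⟩
  have hnorm : ∀ g : G, Commute h0 g → (∀ w ∈ W0, g * w * g⁻¹ ∈ W0) → (∃ n, g ^ 3 ^ n = 1) → g ∈ T.B.Stab := by
    intro g hgh hgW h3
    obtain ⟨hS, hh⟩ := hW0m.1 (hgW _ hzW)
    have hJ := T.h.pt_mem_J T.B T.hx hS ((Pt.self _).conj g)
    obtain ⟨v, hv⟩ := T.exists_cv hJ
    have hvσ : app sigM v = v := T.cv_inj (by rw [← hact.eq, hv, hh.eq, mul_inv_cancel_right])
    obtain ⟨q1, hq1, hq1h, hq1a⟩ : ∃ q ∈ D.Q, Commute h0 q ∧ T.Act q (uM 1 1) := by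
      obtain ⟨q, hq, hqa⟩ := T.exists_u 1 1
      obtain ⟨d, hd⟩ : ∃ d, h0 * q * h0⁻¹ * q⁻¹ = d := ⟨_, rfl⟩
      have hdP : d ∈ T.P := hd ▸ T.act_of_eq (show T.Act (h0 * q * h0⁻¹) (uM 1 1) from ⟨
        mul_mem (mul_mem hact.norm hqa.norm) (inv_mem hact.norm), fun v => by
          rw [E.h0_inv h h2 hz hF hact, show h0 * q * h0 * T.cv v * (h0 * q * h0)⁻¹ =
            h0 * (q * (h0 * T.cv v * h0⁻¹) * q⁻¹) * h0⁻¹ by group, hact.eq, hqa.eq, hact.eq, ← app_cmp', ← app_cmp']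
          congr 1⟩) hqa
      have hdQ : d ∈ D.Q := hd ▸ D.Q.mul_mem (D.norm_Q h0 hz q hq) (D.Q.inv_mem hq)
      have hd3 : d ^ 3 = 1 := cube_P h hdP
      have hdh : h0 * d * h0⁻¹ = d⁻¹ := by
        have hi := E.h0_inv h h2 hz hF hact
        rw [← hd, show h0 * (h0 * q * h0⁻¹ * q⁻¹) * h0⁻¹ = (h0 * h0) * q * (h0⁻¹ * q⁻¹ * h0⁻¹) by group, h2, one_mul, hi]
        rw [mul_inv_rev, inv_inv, show (h0 * q * h0)⁻¹ = h0⁻¹ * q⁻¹ * h0⁻¹ by group, hi]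
      refine ⟨d ^ 2 * q, D.Q.mul_mem (D.Q.pow_mem hdQ 2) hq, (mul_inv_eq_iff_eq_mul.1 ?_ : _), ?_⟩
      · rw [show h0 * (d ^ 2 * q) * h0⁻¹ = (h0 * d * h0⁻¹) ^ 2 * (h0 * q * h0⁻¹) by rw [conj_pow]; group, hdh,
          show h0 * q * h0⁻¹ = d * q by rw [← hd]; group]
        calc d⁻¹ ^ 2 * (d * q) = (d ^ 3)⁻¹ * d ^ 2 * q := by group
          _ = d ^ 2 * q := by rw [hd3]; group
      · have := T.act_cmp (show T.Act (d ^ 2) oneM from ⟨P_norm (pow_mem hdP 2), fun v => by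
          rw [app_oneM, (T.h.comm_P T.B T.hx (pow_mem hdP 2) (T.cv_mem v)).eq, mul_inv_cancel_right]⟩) hqa
        rwa [one_u11] at this
    have hvu : app (uM 1 1) v = v := by
      have hq1W : q1 ∈ W0 := hW0m.2 ⟨T.B.Q_le_Stab hq1, hq1h⟩
      have hgi : ∀ w ∈ W0, Commute (g * D.z * g⁻¹) w := by
        intro w hw
        have hfin : W0.map (MulAut.conj g).toMonoidHom = W0 := Subgroup.eq_of_le_of_card_ge
          (by rintro _ ⟨y, hy, rfl⟩; exact hgW y hy)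
          (le_of_eq (Subgroup.card_map_of_injective (MulAut.conj g).injective).symm)
        obtain ⟨y, hy, rfl⟩ := hfin.ge hw
        simpa [mul_assoc] using ((hW0m.1 hy).1.1.symm : Commute D.z y).map (MulAut.conj g).toMonoidHom
      exact T.cv_inj (by rw [← hq1a.eq, hv, (hgi q1 hq1W).symm.eq, mul_inv_cancel_right])
    have hgz : Commute g D.z := by
      have hpt : IsPtv v := by
        exact T.isPtv_of_conj (hv ▸ (Pt.self _).conj g : Pt D.z (T.cv v)) (g := 1) (by group)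
      have hpm : g * D.z * g⁻¹ = D.z ∨ g * D.z * g⁻¹ = D.z⁻¹ := by
        rw [← hv]
        rcases moved_pt v hpt hvσ hvu with rfl | rfl
        all_goals
          try rw [show ((2, 0, 0, 0) : V4) = -(1, 0, 0, 0) from neg_z, ← T.cv_inv]
          rw [T.cv_z]
          rcases eps_cases T.ε T.ε_ne with e | e <;> rw [e]
          all_goals simp only [← zp_inv D.z_cube, zp_one, inv_inv, true_or, or_true]
      refine fix_of_sq_fix h3 (mul_inv_eq_iff_eq_mul.1 ?_)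
      rw [show g * g * D.z * (g * g)⁻¹ = g * (g * D.z * g⁻¹) * g⁻¹ by group]
      rcases hpm with e | e <;> rw [e]
      · exact e
      · rw [← conj_inv, e, inv_inv]
    have hgH : g ∈ T.S.HN := by
      refine T.S.mem_HN_of hgz T.B.ha1 T.B.a1_not_Zc ?_
      by_contra hsw
      rcases T.S.conj_half hgz with hh | hh
      · exact hsw (hh _ T.B.ha1)
      obtain ⟨n, hn⟩ := h3
      have heven : ∀ k : ℕ, g ^ (2 * k) * T.B.a1 * (g ^ (2 * k))⁻¹ ∈ T.S.Q1 ∧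
          g ^ (2 * k + 1) * T.B.a1 * (g ^ (2 * k + 1))⁻¹ ∈ T.S.Q2 := by
        have hback : ∀ q ∈ T.S.Q2, g * q * g⁻¹ ∈ T.S.Q1 := (T.S.swap.conj_half hgz).resolve_left fun hh2 => by
          have he : T.S.Q2.map (MulAut.conj g).toMonoidHom = T.S.Q2 := Subgroup.eq_of_le_of_card_ge
            (by rintro _ ⟨y, hy, rfl⟩; exact hh2 y hy)
            (le_of_eq (Subgroup.card_map_of_injective (MulAut.conj g).injective).symm)
          obtain ⟨u, hu, e⟩ := he.ge (hh _ T.B.ha1)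
          have e' : u = T.B.a1 := mul_left_cancel (mul_right_cancel e)
          exact T.B.a1_not_Zc (T.S.inf_eq.le ⟨T.B.ha1, e' ▸ hu⟩)
        intro k
        induction k with
        | zero => exact ⟨by simpa using T.B.ha1, by simpa using hh _ T.B.ha1⟩
        | succ k ih =>
          have e1 := hback _ ih.2
          rw [show g * (g ^ (2 * k + 1) * T.B.a1 * (g ^ (2 * k + 1))⁻¹) * g⁻¹ =
            g ^ (2 * (k + 1)) * T.B.a1 * (g ^ (2 * (k + 1)))⁻¹ by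
              rw [show 2 * (k + 1) = (2 * k + 1) + 1 by ring, pow_succ' g (2 * k + 1)]; group] at e1
          refine ⟨e1, ?_⟩
          have e2 := hh _ e1
          rwa [show g * (g ^ (2 * (k + 1)) * T.B.a1 * (g ^ (2 * (k + 1)))⁻¹) * g⁻¹ =
            g ^ (2 * (k + 1) + 1) * T.B.a1 * (g ^ (2 * (k + 1) + 1))⁻¹ by
              rw [pow_succ' g (2 * (k + 1))]; group] at e2
      obtain ⟨k, hk⟩ := (Odd.pow (by decide : Odd 3) : Odd (3 ^ n))
      have := (heven k).2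
      rw [← hk, hn, one_mul, inv_one, mul_one] at this
      exact T.B.a1_not_Zc (T.S.inf_eq.le ⟨T.B.ha1, this⟩)
    have hxH : T.x ∈ T.S.HN := T.HN_of_Ca (T.J_le_Ca (T.h.x_mem_J T.B T.hx)) T.hx.1
    set gg : T.S.HN := ⟨g, hgH⟩
    set xx : T.S.HN := ⟨T.x, hxH⟩
    have hu3 : T.B.matHom xx ^ 3 = 1 := by
      rw [← map_pow, show xx ^ 3 = 1 from Subtype.ext T.D'.z_cube, map_one]
    have hu1 : T.B.matHom xx ≠ 1 := fun e => (T.h.diag T.B T.hx).1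
      (T.B.k1_eq _ (by simpa [zp_zero] using (T.B.matHom_eq_one.1 e).2))
    have hm3 : T.B.matHom gg ^ 3 = 1 := by
      obtain ⟨n, hn⟩ := h3
      have h81 : T.B.matHom gg ^ 3 ^ n = 1 := by rw [← map_pow, show gg ^ 3 ^ n = 1 from Subtype.ext hn, map_one]
      have h24 : T.B.matHom gg ^ 24 = 1 := by rw [← sl_card.1]; exact pow_card_eq_one'
      have hg' : T.B.matHom gg ^ Nat.gcd (3 ^ n) 24 = 1 := pow_gcd_eq_one.2 ⟨h81, h24⟩
      obtain ⟨r, hr⟩ : Nat.gcd (3 ^ n) 24 ∣ 3 := by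
        have hcop : Nat.Coprime (Nat.gcd (3 ^ n) 24) 8 :=
          Nat.Coprime.coprime_dvd_left (Nat.gcd_dvd_left _ _) ((by norm_num : Nat.Coprime 3 8).pow_left n)
        exact hcop.dvd_of_dvd_mul_right (show Nat.gcd (3 ^ n) 24 ∣ 3 * 8 from Nat.gcd_dvd_right _ _)
      exact (congrArg (fun k => T.B.matHom gg ^ k) hr).trans (by simp only [pow_mul, hg', one_pow])
    have hfx : (T.B.matHom xx).1 0 0 = 1 ∧ (T.B.matHom xx).1 1 0 = 0 := T.B.fix_first (g := xx) T.hx.2.1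
    have hfy : (T.B.matHom (gg * xx * gg⁻¹)).1 0 0 = 1 ∧ (T.B.matHom (gg * xx * gg⁻¹)).1 1 0 = 0 :=
      T.B.fix_first (g := gg * xx * gg⁻¹) (hW0m.1 (hgW _ hxW)).1.2.1
    have hinv : (T.B.matHom gg)⁻¹ = T.B.matHom gg * T.B.matHom gg := inv_eq_of_mul_eq_one_right (by
      rw [← hm3, pow_succ, pow_two]; group)
    rw [map_mul, map_mul, map_inv, hinv, ← mul_assoc] at hfy
    obtain ⟨g00, g10⟩ := sl_fix_first _ _ hu3 hu1 hm3 hfx hfy
    have hga1 : ⁅g, T.B.a1⁆ ∈ D.Zc := matHom_fix_first T.B (g := gg) g00 g10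
    refine ⟨hgz, hga1, ?_⟩
    rw [← E.h0_a1 h h2 hz hF hact, show ⁅g, h0 * T.B.a1 * h0⁻¹⁆ = h0 * ⁅h0⁻¹ * g * h0, T.B.a1⁆ * h0⁻¹ by
      simp only [commutatorElement_def]; group, show h0⁻¹ * g * h0 = g by rw [mul_assoc, ← hgh.eq, inv_mul_cancel_left],
      (D.comm_Zc hz hga1).eq, mul_inv_cancel_right]
    exact hga1
  obtain ⟨S, hS⟩ := hW0p.exists_le_sylow
  have hSW : (S : Subgroup K) = W0.subgroupOf K := by
    refine le_antisymm ?_ hS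
    by_contra hne
    haveI : Group.IsNilpotent (S : Subgroup K) := IsPGroup.isNilpotent S.2
    have hlt : (W0.subgroupOf K).subgroupOf (S : Subgroup K) < ⊤ :=
      lt_top_iff_ne_top.2 fun hh => hne (subgroupOf_eq_top.1 hh)
    obtain ⟨g, hgn, hgW⟩ := SetLike.exists_of_lt (Group.normalizerCondition_of_isNilpotent _ hlt)
    set g0 : G := ((g : K) : G)
    have hgh : Commute h0 g0 := (mem_centralizer_singleton_iff.1 (g : K).2).symm
    refine hgW (mem_subgroupOf.2 (mem_subgroupOf.2 (hW0m.2 ⟨hnorm g0 hgh (fun w hw => ?_) ?_, hgh⟩)))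
    · have := (mem_normalizer_iff.1 hgn ⟨⟨w, hW0K hw⟩, hS (mem_subgroupOf.2 hw)⟩).1 (mem_subgroupOf.2
        (mem_subgroupOf.2 hw))
      simpa [mem_subgroupOf, g0] using this
    · obtain ⟨n, hn⟩ := S.2 g
      exact ⟨n, by simpa [g0] using congrArg (fun w : (S : Subgroup K) => ((w : K) : G)) hn⟩
  have hyK : a * p * a⁻¹ ∈ K := mem_centralizer_singleton_iff.2 hpa.symm
  have hy3 : (a * p * a⁻¹) ^ 3 = 1 := by rw [conj_pow, cube_P h hp]; group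
  have hyp : IsPGroup 3 (zpowers (⟨_, hyK⟩ : K)) := by
    intro w
    obtain ⟨n, hn⟩ := mem_zpowers_iff.1 w.2
    refine ⟨1, Subtype.ext ?_⟩
    rw [pow_one, SubmonoidClass.coe_pow, ← hn, ← zpow_natCast, ← zpow_mul, mul_comm, zpow_mul, zpow_natCast,
      show (⟨_, hyK⟩ : K) ^ 3 = 1 from Subtype.ext hy3, one_zpow]
    rfl
  obtain ⟨S', hS'⟩ := hyp.exists_le_sylow
  obtain ⟨b, hb⟩ := MulAction.exists_smul_eq K S' S
  have hmem : b * ⟨_, hyK⟩ * b⁻¹ ∈ (S : Subgroup K) := by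
    rw [← hb]
    exact ⟨_, hS' (mem_zpowers _), by simp [MulAut.conj_apply]⟩
  rw [hSW, mem_subgroupOf] at hmem
  obtain ⟨hwS, hwh⟩ := hW0m.1 hmem
  simp only [coe_mul, coe_inv] at hwS hwh
  obtain ⟨g, hg⟩ := E.conj_into_J h h2 hz hF hact hwS (by rw [conj_pow, hy3]; group) hwh
  exact E.not_conj_J h hp hpJ (g * b * a) (by
    rwa [show g * b * a * p * (g * b * a)⁻¹ = g * ((b : G) * (a * p * a⁻¹) * (b : G)⁻¹) * g⁻¹ by push_cast; group])

end Scalar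

end Setting

end Cfsg.Lib.U6Three
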