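import Cfsg.Agent.Lib.U6ThreeNine.Base
import Mathlib.GroupTheory.Transfer

/-!
# Transfer of the character of the centraliser of the plane
-/

set_option autoImplicit false
set_option linter.unusedSectionVars false
set_option linter.style.haveILetI false

namespace Cfsg.Lib.U6Three

open Subgroup
open scoped commutatorElement

theorem zmod_three_cube : ∀ a : Multiplicative (ZMod 3), a ^ 3 = 1 := by decide

/-- The transfer of an element of order three centralised by a 3-subgroup whose fixed cosets all give the same value. -/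
theorem transfer_three_ne_one {G : Type*} [Group G] [Finite G] {H : Subgroup G} (hH : ¬ 3 ∣ H.index)
    (f : H →* Multiplicative (ZMod 3)) {J : Subgroup G} (hJ : IsPGroup 3 J) {y : G} (hy3 : y ^ 3 = 1) (hyH : y ∈ H)
    (hcomm : ∀ j ∈ J, Commute j y)
    (hfix : ∀ g : G, (∀ j ∈ J, g⁻¹ * j * g ∈ H) → ∃ hm : g⁻¹ * y * g ∈ H, f ⟨_, hm⟩ = f ⟨y, hyH⟩)
    (hne : f ⟨y, hyH⟩ ≠ 1) : MonoidHom.transfer f y ≠ 1 := by
  classical
  haveI : Fact (Nat.Prime 3) := ⟨Nat.prime_three⟩
  haveI : Fintype (G ⧸ H) := Fintype.ofFinite _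
  letI : Fintype (Quotient (MulAction.orbitRel (zpowers y) (G ⧸ H))) := Fintype.ofFinite _
  let hh : G → Multiplicative (ZMod 3) := fun g => if hm : g⁻¹ * y * g ∈ H then f ⟨_, hm⟩ else 1
  let h : G ⧸ H → Multiplicative (ZMod 3) := fun c => hh c.out
  have hright : ∀ (g : G) (k : H), hh (g * k) = hh g := by
    intro g k
    have e : (g * k)⁻¹ * y * (g * k) = (k : G)⁻¹ * (g⁻¹ * y * g) * k := by group
    by_cases hm : g⁻¹ * y * g ∈ H
    · have hm' : (g * k)⁻¹ * y * (g * k) ∈ H := e ▸ mul_mem (mul_mem (inv_mem k.2) hm) k.2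
      simp only [hh, dif_pos hm, dif_pos hm']
      rw [show (⟨_, hm'⟩ : H) = k⁻¹ * ⟨_, hm⟩ * k from Subtype.ext e, map_mul, map_mul, map_inv,
        mul_comm (f k)⁻¹, inv_mul_cancel_right]
    · have hm' : (g * k)⁻¹ * y * (g * k) ∉ H := fun hh' => hm (by
        have := mul_mem (mul_mem k.2 hh') (inv_mem k.2)
        rwa [e, show (k : G) * ((k : G)⁻¹ * (g⁻¹ * y * g) * k) * (k : G)⁻¹ = g⁻¹ * y * g by group] at this)
      simp only [hh, dif_neg hm, dif_neg hm']
  have hout : ∀ g : G, h (g : G ⧸ H) = hh g := fun g => by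
    obtain ⟨k, hk⟩ := QuotientGroup.mk_out_eq_mul H g
    show hh ((g : G ⧸ H)).out = hh g
    rw [hk, hright]
  have hfixed : ∀ c : G ⧸ H, y • c = c ↔ c.out⁻¹ * y * c.out ∈ H := fun c => by
    conv_lhs => rw [← c.out_eq', MulAction.Quotient.smul_mk, smul_eq_mul, eq_comm, QuotientGroup.eq, ← mul_assoc]
  have hJ' : ∀ (j : J) (c : G ⧸ H), h (j • c) = h c := by
    intro j c
    obtain ⟨g, rfl⟩ := QuotientGroup.mk_surjective c
    show h ((((j : G) * g : G)) : G ⧸ H) = h (g : G ⧸ H)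
    rw [hout, hout]
    have e : ((j : G) * g)⁻¹ * y * ((j : G) * g) = g⁻¹ * y * g := by
      rw [show ((j : G) * g)⁻¹ * y * ((j : G) * g) = g⁻¹ * ((j : G)⁻¹ * (y * j)) * g by group,
        ← (hcomm j j.2).eq, inv_mul_cancel_left]
    simp only [hh, e]
  have hper : ∀ c : G ⧸ H, Function.minimalPeriod (y • ·) c = 1 ∨ Function.minimalPeriod (y • ·) c = 3 := by
    intro c
    refine (Nat.dvd_prime Nat.prime_three).1 (Function.IsPeriodicPt.minimalPeriod_dvd ?_)
    show (y • ·)^[3] c = c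
    rw [smul_iterate, hy3]
    exact one_smul G c
  have hV : MonoidHom.transfer f y = ∏ c, h c := by
    rw [MonoidHom.transfer_eq_prod_quotient_orbitRel_zpowers_quot]
    refine Fintype.prod_of_injective Quotient.out (fun _ _ e => Quotient.out_injective e) _ _ (fun c hc => ?_)
      (fun q => ?_)
    · show hh c.out = 1
      refine dif_neg fun hm => hc ⟨Quotient.mk _ c, ?_⟩
      have hfx : ∀ z, z ∈ MulAction.orbit (zpowers y) c → z = c := by
        rintro z ⟨⟨w, hw⟩, rfl⟩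
        obtain ⟨i, rfl⟩ := mem_zpowers_iff.1 hw
        show y ^ i • c = c
        exact MulAction.mem_stabilizer_iff.1 (zpow_mem (MulAction.mem_stabilizer_iff.2 ((hfixed c).2 hm)) i)
      exact hfx _ (MulAction.orbitRel_apply.1 (Quotient.mk_out (s := MulAction.orbitRel (zpowers y) (G ⧸ H)) c))
    · show _ = hh q.out.out
      rcases hper q.out with e | e
      · have hm := (hfixed q.out).1 (Function.minimalPeriod_eq_one_iff_isFixedPt.1 e)
        simp only [hh, dif_pos hm]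
        congr 1
        exact Subtype.ext (by simp [e])
      · have hm : ¬ q.out.out⁻¹ * y * q.out.out ∈ H := fun hm => by
          have := Function.minimalPeriod_eq_one_iff_isFixedPt.2 (show Function.IsFixedPt (y • ·) q.out from (hfixed q.out).2 hm)
          omega
        simp only [hh, dif_neg hm]
        rw [← map_one f]
        congr 1
        exact Subtype.ext (by simp [e, hy3])
  set v := f ⟨y, hyH⟩
  have hfib : ∀ a : Multiplicative (ZMod 3), a ≠ v → 3 ∣ Nat.card {c // h c = a} := by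
    intro a ha
    letI : MulAction J {c // h c = a} :=
      { smul := fun j c => ⟨j • c.1, (hJ' j c.1).trans c.2⟩
        one_smul := fun c => Subtype.ext (one_smul J c.1)
        mul_smul := fun j k c => Subtype.ext (mul_smul j k c.1) }
    have hno : IsEmpty (MulAction.fixedPoints J {c // h c = a}) := by
      refine ⟨fun ⟨⟨c, hc⟩, hfx⟩ => ha ?_⟩
      obtain ⟨g, rfl⟩ := QuotientGroup.mk_surjective c
      obtain ⟨hm, e⟩ := hfix g fun j hj => by
        have h1 : (((j⁻¹ : G) * g : G) : G ⧸ H) = (g : G ⧸ H) :=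
          congrArg Subtype.val (hfx ⟨j⁻¹, inv_mem hj⟩)
        rw [QuotientGroup.eq] at h1
        simpa [mul_assoc] using h1
      rw [hout] at hc
      simp only [hh, dif_pos hm, e] at hc
      exact hc.symm
    have := hJ.card_modEq_card_fixedPoints {c // h c = a}
    rw [Nat.card_of_isEmpty (α := MulAction.fixedPoints J {c // h c = a})] at this
    exact Nat.modEq_zero_iff_dvd.1 this
  have hind : ¬ 3 ∣ Nat.card {c // h c = v} := fun hd => hH (by
    rw [index_eq_card, ← Nat.card_congr (Equiv.sigmaFiberEquiv h), Nat.card_sigma]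
    refine Finset.dvd_sum fun a _ => ?_
    by_cases ha : a = v
    exacts [ha ▸ hd, hfib a ha])
  rw [hV, ← Fintype.prod_fiberwise' h (fun a => a), Fintype.prod_eq_single v fun a ha => ?_]
  · rw [Finset.prod_const, Finset.card_univ, ← Nat.card_eq_fintype_card]
    intro e
    have hd := orderOf_dvd_of_pow_eq_one e
    rw [orderOf_eq_prime (p := 3) (zmod_three_cube v) hne] at hd
    exact hind hd
  · rw [Finset.prod_const, Finset.card_univ, ← Nat.card_eq_fintype_card]
    obtain ⟨k, hk⟩ := hfib a ha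
    rw [hk, pow_mul, zmod_three_cube a, one_pow]

namespace Setting

variable {G : Type*} [Group G] [Finite G] {D : Data G} (T : Setting D)

/-- The character killing the extraspecial subgroup and the second point. -/
noncomputable def chi : T.B.Stab →* Multiplicative (ZMod 3) :=
  MonoidHom.mk' (fun g => Multiplicative.ofAdd (T.B.k1 ⟨_, T.hx⟩ * T.B.k2 g - T.B.k2 ⟨_, T.hx⟩ * T.B.k1 g))
    fun g g' => by
      rw [← ofAdd_add, T.B.k1_mul, T.B.k2_mul]
      congr 1
      ring

theorem chi_J {w : G} (hw : w ∈ T.J) : T.chi ⟨w, T.J_le_Stab hw⟩ = 1 := by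
  obtain ⟨l, e1, e2⟩ := T.kappa_J hw
  show Multiplicative.ofAdd _ = 1
  rw [e1, e2, ← ofAdd_zero]
  congr 1
  ring

variable {T} (h : ¬ T.IsThree)
include h

/-- A subgroup whose normalising elements fix the centraliser of the plane has a quotient of order three. -/
theorem exists_hom_three {M : Subgroup G} (hle : T.B.Stab ≤ M)
    (hM : ∀ g ∈ M, g ∈ normalizer (T.J : Set G) → g ∈ T.Fix) {y : G} (hy : y ∈ T.P)
    (h1 : T.B.k1 ⟨y, T.P_le_Stab hy⟩ = 0) (h2 : T.B.k2 ⟨y, T.P_le_Stab hy⟩ ≠ 0) :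
    ∃ f : M →* Multiplicative (ZMod 3), f ⟨y, hle (T.P_le_Stab hy)⟩ ≠ 1 := by
  haveI : Fact (Nat.Prime 3) := ⟨Nat.prime_three⟩
  let f : (T.B.Stab.subgroupOf M) →* Multiplicative (ZMod 3) :=
    T.chi.comp (subgroupOfEquivOfLe hle).toMonoidHom
  refine ⟨MonoidHom.transfer f, transfer_three_ne_one ?_ f (J := T.J.subgroupOf M)
    ((T.B.Stab_pgroup.to_le T.J_le_Stab).of_equiv (subgroupOfEquivOfLe (T.J_le_Stab.trans hle)).symm)
    (Subtype.ext (cube_P h hy)) (mem_subgroupOf.2 (T.P_le_Stab hy))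
    (fun j hj => Subtype.ext (T.h.comm_P T.B T.hx hy (mem_subgroupOf.1 hj)).symm.eq) (fun g hg => ?_) ?_⟩
  · obtain ⟨S, hS⟩ := T.exists_sylow
    have := (S.subtype (hS.symm ▸ hle)).not_dvd_index
    rwa [Sylow.coe_subtype, hS] at this
  · have hn : (g : G)⁻¹ ∈ normalizer (T.J : Set G) := T.weakly_closed fun w hw => by
      have := hg ⟨w, hle (T.J_le_Stab hw)⟩ (mem_subgroupOf.2 hw)
      simpa [mem_subgroupOf] using this
    have hj := (hM _ (inv_mem g.2) hn).2 y hy
    rw [inv_inv] at hj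
    have hS : (g : G)⁻¹ * y * g ∈ T.B.Stab := by
      have := T.B.Stab.mul_mem (T.J_le_Stab hj) (T.P_le_Stab hy)
      rwa [inv_mul_cancel_right] at this
    refine ⟨mem_subgroupOf.2 hS, ?_⟩
    show T.chi ⟨_, hS⟩ = T.chi ⟨y, T.P_le_Stab hy⟩
    rw [show (⟨_, hS⟩ : T.B.Stab) = ⟨_, T.J_le_Stab hj⟩ * ⟨y, T.P_le_Stab hy⟩ from
      Subtype.ext (inv_mul_cancel_right _ _).symm, map_mul, T.chi_J hj, one_mul]
  · show T.chi ⟨y, T.P_le_Stab hy⟩ ≠ 1
    show Multiplicative.ofAdd _ ≠ 1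
    rw [h1, mul_zero, sub_zero, ← ofAdd_zero]
    exact fun e => mul_ne_zero (T.h.diag T.B T.hx).1 h2 (Multiplicative.ofAdd.injective e)

theorem card_Stab : Nat.card T.B.Stab = 2187 := by
  obtain ⟨y, hy, h1, h2⟩ := exists_y h
  obtain ⟨hd1, -⟩ := T.h.diag T.B T.hx
  have hs : Function.Surjective T.B.kappa := by
    intro c
    obtain ⟨⟨a, b⟩, rfl⟩ := Multiplicative.ofAdd.surjective c
    set l := a * (T.B.k1 ⟨_, T.hx⟩)⁻¹ with hl
    set m := (b - l * T.B.k2 ⟨_, T.hx⟩) * (T.B.k2 ⟨y, T.P_le_Stab hy⟩)⁻¹ with hm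
    refine ⟨⟨_, zp_mem T.hx l⟩ * ⟨_, zp_mem (T.P_le_Stab hy) m⟩, ?_⟩
    rw [map_mul, T.B.kappa_def, T.B.kappa_def, ← ofAdd_add, Prod.mk_add_mk, T.B.k1_zp ⟨_, T.hx⟩,
      T.B.k1_zp ⟨y, T.P_le_Stab hy⟩, T.B.k2_zp ⟨_, T.hx⟩, T.B.k2_zp ⟨y, T.P_le_Stab hy⟩, h1, mul_zero, add_zero,
      hm, inv_mul_cancel_right₀ h2, hl, inv_mul_cancel_right₀ hd1]
    congr 2
    ring
  have hk : T.B.kappa.ker = D.Q.subgroupOf T.B.Stab := by
    ext g
    exact T.B.kappa_eq_one.trans mem_subgroupOf.symm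
  rw [Subgroup.card_eq_card_quotient_mul_card_subgroup T.B.kappa.ker,
    Nat.card_congr (QuotientGroup.quotientKerEquivOfSurjective _ hs).toEquiv, hk,
    Nat.card_congr (subgroupOfEquivOfLe T.B.Q_le_Stab).toEquiv, D.card_Q]
  simp [Nat.card_eq_fintype_card, ZMod.card]

end Setting

end Cfsg.Lib.U6Three
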